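import Groth.Agent.Localalg.Depth3
import Mathlib.RingTheory.Ideal.AssociatedPrime.Localization

/-!
# The `I`-depth as the infimum of the depths at the primes containing `I`; extension of maps

* `natCast_le_idealDepth_iff_forall` : `n ≤ depth_I M` iff `n ≤ depth M_p` for all primes `p ⊇ I`.
* `le_idealDepth_of_hasSk` : `(S_k)` and `dim M_p ≥ k` on `V(I) ∩ Supp M` give `depth_I M ≥ k`.
* `linearMap_eq_zero` : no maps from modules supported on `V(I)` to modules of `I`-depth `≥ 1`.
* `exists_extend` : maps extend along injections with cokernel supported on `V(I)` if the target has `I`-depth `≥ 2`.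
* `two_le_idealDepth_hom`, `one_le_idealDepth_hom` : depth of `Hom(M, N)`.
* `precomp_bijective`, `bijective_of_off`.
-/

set_option autoImplicit false
universe u v w

open CategoryTheory Abelian IsLocalRing

namespace K967.DepthKit

open Groth.Agent.Localalg.Depth Groth.Agent.Localalg.Depth2 Groth.Agent.Localalg.Depth3

variable {R : Type u} [CommRing R] [IsNoetherianRing R]

theorem exists_prime_depth_eq (I : Ideal R) (n : ℕ) :
    ∀ (M : Type u) [AddCommGroup M] [Module R M] [Module.Finite R M],
      LocCoh.idealDepth I M = n → ∃ (p : Ideal R) (_ : p.IsPrime), I ≤ p ∧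
        LocCoh.depth (Localization.AtPrime p) (LocalizedModule p.primeCompl M) = n := by
  induction n with
  | zero =>
    intro M _ _ _ hM
    obtain ⟨p, hp, hIp⟩ := exists_mem_associatedPrimes_of_idealDepth_eq_zero (by simpa using hM)
    have hpp : p.IsPrime := hp.isPrime
    have : IsNoetherianRing (Localization.AtPrime p) :=
      IsLocalization.isNoetherianRing p.primeCompl _ inferInstance
    refine ⟨p, hpp, hIp, ?_⟩
    have h1 := Module.associatedPrimes.mem_associatedPrimes_atPrime_of_mem_associatedPrimes hp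
    rw [Nat.cast_zero]
    exact idealDepth_eq_zero_of_le_associatedPrime h1 le_rfl
  | succ n ih =>
    intro M _ _ _ hM
    have hIM : I • (⊤ : Submodule R M) ≠ ⊤ := by
      intro h
      rw [idealDepth_eq_top_of_smul_eq_top h] at hM
      exact absurd hM (ENat.top_ne_natCast (n + 1))
    obtain ⟨x, hx, hreg⟩ := exists_regular_of_idealDepth_ne_zero hIM (by rw [hM]; simp)
    have h1 := idealDepth_quotSMulTop_add_one I M x hx hreg
    rw [hM] at h1
    have h2 : LocCoh.idealDepth I (QuotSMulTop x M) = n := by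
      push_cast at h1
      exact ENat.add_left_injective_of_ne_top (by simp) h1
    obtain ⟨p, hp, hIp, hd⟩ := ih (QuotSMulTop x M) h2
    refine ⟨p, hp, hIp, ?_⟩
    have hreg' : IsSMulRegular (LocalizedModule p.primeCompl M)
        (algebraMap R (Localization.AtPrime p) x) := by
      rw [isSMulRegular_localized_iff]
      intro m hm
      exact ⟨1, (Ideal.ne_top_iff_one p).mp hp.ne_top, by
        rw [hreg.right_eq_zero_of_smul hm, smul_zero]⟩
    rw [← depth_localized_quotSMulTop_add_one p M x (hIp hx) hreg', hd]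
    push_cast
    rfl

theorem natCast_le_idealDepth_iff_forall (I : Ideal R) (M : Type u) [AddCommGroup M] [Module R M]
    [Module.Finite R M] (n : ℕ) :
    (n : ℕ∞) ≤ LocCoh.idealDepth I M ↔ ∀ (p : Ideal R) [p.IsPrime], I ≤ p →
      (n : ℕ∞) ≤ LocCoh.depth (Localization.AtPrime p) (LocalizedModule p.primeCompl M) := by
  constructor
  · intro h p _ hp
    exact h.trans (idealDepth_le_depth_localization I M p hp)
  · intro h
    by_cases ht : LocCoh.idealDepth I M = ⊤
    · rw [ht]; exact le_top
    · obtain ⟨m, hm⟩ := ENat.ne_top_iff_exists.mp ht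
      obtain ⟨p, hp, hIp, hd⟩ := exists_prime_depth_eq I m M hm.symm
      rw [← hm, ← hd]
      exact h p hIp

theorem two_le_iff_forall (I : Ideal R) (M : Type u) [AddCommGroup M] [Module R M]
    [Module.Finite R M] :
    2 ≤ LocCoh.idealDepth I M ↔ ∀ (p : Ideal R) [p.IsPrime], I ≤ p →
      2 ≤ LocCoh.depth (Localization.AtPrime p) (LocalizedModule p.primeCompl M) := by
  have := natCast_le_idealDepth_iff_forall I M 2
  exact_mod_cast this

theorem one_le_iff_forall (I : Ideal R) (M : Type u) [AddCommGroup M] [Module R M]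
    [Module.Finite R M] :
    1 ≤ LocCoh.idealDepth I M ↔ ∀ (p : Ideal R) [p.IsPrime], I ≤ p →
      1 ≤ LocCoh.depth (Localization.AtPrime p) (LocalizedModule p.primeCompl M) := by
  have := natCast_le_idealDepth_iff_forall I M 1
  exact_mod_cast this

omit [IsNoetherianRing R] in
theorem depth_localized_eq_top (M : Type u) [AddCommGroup M] [Module R M] (p : Ideal R)
    [hp : p.IsPrime] (h : (⟨p, hp⟩ : PrimeSpectrum R) ∉ Module.support R M) :
    LocCoh.depth (Localization.AtPrime p) (LocalizedModule p.primeCompl M) = ⊤ := by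
  rw [Module.notMem_support_iff] at h
  exact idealDepth_eq_top_of_subsingleton _ _

/-- `(S_k)` together with `dim M_p ≥ k` at all `p ∈ V(I) ∩ Supp M` gives `depth_I M ≥ k`. -/
theorem le_idealDepth_of_hasSk (k : ℕ) (I : Ideal R) (M : Type u) [AddCommGroup M] [Module R M]
    [Module.Finite R M] (hS : LocCoh.HasSk k R M)
    (hdim : ∀ p : PrimeSpectrum R, I ≤ p.asIdeal → p ∈ Module.support R M →
      (k : WithBot ℕ∞) ≤ Module.supportDim (Localization.AtPrime p.asIdeal)
        (LocalizedModule p.asIdeal.primeCompl M)) :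
    (k : ℕ∞) ≤ LocCoh.idealDepth I M := by
  rw [natCast_le_idealDepth_iff_forall]
  intro p hp hIp
  by_cases hps : (⟨p, hp⟩ : PrimeSpectrum R) ∈ Module.support R M
  · have h1 := hS p
    rw [min_eq_left (hdim ⟨p, hp⟩ hIp hps)] at h1
    exact WithBot.coe_le_coe.mp h1
  · rw [depth_localized_eq_top M p hps]
    exact le_top

section Maps

variable {I : Ideal R} {K M N P : Type u} [AddCommGroup K] [Module R K] [AddCommGroup M]
  [Module R M] [AddCommGroup N] [Module R N] [AddCommGroup P] [Module R P]

theorem linearMap_eq_zero [Module.Finite R K] [Module.Finite R P]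
    (hK : Module.support R K ⊆ PrimeSpectrum.zeroLocus (I : Set R))
    (hP : 1 ≤ LocCoh.idealDepth I P) (f : K →ₗ[R] P) : f = 0 := by
  have h1 := ext_subsingleton_of_lt_idealDepth I K hK P 0
    (lt_of_lt_of_le (by simp) hP)
  have h2 : Ext.mk₀ (ModuleCat.ofHom f) = Ext.mk₀ 0 := h1.elim _ _
  have h3 := (Ext.mk₀_bijective _ _).1 h2
  exact ModuleCat.hom_ext_iff.mp h3

theorem exists_extend [Module.Finite R N] [Module.Finite R P] (j : M →ₗ[R] N)
    (hj : Function.Injective j)
    (hN : Module.support R (N ⧸ LinearMap.range j) ⊆ PrimeSpectrum.zeroLocus (I : Set R))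
    (hP : 2 ≤ LocCoh.idealDepth I P) (g : M →ₗ[R] P) : ∃ h : N →ₗ[R] P, h ∘ₗ j = g := by
  have h1 := ext_subsingleton_of_lt_idealDepth I (N ⧸ LinearMap.range j) hN P 1
    (lt_of_lt_of_le (by norm_num) hP)
  let S : ShortComplex (ModuleCat.{u} R) := ShortComplex.mk (ModuleCat.ofHom j)
    (ModuleCat.ofHom (LinearMap.range j).mkQ) (by
      ext x
      simp)
  have hS : S.ShortExact :=
    { exact := by
        rw [ShortComplex.ShortExact.moduleCat_exact_iff_function_exact]
        exact LinearMap.exact_iff.mpr (by simp [S])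
      mono_f := (ModuleCat.mono_iff_injective _).mpr hj
      epi_g := (ModuleCat.epi_iff_surjective _).mpr (Submodule.mkQ_surjective _) }
  obtain ⟨x₂, hx₂⟩ := Ext.contravariant_sequence_exact₁ hS (ModuleCat.of R P)
    (Ext.mk₀ (ModuleCat.ofHom g)) (n₁ := 1) rfl (h1.elim _ _)
  obtain ⟨y, rfl⟩ := (Ext.mk₀_bijective _ _).2 x₂
  rw [Ext.mk₀_comp_mk₀] at hx₂
  have h3 := (Ext.mk₀_bijective _ _).1 hx₂
  exact ⟨y.hom, ModuleCat.hom_ext_iff.mp h3⟩

omit [IsNoetherianRing R] in
theorem support_subset_of_smul (h : ∀ a ∈ I, ∀ x : K, a • x = 0) :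
    Module.support R K ⊆ PrimeSpectrum.zeroLocus (I : Set R) := by
  intro p hp a ha
  by_contra hap
  rw [Module.mem_support_iff'] at hp
  obtain ⟨m, hm⟩ := hp
  exact hm a hap (h a ha m)

theorem injective_of_off [Module.Finite R M] (f : M →ₗ[R] N) (hM : 1 ≤ LocCoh.idealDepth I M)
    (hk : Module.support R (LinearMap.ker f) ⊆ PrimeSpectrum.zeroLocus (I : Set R)) :
    Function.Injective f := by
  rw [← LinearMap.ker_eq_bot, Submodule.eq_bot_iff]
  intro x hx
  have := linearMap_eq_zero hk hM (LinearMap.ker f).subtype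
  exact LinearMap.congr_fun this ⟨x, hx⟩

theorem map_range_zero [Module.Finite R N] [Module.Finite R P] (f : M →ₗ[R] N) (g : N →ₗ[R] P)
    (hc : Module.support R (N ⧸ LinearMap.range f) ⊆ PrimeSpectrum.zeroLocus (I : Set R))
    (hP : 1 ≤ LocCoh.idealDepth I P) (hgf : g ∘ₗ f = 0) : g = 0 := by
  have h1 : LinearMap.range f ≤ LinearMap.ker g := by
    rintro _ ⟨x, rfl⟩
    exact LinearMap.congr_fun hgf x
  have h2 := linearMap_eq_zero hc hP ((LinearMap.range f).liftQ g h1)
  ext x
  exact LinearMap.congr_fun h2 ((LinearMap.range f).mkQ x)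

theorem bijective_of_off [Module.Finite R M] [Module.Finite R N] (f : M →ₗ[R] N)
    (hM : 2 ≤ LocCoh.idealDepth I M) (hN : 1 ≤ LocCoh.idealDepth I N)
    (hk : Module.support R (LinearMap.ker f) ⊆ PrimeSpectrum.zeroLocus (I : Set R))
    (hc : Module.support R (N ⧸ LinearMap.range f) ⊆ PrimeSpectrum.zeroLocus (I : Set R)) :
    Function.Bijective f := by
  have h1 := injective_of_off f (le_trans (by norm_num) hM) hk
  refine ⟨h1, ?_⟩
  obtain ⟨h, hh⟩ := exists_extend f h1 hc hM LinearMap.id
  have h2 : LinearMap.id - f ∘ₗ h = 0 := by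
    refine map_range_zero f _ hc hN ?_
    ext x
    have := LinearMap.congr_fun hh x
    simp only [LinearMap.comp_apply, LinearMap.id_apply] at this
    simp [this]
  intro x
  refine ⟨h x, ?_⟩
  have := LinearMap.congr_fun h2 x
  simp only [LinearMap.sub_apply, LinearMap.id_apply, LinearMap.comp_apply,
    LinearMap.zero_apply] at this
  exact (sub_eq_zero.mp this).symm

/-- If `f : M → N` is an isomorphism off `V(I)` and `depth_I P ≥ 2` then `Hom(N, P) → Hom(M, P)` is bijective. -/
theorem precomp_bijective [Module.Finite R M] [Module.Finite R N] [Module.Finite R P]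
    (f : M →ₗ[R] N) (hP : 2 ≤ LocCoh.idealDepth I P)
    (hk : Module.support R (LinearMap.ker f) ⊆ PrimeSpectrum.zeroLocus (I : Set R))
    (hc : Module.support R (N ⧸ LinearMap.range f) ⊆ PrimeSpectrum.zeroLocus (I : Set R)) :
    Function.Bijective (fun g : N →ₗ[R] P => g ∘ₗ f) := by
  have hP1 : 1 ≤ LocCoh.idealDepth I P := le_trans (by norm_num) hP
  constructor
  · intro g g' h
    have : g - g' = 0 := map_range_zero f _ hc hP1 (by
      ext x
      have := LinearMap.congr_fun h x
      simp only [LinearMap.comp_apply] at this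
      simp [this])
    exact sub_eq_zero.mp this
  · intro g
    have h1 : LinearMap.ker f ≤ LinearMap.ker g := by
      intro x hx
      have := linearMap_eq_zero hk hP1 (g ∘ₗ (LinearMap.ker f).subtype)
      exact LinearMap.congr_fun this ⟨x, hx⟩
    -- `M / ker f → N` is injective
    let j : (M ⧸ LinearMap.ker f) →ₗ[R] N := (LinearMap.ker f).liftQ f le_rfl
    have hj : Function.Injective j := by
      rw [← LinearMap.ker_eq_bot]
      exact Submodule.ker_liftQ_eq_bot _ _ _ le_rfl
    have hr : LinearMap.range j = LinearMap.range f := Submodule.range_liftQ _ _ _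
    have hc' : Module.support R (N ⧸ LinearMap.range j) ⊆ PrimeSpectrum.zeroLocus (I : Set R) := by
      rw [hr]; exact hc
    obtain ⟨h, hh⟩ := exists_extend j hj hc' hP ((LinearMap.ker f).liftQ g h1)
    refine ⟨h, ?_⟩
    ext x
    exact LinearMap.congr_fun hh ((LinearMap.ker f).mkQ x)

theorem one_le_iff_forall_eq_zero (M : Type u) [AddCommGroup M] [Module R M] [Module.Finite R M] :
    1 ≤ LocCoh.idealDepth I M ↔ ∀ x : M, (∀ a ∈ I, a • x = 0) → x = 0 := by
  constructor
  · intro h x hx
    have hk : ∀ a ∈ I, ∀ y : (R ∙ x), a • y = 0 := by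
      rintro a ha ⟨y, hy⟩
      obtain ⟨r, rfl⟩ := Submodule.mem_span_singleton.mp hy
      ext
      simp [smul_comm a r x, hx a ha]
    have := linearMap_eq_zero (support_subset_of_smul hk) h (R ∙ x).subtype
    exact LinearMap.congr_fun this ⟨x, Submodule.mem_span_singleton_self x⟩
  · intro h
    have h0 := natCast_le_idealDepth_iff_ext I M 1
    rw [Nat.cast_one] at h0
    rw [h0]
    intro i hi
    obtain rfl : i = 0 := by omega
    refine ⟨fun a b => ?_⟩
    obtain ⟨a, rfl⟩ := (Ext.mk₀_bijective _ _).2 a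
    obtain ⟨b, rfl⟩ := (Ext.mk₀_bijective _ _).2 b
    congr 1
    have key : ∀ c : ModuleCat.of R (R ⧸ I) ⟶ ModuleCat.of R M, c = 0 := by
      intro c
      refine ModuleCat.hom_ext (LinearMap.ext fun x => ?_)
      obtain ⟨x, rfl⟩ := Ideal.Quotient.mk_surjective x
      have hx : Ideal.Quotient.mk I x = x • (1 : R ⧸ I) := by
        rw [← Ideal.Quotient.algebraMap_eq, Algebra.algebraMap_eq_smul_one]
      rw [hx, map_smul, map_smul]
      have : c.hom (1 : R ⧸ I) = 0 := by
        apply h
        intro a ha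
        rw [← map_smul, ← Algebra.algebraMap_eq_smul_one, Ideal.Quotient.algebraMap_eq,
          Ideal.Quotient.eq_zero_iff_mem.mpr ha, map_zero]
      rw [this]
      rfl
    rw [key a, key b]

/-- `depth_I M ≥ 2` iff `depth_I M ≥ 1` and every linear map `I → M` is multiplication on an element of `M`. -/
theorem two_le_iff_forall_exists (M : Type u) [AddCommGroup M] [Module R M] [Module.Finite R M] :
    2 ≤ LocCoh.idealDepth I M ↔ (1 ≤ LocCoh.idealDepth I M ∧
      ∀ φ : I →ₗ[R] M, ∃ m : M, ∀ i : I, φ i = (i : R) • m) := by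
  constructor
  · intro h
    refine ⟨le_trans (by norm_num) h, fun φ => ?_⟩
    have hc : Module.support R (R ⧸ LinearMap.range I.subtype) ⊆
        PrimeSpectrum.zeroLocus (I : Set R) := by
      apply support_subset_of_smul
      intro a ha x
      obtain ⟨x, rfl⟩ := Submodule.mkQ_surjective _ x
      rw [← map_smul, Submodule.mkQ_apply, Submodule.Quotient.mk_eq_zero, Submodule.range_subtype]
      exact Ideal.mul_mem_right _ _ ha
    obtain ⟨g, hg⟩ := exists_extend (I := I) I.subtype I.injective_subtype hc h φ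
    refine ⟨g 1, fun i => ?_⟩
    rw [← hg, ← map_smul]
    simp
  · rintro ⟨h1, h2⟩
    have h0 := natCast_le_idealDepth_iff_ext I M 2
    rw [Nat.cast_ofNat] at h0
    rw [h0]
    intro i hi
    rcases (by omega : i = 0 ∨ i = 1) with rfl | rfl
    · have h0' := natCast_le_idealDepth_iff_ext I M 1
      rw [Nat.cast_one] at h0'
      exact h0'.mp h1 0 (by omega)
    · let S : ShortComplex (ModuleCat.{u} R) := ShortComplex.mk (ModuleCat.ofHom I.subtype)
        (ModuleCat.ofHom (Submodule.mkQ I)) (by
          ext x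
          simp [Ideal.Quotient.eq_zero_iff_mem])
      have hS : S.ShortExact :=
        { exact := by
            rw [ShortComplex.ShortExact.moduleCat_exact_iff_function_exact]
            exact LinearMap.exact_iff.mpr (by simp [S])
          mono_f := (ModuleCat.mono_iff_injective _).mpr I.injective_subtype
          epi_g := (ModuleCat.epi_iff_surjective _).mpr (Submodule.mkQ_surjective _) }
      have hproj : Projective (ModuleCat.of R R) :=
        (ModuleCat.projective_of_free (ι := PUnit.{u+1}) (b := Module.Basis.singleton PUnit.{u+1} R))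
      refine ⟨fun a b => ?_⟩
      have key : ∀ c : Ext (ModuleCat.of R (R ⧸ I)) (ModuleCat.of R M) 1, c = 0 := by
        intro c
        obtain ⟨x₁, hx₁⟩ := Ext.contravariant_sequence_exact₃ hS (ModuleCat.of R M) c
          (n₀ := 0) (Ext.eq_zero_of_projective _) rfl
        obtain ⟨φ, rfl⟩ := (Ext.mk₀_bijective _ _).2 x₁
        obtain ⟨m, hm⟩ := h2 φ.hom
        have : φ = S.f ≫ ModuleCat.ofHom (LinearMap.toSpanSingleton R M m) := by
          ext i
          simpa [S] using hm i
        rw [← hx₁, this, ← Ext.mk₀_comp_mk₀, ShortComplex.ShortExact.extClass_comp_assoc]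
      rw [key a, key b]

theorem one_le_idealDepth_hom [Module.Finite R M] [Module.Finite R P]
    (hP : 1 ≤ LocCoh.idealDepth I P) : 1 ≤ LocCoh.idealDepth I (M →ₗ[R] P) := by
  rw [one_le_iff_forall_eq_zero] at hP ⊢
  intro f hf
  ext m
  exact hP _ fun a ha => LinearMap.congr_fun (hf a ha) m

open TensorProduct in
theorem two_le_idealDepth_hom [Module.Finite R M] [Module.Finite R P]
    (hP : 2 ≤ LocCoh.idealDepth I P) : 2 ≤ LocCoh.idealDepth I (M →ₗ[R] P) := by
  rw [two_le_iff_forall_exists]
  refine ⟨one_le_idealDepth_hom (le_trans (by norm_num) hP), fun φ => ?_⟩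
  let f : I ⊗[R] M →ₗ[R] M := TensorProduct.lift ((LinearMap.lsmul R M).comp I.subtype)
  have hf : ∀ (i : I) (m : M), f (i ⊗ₜ m) = (i : R) • m := fun i m => rfl
  have key : ∀ (a : R) (ha : a ∈ I) (x : I ⊗[R] M), a • x = (⟨a, ha⟩ : I) ⊗ₜ f x := by
    intro a ha x
    induction x with
    | zero => simp
    | add x y hx hy => rw [smul_add, hx, hy, map_add, TensorProduct.tmul_add]
    | tmul i m =>
      rw [hf, TensorProduct.tmul_smul, TensorProduct.smul_tmul', TensorProduct.smul_tmul']
      congr 1
      ext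
      simp [mul_comm]
  have hk : Module.support R (LinearMap.ker f) ⊆ PrimeSpectrum.zeroLocus (I : Set R) := by
    apply support_subset_of_smul
    rintro a ha ⟨x, hx⟩
    ext
    have h1 := key a ha x
    rw [LinearMap.mem_ker.mp hx, TensorProduct.tmul_zero] at h1
    exact h1
  have hc : Module.support R (M ⧸ LinearMap.range f) ⊆ PrimeSpectrum.zeroLocus (I : Set R) := by
    apply support_subset_of_smul
    intro a ha x
    obtain ⟨x, rfl⟩ := Submodule.mkQ_surjective _ x
    rw [← map_smul, Submodule.mkQ_apply, Submodule.Quotient.mk_eq_zero]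
    exact ⟨(⟨a, ha⟩ : I) ⊗ₜ x, rfl⟩
  obtain ⟨h, hh⟩ := (precomp_bijective f hP hk hc).2 (TensorProduct.lift φ)
  refine ⟨h, fun i => ?_⟩
  ext m
  have := LinearMap.congr_fun hh (i ⊗ₜ m)
  simp only [LinearMap.comp_apply, hf, TensorProduct.lift.tmul] at this
  rw [← this, map_smul, LinearMap.smul_apply]

/-- The depth of `Hom(M, P)` is at least `min(2, depth P)`. -/
theorem le_idealDepth_hom [Module.Finite R M] [Module.Finite R P] (k : ℕ) (hk : k ≤ 2)
    (hP : (k : ℕ∞) ≤ LocCoh.idealDepth I P) : (k : ℕ∞) ≤ LocCoh.idealDepth I (M →ₗ[R] P) := by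
  rcases (by omega : k = 0 ∨ k = 1 ∨ k = 2) with rfl | rfl | rfl
  · simp
  · rw [Nat.cast_one] at hP ⊢
    exact one_le_idealDepth_hom hP
  · rw [Nat.cast_ofNat] at hP ⊢
    exact two_le_idealDepth_hom hP

end Maps

end K967.DepthKit
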