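import Groth.Agent.Localalg.VanTors
import Groth.Agent.Flat2G.NoethVanish
import Groth.Agent.CurvesB.DimPts
import Groth.Agent.Sga2.PicThick

/-!
# Vanishing of cohomology for modules supported in fibre codimension two

* `fiber_dim_le`: a closed subscheme all of whose points have codimension at least `c` in the fibres
  has fibres of dimension at most `d` if the ambient fibres have dimension at most `d + c`;
* `subsingleton_HH`: for `X → Y` proper over an affine Noetherian base with fibres of dimension at most
  `d + c` and `F` quasi-coherent whose support has fibre codimension at least `c`, `H^p(X, F) = 0` for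
  `p > d`.
-/

set_option autoImplicit false
universe u
open CategoryTheory CategoryTheory.Limits AlgebraicGeometry TopologicalSpace

namespace K967.SuppVan

open Groth.Agent Order

/-- `dim closure {x} + dim O_x ≤ dim X`, in terms of chains. -/
theorem length_add_le {X : Scheme.{u}} (p : LTSeries X) {n : ℕ} (hn : topologicalKrullDim X ≤ n) {c : ℕ}
    (hc : (c : WithBot ℕ∞) ≤ ringKrullDim (X.presheaf.stalk p.last)) : p.length + c ≤ n := by
  rw [ringKrullDim_stalk_eq_coheight] at hc
  have hc' : (c : ℕ∞) ≤ coheight p.last := by exact_mod_cast hc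
  have h1 : (p.length : ℕ∞) ≤ height p.last := length_le_height_last
  have : Nonempty X := ⟨p.last⟩
  have h2 : ((height p.last + coheight p.last : ℕ∞) : WithBot ℕ∞) ≤ krullDim X := by
    rw [krullDim_eq_iSup_height_add_coheight_of_nonempty]
    exact_mod_cast le_iSup (fun a : X => height a + coheight a) p.last
  rw [← CurvesB.DimPts.krullDim_eq] at h2
  have h3 : (p.length : ℕ∞) + c ≤ height p.last + coheight p.last := add_le_add h1 hc'
  have h4 : (((p.length + c : ℕ) : ℕ∞) : WithBot ℕ∞) ≤ ((n : ℕ∞) : WithBot ℕ∞) := by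
    refine le_trans ?_ (h2.trans hn)
    push_cast
    exact_mod_cast h3
  exact_mod_cast h4

/-- Points of the fibre of a subscheme as points of the ambient fibre. -/
noncomputable def toFib {W X S : Scheme.{u}} (i : W ⟶ X) (f : X ⟶ S) (s : S) (w : (i ≫ f).fiber s) :
    f.fiber s :=
  (f.fiberHomeo s).symm ⟨i ((i ≫ f).fiberι s w), ((i ≫ f).fiberHomeo s w).2⟩

theorem fiberι_toFib {W X S : Scheme.{u}} (i : W ⟶ X) (f : X ⟶ S) (s : S) (w : (i ≫ f).fiber s) :
    f.fiberι s (toFib i f s w) = i ((i ≫ f).fiberι s w) :=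
  f.fiberι_fiberHomeo_symm s _

theorem specializes_toFib_iff {W X S : Scheme.{u}} (i : W ⟶ X) [IsClosedImmersion i] (f : X ⟶ S) (s : S)
    (w w' : (i ≫ f).fiber s) : toFib i f s w ⤳ toFib i f s w' ↔ w ⤳ w' := by
  rw [← (f.fiberι s).isEmbedding.isInducing.specializes_iff, fiberι_toFib, fiberι_toFib,
    i.isClosedEmbedding.isInducing.specializes_iff,
    ((i ≫ f).fiberι s).isEmbedding.isInducing.specializes_iff]

theorem ringKrullDim_eq {X S : Scheme.{u}} (f : X ⟶ S) (s : S) (x : X) (hx : f x = s) (y : f.fiber s)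
    (hy : f.fiberι s y = x) : ringKrullDim ((f.fiber s).presheaf.stalk y) =
      ringKrullDim ((f.fiber (f x)).presheaf.stalk (f.asFiber x)) := by
  subst hx
  have h : y = f.asFiber x := (f.fiberι (f x)).isEmbedding.injective (by rw [hy, f.fiberι_asFiber])
  rw [h]

/-- A closed subscheme all of whose points have codimension at least `c` in the fibres. -/
theorem fiber_dim_le {W X S : Scheme.{u}} (i : W ⟶ X) [IsClosedImmersion i] (f : X ⟶ S) (d c : ℕ)
    (hd : ∀ s : S, topologicalKrullDim ↥(f.fiber s) ≤ (d + c : ℕ))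
    (h : ∀ w : W, (c : WithBot ℕ∞) ≤
      ringKrullDim ((f.fiber (f (i w))).presheaf.stalk (f.asFiber (i w)))) (s : S) :
    topologicalKrullDim ↥((i ≫ f).fiber s) ≤ d := by
  rw [CurvesB.DimPts.krullDim_eq]
  refine iSup_le fun p => ?_
  have hmono : StrictMono (toFib i f s) := by
    intro w w' hw
    refine lt_of_le_not_ge ((specializes_toFib_iff i f s w' w).2 hw.le) fun h2 => hw.not_ge ?_
    exact (specializes_toFib_iff i f s w w').1 h2
  have key := length_add_le (p.map _ hmono) (hd s) (c := c) (by
    change (c : WithBot ℕ∞) ≤ ringKrullDim ((f.fiber s).presheaf.stalk (toFib i f s p.last))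
    rw [ringKrullDim_eq f s (i ((i ≫ f).fiberι s p.last)) ((i ≫ f).fiberHomeo s p.last).2 _
      (fiberι_toFib i f s p.last)]
    exact h _)
  have h13 : (p.map _ hmono).length = p.length := rfl
  have : p.length ≤ d := by omega
  exact_mod_cast this

variable {X S : Scheme.{u}} (f : X ⟶ S) [IsProper f] [IsAffine S] [IsLocallyNoetherian S] (d c : ℕ)
  (hd : ∀ s : S, topologicalKrullDim ↥(f.fiber s) ≤ (d + c : ℕ))

include hd

/-- Coherent case. -/
theorem subsingleton_HH_coh (F : X.Modules) (hF : Coh.IsCoh F)
    (h : ∀ x ∈ CohB1.support F, (c : WithBot ℕ∞) ≤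
      ringKrullDim ((f.fiber (f x)).presheaf.stalk (f.asFiber x))) (p : ℕ) (hp : d < p) :
    Subsingleton (Coh.HH X F p) := by
  let J := Groth.Agent.Ega1.AnnIdeal.annIdeal F hF.1 hF.2
  have hJ : ClSub.KilledByIdeal J F :=
    fun U a ha m => (Groth.Agent.Ega1.AnnIdeal.mem_annIdeal F hF.1 hF.2 U a).mp ha m
  have hJs : (J.support : Set X) = CohB1.support F :=
    Groth.Agent.Ega1.AnnIdeal.support_annIdeal F hF.1 hF.2
  let i := J.subschemeι
  have hk : ClSub.KilledByIdeal i.ker F := by
    rw [Scheme.IdealSheafData.ker_subschemeι]; exact hJ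
  let N := (Scheme.Modules.pullback i).obj F
  have hN : Coh.IsQCoh N := Groth.Agent.FormalA.PullbackQC.isQCoh_pullback i F hF.1
  have e : (Scheme.Modules.pushforward i).obj N ≅ F := Groth.Agent.FormalA.ClosedImm.pushPullIso i hk
  have hi : ∀ y : J.subscheme, (c : WithBot ℕ∞) ≤
      ringKrullDim ((f.fiber (f (i y))).presheaf.stalk (f.asFiber (i y))) := by
    intro y
    refine h _ (hJs.subset ?_)
    rw [← Scheme.IdealSheafData.range_subschemeι]
    exact Set.mem_range_self y
  have h1 : Subsingleton (Coh.HH J.subscheme N p) :=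
    Flat2G.NoethVanish.subsingleton_HH (i ≫ f) d (fiber_dim_le i f d c hd hi) N hN p hp
  have h2 := Groth.Agent.Sga2.PicThick.subsingleton_HH_pushforward i N p h1
  exact Groth.Agent.CohqB.LocBaseHH.subsingleton_of_iso e p h2

/-- `H^p(X, F) = 0` for `p > d` and `F` quasi-coherent supported in fibre codimension at least `c`, the
fibres of `X` having dimension at most `d + c`. -/
theorem subsingleton_HH (F : X.Modules) (hF : Coh.IsQCoh F)
    (h : ∀ x ∈ CohB1.support F, (c : WithBot ℕ∞) ≤
      ringKrullDim ((f.fiber (f x)).presheaf.stalk (f.asFiber x))) (p : ℕ) (hp : d < p) :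
    Subsingleton (Coh.HH X F p) := by
  have : CompactSpace X := QuasiCompact.compactSpace_of_compactSpace f
  have : IsLocallyNoetherian X := LocallyOfFiniteType.isLocallyNoetherian f
  have : IsNoetherian X := {}
  have : X.IsSeparated := ⟨by
    rw [← terminal.comp_from f]
    infer_instance⟩
  obtain ⟨q, rfl⟩ : ∃ q, p = q + 1 := ⟨p - 1, by omega⟩
  exact Localalg.VanTors.subsingleton_HH_of_sub q F hF fun G i _ hG =>
    subsingleton_HH_coh f d c hd G hG (fun x hx => h x
      (CohqB.DevSupport.support_subset_of_mono i hx)) _ hp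

end K967.SuppVan
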