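import Groth.Prelude.Def_FlatCA
import Groth.Prelude.Def_EGA4b
import Mathlib.RingTheory.Flat.Equalizer
import Mathlib.RingTheory.Flat.Stability
import Mathlib.Algebra.Module.LocalizedModule.Exact
import Groth.Agent.Divis.FlatExt

/-!
# Reduction modulo `m` of exact sequences of `B`-modules which are flat over `A` off `V(J)`
-/

set_option autoImplicit false
universe u

open TensorProduct

namespace K967.FibTor

section Q

variable {B : Type u} [CommRing B] (I : Ideal B)

/-- `M/IM`. -/
abbrev Q (M : Type u) [AddCommGroup M] [Module B M] : Type u := M ⧸ (I • (⊤ : Submodule B M))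

variable {X Y Z : Type u} [AddCommGroup X] [Module B X] [AddCommGroup Y] [Module B Y]
  [AddCommGroup Z] [Module B Z]

/-- The induced map `X/IX → Y/IY`. -/
def qmap (f : X →ₗ[B] Y) : Q I X →ₗ[B] Q I Y :=
  Submodule.mapQ _ _ f (by
    rw [← Submodule.map_le_iff_le_comap, Submodule.map_smul'']
    exact Submodule.smul_mono le_rfl le_top)

theorem qmap_mk (f : X →ₗ[B] Y) (x : X) :
    qmap I f (Submodule.Quotient.mk x) = Submodule.Quotient.mk (f x) := rfl

theorem qmap_surjective (f : X →ₗ[B] Y) (hf : Function.Surjective f) :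
    Function.Surjective (qmap I f) := by
  intro y
  obtain ⟨y, rfl⟩ := Submodule.Quotient.mk_surjective _ y
  obtain ⟨x, rfl⟩ := hf y
  exact ⟨Submodule.Quotient.mk x, rfl⟩

theorem qmap_exact (f : X →ₗ[B] Y) (g : Y →ₗ[B] Z) (hfg : Function.Exact f g)
    (hg : Function.Surjective g) : Function.Exact (qmap I f) (qmap I g) := by
  intro y
  obtain ⟨y, rfl⟩ := Submodule.Quotient.mk_surjective _ y
  constructor
  · intro hy
    rw [qmap_mk, Submodule.Quotient.mk_eq_zero] at hy
    have h1 : (I • (⊤ : Submodule B Z)) = (I • (⊤ : Submodule B Y)).map g := by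
      rw [Submodule.map_smul'', Submodule.map_top, LinearMap.range_eq_top.mpr hg]
    rw [h1] at hy
    obtain ⟨y', hy', hyy⟩ := hy
    obtain ⟨x, hx⟩ := (hfg (y - y')).mp (by rw [map_sub, hyy, sub_self])
    refine ⟨Submodule.Quotient.mk x, ?_⟩
    rw [qmap_mk, hx, Submodule.Quotient.eq]
    have : y - y' - y = - y' := by abel
    rw [this]
    exact neg_mem hy'
  · rintro ⟨x, hx⟩
    obtain ⟨x, rfl⟩ := Submodule.Quotient.mk_surjective _ x
    rw [← hx, qmap_mk, qmap_mk, hfg.apply_apply_eq_zero]
    rfl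

end Q

theorem mem_of_flat {A : Type u} [CommRing A] (I : Ideal A) {X Y Z : Type u} [AddCommGroup X]
    [Module A X] [AddCommGroup Y] [Module A Y] [AddCommGroup Z] [Module A Z] [Module.Flat A Z]
    (f : X →ₗ[A] Y) (g : Y →ₗ[A] Z) (hf : Function.Injective f) (hfg : Function.Exact f g)
    (hg : Function.Surjective g) (x : X) (hx : f x ∈ I • (⊤ : Submodule A Y)) :
    x ∈ I • (⊤ : Submodule A X) := by
  have h1 := LinearMap.lTensor_injective_of_exact_of_flat g hg f hf hfg (A ⧸ I)
  have key : ∀ (M : Type u) [AddCommGroup M] [Module A M] (y : M),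
      ((1 : A ⧸ I) ⊗ₜ[A] y = 0) ↔ y ∈ I • (⊤ : Submodule A M) := by
    intro M _ _ y
    rw [← (TensorProduct.quotTensorEquivQuotSMul M I).map_eq_zero_iff,
      ← Submodule.Quotient.mk_eq_zero]
    have : TensorProduct.quotTensorEquivQuotSMul M I ((1 : A ⧸ I) ⊗ₜ[A] y) =
        Submodule.Quotient.mk y :=
      TensorProduct.quotTensorEquivQuotSMul_mk_one_tmul I y
    rw [this]
  rw [← key] at hx ⊢
  apply h1
  rw [LinearMap.lTensor_tmul, hx, map_zero]

section AB

variable {A B : Type u} [CommRing A] [CommRing B] [Algebra A B]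
  {X Y Z : Type u} [AddCommGroup X] [Module B X] [Module A X] [IsScalarTower A B X]
  [AddCommGroup Y] [Module B Y] [Module A Y] [IsScalarTower A B Y]
  [AddCommGroup Z] [Module B Z] [Module A Z] [IsScalarTower A B Z]
  (f : X →ₗ[B] Y) (g : Y →ₗ[B] Z)

/-- The localization of a map, as an `A`-linear map. -/
noncomputable def lmap (q : Ideal B) [q.IsPrime] (f : X →ₗ[B] Y) :
    LocalizedModule q.primeCompl X →ₗ[A] LocalizedModule q.primeCompl Y :=
  (IsLocalizedModule.map q.primeCompl (LocalizedModule.mkLinearMap q.primeCompl X)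
    (LocalizedModule.mkLinearMap q.primeCompl Y) f).restrictScalars A

theorem lmap_mk (q : Ideal B) [q.IsPrime] (f : X →ₗ[B] Y) (x : X) :
    lmap (A := A) q f (LocalizedModule.mkLinearMap q.primeCompl X x) =
      LocalizedModule.mkLinearMap q.primeCompl Y (f x) :=
  IsLocalizedModule.map_apply q.primeCompl _ _ f x

theorem lmap_injective (q : Ideal B) [q.IsPrime] (f : X →ₗ[B] Y) (hf : Function.Injective f) :
    Function.Injective (lmap (A := A) q f) :=
  IsLocalizedModule.map_injective q.primeCompl _ _ f hf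

theorem lmap_surjective (q : Ideal B) [q.IsPrime] (f : X →ₗ[B] Y) (hf : Function.Surjective f) :
    Function.Surjective (lmap (A := A) q f) :=
  IsLocalizedModule.map_surjective q.primeCompl _ _ f hf

theorem lmap_exact (q : Ideal B) [q.IsPrime] (hfg : Function.Exact f g) :
    Function.Exact (lmap (A := A) q f) (lmap (A := A) q g) :=
  IsLocalizedModule.map_exact q.primeCompl _ _ _ f g hfg

theorem flatAt_left (hf : Function.Injective f) (hfg : Function.Exact f g)
    (hg : Function.Surjective g) (q : Ideal B) [q.IsPrime] (hY : FlatCA.FlatAt A q Y)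
    (hZ : FlatCA.FlatAt A q Z) : FlatCA.FlatAt A q X := by
  have h1 : Module.Flat A (LocalizedModule q.primeCompl Y) := hY
  have h2 : Module.Flat A (LocalizedModule q.primeCompl Z) := hZ
  exact Groth.Agent.Divis.FlatExt.flat_of_exact_left (lmap_injective (A := A) q f hf)
    (lmap_exact f g q hfg) (lmap_surjective (A := A) q g hg)

theorem exists_smul_mem (hf : Function.Injective f) (hfg : Function.Exact f g)
    (hg : Function.Surjective g) (m : Ideal A) (q : Ideal B) [q.IsPrime]
    (hZ : FlatCA.FlatAt A q Z) (x : X)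
    (hx : f x ∈ (m.map (algebraMap A B)) • (⊤ : Submodule B Y)) :
    ∃ s : B, s ∉ q ∧ s • x ∈ (m.map (algebraMap A B)) • (⊤ : Submodule B X) := by
  have : Module.Flat A (LocalizedModule q.primeCompl Z) := hZ
  have hx' : f x ∈ m • (⊤ : Submodule A Y) := by
    have h := Ideal.smul_restrictScalars m (⊤ : Submodule B Y)
    rw [Submodule.restrictScalars_top] at h
    rw [← h]
    exact hx
  have h1 : lmap (A := A) q f (LocalizedModule.mkLinearMap q.primeCompl X x) ∈
      m • (⊤ : Submodule A (LocalizedModule q.primeCompl Y)) := by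
    rw [lmap_mk]
    have h2 : (m • (⊤ : Submodule A Y)).map
        ((LocalizedModule.mkLinearMap q.primeCompl Y).restrictScalars A) ≤
        m • (⊤ : Submodule A (LocalizedModule q.primeCompl Y)) := by
      rw [Submodule.map_smul'']
      exact Submodule.smul_mono le_rfl le_top
    exact h2 ⟨f x, hx', rfl⟩
  have h3 := mem_of_flat m (lmap (A := A) q f) (lmap (A := A) q g) (lmap_injective q f hf)
    (lmap_exact f g q hfg) (lmap_surjective q g hg) _ h1
  -- pass to `(X/mX)_q`
  let 𝔪 := m.map (algebraMap A B)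
  let π : X →ₗ[B] Q 𝔪 X := (𝔪 • (⊤ : Submodule B X)).mkQ
  let π' := IsLocalizedModule.map q.primeCompl (LocalizedModule.mkLinearMap q.primeCompl X)
    (LocalizedModule.mkLinearMap q.primeCompl (Q 𝔪 X)) π
  have hkill : ∀ (a : A) (_ : a ∈ m) (y : LocalizedModule q.primeCompl (Q 𝔪 X)), algebraMap A B a • y = 0 := by
    intro a ha y
    induction y using LocalizedModule.induction_on with
    | h y s =>
      obtain ⟨y, rfl⟩ := Submodule.Quotient.mk_surjective _ y
      have h6 : algebraMap A B a • y ∈ 𝔪 • (⊤ : Submodule B X) :=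
        Submodule.smul_mem_smul (Ideal.mem_map_of_mem _ ha) Submodule.mem_top
      rw [LocalizedModule.smul'_mk, ← Submodule.Quotient.mk_smul,
        (Submodule.Quotient.mk_eq_zero _).mpr h6, LocalizedModule.zero_mk]
  have h4 : ∀ z ∈ m • (⊤ : Submodule A (LocalizedModule q.primeCompl X)), π' z = 0 := by
    intro z hz
    refine Submodule.smul_induction_on hz ?_ ?_
    · intro a ha z _
      rw [← algebraMap_smul B a z, map_smul, hkill a ha]
    · intro z z' hz hz'
      rw [map_add, hz, hz', add_zero]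
  have h5 := h4 _ h3
  rw [IsLocalizedModule.map_apply] at h5
  obtain ⟨s, hs⟩ := (IsLocalizedModule.eq_zero_iff q.primeCompl
    (LocalizedModule.mkLinearMap q.primeCompl (Q 𝔪 X))).mp h5
  refine ⟨s, s.2, ?_⟩
  rw [← Submodule.Quotient.mk_eq_zero]
  exact hs

/-- The kernel of `X/mX → Y/mY` is supported on `V(J)` if `Z` is flat over `A` off `V(J)`. -/
theorem support_ker_qmap (hf : Function.Injective f) (hfg : Function.Exact f g)
    (hg : Function.Surjective g) (m : Ideal A) (J : Ideal B)
    (hZ : ∀ q : PrimeSpectrum B, ¬ J ≤ q.asIdeal → FlatCA.FlatAt A q.asIdeal Z) :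
    Module.support B (LinearMap.ker (qmap (m.map (algebraMap A B)) f)) ⊆
      PrimeSpectrum.zeroLocus (J : Set B) := by
  intro q hq
  change J ≤ q.asIdeal
  by_contra hJ
  rw [Module.mem_support_iff'] at hq
  obtain ⟨⟨x, hx⟩, hm⟩ := hq
  obtain ⟨x, rfl⟩ := Submodule.Quotient.mk_surjective _ x
  rw [LinearMap.mem_ker, qmap_mk, Submodule.Quotient.mk_eq_zero] at hx
  obtain ⟨s, hs, hsx⟩ := exists_smul_mem f g hf hfg hg m q.asIdeal (hZ q hJ) x hx
  refine hm s hs ?_
  apply Subtype.ext
  change s • Submodule.Quotient.mk x = (0 : Q _ X)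
  rw [← Submodule.Quotient.mk_smul, Submodule.Quotient.mk_eq_zero]
  exact hsx

end AB

end K967.FibTor
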