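import Groth.Agent.SDiv.K476.HomSh1
import Groth.Agent.Divis.ReflexSheaf
import Groth.Prelude.Def_RelCanon

/-!
# The sheaf Hom and the unit of restriction to an open

If `G → j_* j^* G` is an isomorphism then so is `𝓗om(N, G) → j_* j^* 𝓗om(N, G)`, for every `N`.
-/

set_option autoImplicit false
universe u
open CategoryTheory CategoryTheory.Limits AlgebraicGeometry TopologicalSpace Opposite

noncomputable section

namespace K967.HomUnit

open RefHull Groth.Agent.CycB.StalkExact Groth.Agent.Ega1.QCohLoc K476.HomSh1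

variable {X : Scheme.{u}} {N G : X.Modules}

theorem germ_res (M : X.Modules) {U V : X.Opens} (h : V ≤ U) (x : X) (hx : x ∈ V) (s : Γ(M, U)) :
    M.presheaf.germ V x hx (res M h s) = M.presheaf.germ U x (h hx) s :=
  TopCat.Presheaf.germ_res_apply _ _ _ _ _

theorem germ_resO {U V : X.Opens} (h : V ≤ U) (x : X) (hx : x ∈ V) (s : Γ(X, U)) :
    X.presheaf.germ V x hx (resO h s) = X.presheaf.germ U x (h hx) s :=
  TopCat.Presheaf.germ_res_apply _ _ _ _ _

section Glue

variable (V : X.Opens) (n : ∀ (W : X.Opens), W ≤ V → (Γ(N, W) →ₗ[Γ(X, W)] Γ(G, W)))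
  (hn : ∀ (W W' : X.Opens) (hW : W ≤ V) (h : W' ≤ W) (m : Γ(N, W)),
    n W' (h.trans hW) (res N h m) = res G h (n W hW m))

/-- The value of the family on a germ. -/
def val (x : X) (hx : x ∈ V) (W : X.Opens) (hW : x ∈ W) : Γ(N, W) →+ G.presheaf.stalk x :=
  ((G.presheaf.germ (W ⊓ V) x ⟨hW, hx⟩).hom.comp
    (n (W ⊓ V) inf_le_right).toAddMonoidHom).comp (res N (inf_le_left : W ⊓ V ≤ W))

theorem val_apply (x : X) (hx : x ∈ V) (W : X.Opens) (hW : x ∈ W) (m : Γ(N, W)) :
    val V n x hx W hW m = G.presheaf.germ (W ⊓ V) x ⟨hW, hx⟩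
      (n (W ⊓ V) inf_le_right (res N (inf_le_left : W ⊓ V ≤ W) m)) := rfl

include hn in
theorem val_res (x : X) (hx : x ∈ V) (W W' : X.Opens) (h : W' ≤ W) (hW' : x ∈ W') (m : Γ(N, W)) :
    val V n x hx W' hW' (res N h m) = val V n x hx W (h hW') m := by
  rw [val_apply, val_apply, res_res]
  have h1 := hn (W ⊓ V) (W' ⊓ V) inf_le_right (inf_le_inf_right V h)
    (res N (inf_le_left : W ⊓ V ≤ W) m)
  rw [res_res] at h1
  rw [h1, germ_res]

/-- The cocone for the stalk map of a compatible family of maps on sections. -/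
def cocone (x : X) (hx : x ∈ V) : Cocone ((OpenNhds.inclusion x).op ⋙ N.presheaf) where
  pt := G.presheaf.stalk x
  ι :=
    { app := fun W => AddCommGrpCat.ofHom (val V n x hx W.unop.1 W.unop.2)
      naturality := fun W W' i => by
        ext m
        exact val_res V n hn x hx W.unop.1 W'.unop.1 i.unop.le W'.unop.2 m }

/-- The stalk map of a compatible family of maps on sections. -/
def stalkFam (x : X) (hx : x ∈ V) : N.presheaf.stalk x ⟶ G.presheaf.stalk x :=
  colimit.desc _ (cocone V n hn x hx)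

theorem stalkFam_germ (x : X) (hx : x ∈ V) (W : X.Opens) (hW : x ∈ W) (m : Γ(N, W)) :
    stalkFam V n hn x hx (N.presheaf.germ W x hW m) = val V n x hx W hW m := by
  change (N.presheaf.germ W x hW ≫ stalkFam V n hn x hx).hom m = _
  have e : N.presheaf.germ W x hW ≫ stalkFam V n hn x hx =
      (cocone V n hn x hx).ι.app (op ⟨W, hW⟩) :=
    colimit.ι_desc _ _
  rw [e]
  rfl

/-- The stalk map as a linear map. -/
def stalkFamₗ (x : X) (hx : x ∈ V) : StalkHom N G x where
  toFun := stalkFam V n hn x hx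
  map_add' := map_add _
  map_smul' a t := by
    obtain ⟨Ua, ha, r, rfl⟩ := TopCat.Presheaf.exists_germ_eq X.presheaf a
    obtain ⟨Ut, ht, m, rfl⟩ := TopCat.Presheaf.exists_germ_eq N.presheaf t
    rw [← germ_resO (inf_le_left : Ua ⊓ Ut ≤ Ua) x ⟨ha, ht⟩,
      ← germ_res N (inf_le_right : Ua ⊓ Ut ≤ Ut) x ⟨ha, ht⟩,
      ← Mero.germ_smul, stalkFam_germ, stalkFam_germ, val_apply, val_apply, res_smul, map_smul,
      Mero.germ_smul, germ_resO]
    rfl

/-- The section of the sheaf Hom defined by a compatible family of maps on sections. -/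
def secOf : Γ(homSh N G, V) :=
  ⟨fun x => stalkFamₗ V n hn x.1 x.2, fun W i m x =>
    ⟨W, x.2, 𝟙 W, n W i.le m, fun y => by
      change stalkFam V n hn y.1 _ (N.presheaf.germ W y.1 _ m) = _
      rw [stalkFam_germ, val_apply]
      have h1 := hn W (W ⊓ V) i.le inf_le_left m
      rw [h1, germ_res]⟩⟩

theorem secMap_secOf (W : X.Opens) (hW : W ≤ V) (m : Γ(N, W)) :
    secMap (secOf V n hn) hW m = n W hW m := by
  refine sec_ext G (fun x hx => ?_)
  rw [germ_secMap]
  change stalkFam V n hn x _ (N.presheaf.germ W x _ m) = _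
  rw [stalkFam_germ, val_apply, hn W (W ⊓ V) hW inf_le_left m, germ_res]

end Glue

section Unit

variable (U : X.Opens) (hG : ∀ V : X.Opens, Function.Bijective (res G (inf_le_left : V ⊓ U ≤ V)))

include hG

theorem res_injective (V : X.Opens) :
    Function.Injective (res (homSh N G) (inf_le_left : V ⊓ U ≤ V)) := by
  intro g h hgh
  refine homSec_ext_secMap (fun W hW m => ?_)
  apply (hG W).1
  have hle : W ⊓ U ≤ V ⊓ U := inf_le_inf_right U hW
  have key : ∀ g : Γ(homSh N G, V), res G (inf_le_left : W ⊓ U ≤ W) (secMap g hW m) =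
      secMap (res (homSh N G) (inf_le_left : V ⊓ U ≤ V) g) hle
        (res N (inf_le_left : W ⊓ U ≤ W) m) := by
    intro g
    rw [secMap_res_left, ← secMap_res g hW]
  rw [key, key, hgh]

theorem res_surjective (V : X.Opens) :
    Function.Surjective (res (homSh N G) (inf_le_left : V ⊓ U ≤ V)) := by
  intro g
  have hle : ∀ {W : X.Opens}, W ≤ V → W ⊓ U ≤ V ⊓ U := fun hW => inf_le_inf_right U hW
  let e (W : X.Opens) : Γ(G, W) ≃+ Γ(G, W ⊓ U) :=
    AddEquiv.ofBijective (res G (inf_le_left : W ⊓ U ≤ W)) (hG W)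
  have he : ∀ (W : X.Opens) (t : Γ(G, W ⊓ U)),
      res G (inf_le_left : W ⊓ U ≤ W) ((e W).symm t) = t := fun W t => (e W).apply_symm_apply t
  let n : ∀ (W : X.Opens), W ≤ V → (Γ(N, W) →ₗ[Γ(X, W)] Γ(G, W)) := fun W hW =>
    { toFun := fun m => (e W).symm (secMap g (hle hW) (res N inf_le_left m))
      map_add' := fun m m' => by rw [map_add, map_add, map_add]
      map_smul' := fun r m => by
        apply (hG W).1
        rw [he, RingHom.id_apply, res_smul, res_smul, he, map_smul] }
  have hnapp : ∀ (W : X.Opens) (hW : W ≤ V) (m : Γ(N, W)),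
      res G (inf_le_left : W ⊓ U ≤ W) (n W hW m) = secMap g (hle hW) (res N inf_le_left m) :=
    fun W hW m => he W _
  have hn : ∀ (W W' : X.Opens) (hW : W ≤ V) (h : W' ≤ W) (m : Γ(N, W)),
      n W' (h.trans hW) (res N h m) = res G h (n W hW m) := by
    intro W W' hW h m
    apply (hG W').1
    rw [hnapp W' (h.trans hW), res_res, res_res]
    have h1 : res G ((inf_le_left : W' ⊓ U ≤ W').trans h) (n W hW m) =
        res G (inf_le_inf_right U h : W' ⊓ U ≤ W ⊓ U) (res G (inf_le_left : W ⊓ U ≤ W) (n W hW m)) := by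
      rw [res_res]
    rw [h1, hnapp W hW, ← secMap_res g (hle hW) (inf_le_inf_right U h), res_res]
  refine ⟨secOf V n hn, ?_⟩
  refine homSec_ext_secMap (fun W hW m => ?_)
  have hWV : W ≤ V := hW.trans inf_le_left
  have hWU : W ≤ U := hW.trans inf_le_right
  rw [secMap_res_left, secMap_secOf]
  apply (hG W).1
  rw [hnapp W hWV, ← secMap_res g hW (inf_le_left : W ⊓ U ≤ W)]

/-- If sections of `G` extend uniquely over the complement of `U`, so do those of `𝓗om(N, G)`. -/
theorem res_bijective (V : X.Opens) :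
    Function.Bijective (res (homSh N G) (inf_le_left : V ⊓ U ≤ V)) :=
  ⟨res_injective U hG V, res_surjective U hG V⟩

end Unit

theorem isIso_unit_homSh (N G : X.Modules) (U : X.Opens)
    (h : IsIso ((Scheme.Modules.restrictAdjunction U.ι).unit.app G)) :
    IsIso ((Scheme.Modules.restrictAdjunction U.ι).unit.app (homSh N G)) := by
  rw [Groth.Agent.Divis.ReflexSheaf.isIso_unit_iff] at h ⊢
  exact res_bijective U h

theorem isIso_unit_ddual (N : X.Modules) (U : X.Opens)
    (h : IsIso ((Scheme.Modules.restrictAdjunction U.ι).unit.app (Coh.structureModule X))) :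
    IsIso ((Scheme.Modules.restrictAdjunction U.ι).unit.app (ddual N)) :=
  isIso_unit_homSh _ _ U h

theorem isIso_unit_refPowZ (N : X.Modules) (U : X.Opens)
    (h : IsIso ((Scheme.Modules.restrictAdjunction U.ι).unit.app (Coh.structureModule X))) (m : ℤ) :
    IsIso ((Scheme.Modules.restrictAdjunction U.ι).unit.app (RelCanon.refPowZ N m)) := by
  cases m with
  | ofNat m => exact isIso_unit_ddual _ U h
  | negSucc m => exact isIso_unit_ddual _ U h

end K967.HomUnit
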