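import Groth.Agent.QGor.K970.RelSk1
import Groth.Agent.QGor.K967.HomUnit
import Groth.Agent.S2062
import Groth.Agent.Ega4C.FlatLocal
import Groth.Agent.Ega4A.FlatAtPrime
import Groth.Agent.Dual.H375.Hartogs
import Groth.Agent.Fdesc.StructMod
import Groth.Agent.Divis.StalkMod
import Groth.Agent.Localalg.Depth

/-!
# Depth of the stalks of a relatively `S_k` coherent module; extension of sections across fibre codimension two
-/

set_option autoImplicit false
set_option linter.style.haveILetI false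
universe u

open AlgebraicGeometry CategoryTheory Limits IsLocalRing TopologicalSpace TensorProduct

namespace K967.FibDepth

open Groth.Agent Groth.Agent.Flat2D.FiberStalk K970.RelSk1

variable {X Y : Scheme.{u}} (f : X ⟶ Y)

/-- Depth over `O_x/I` and over `O_x`. -/
theorem depth_quot {R : Type u} [CommRing R] [IsLocalRing R] (I : Ideal R) [IsLocalRing (R ⧸ I)]
    (M : Type u) [AddCommGroup M] [Module R M] [Module (R ⧸ I) M] [IsScalarTower R (R ⧸ I) M] :
    LocCoh.depth R M = LocCoh.depth (R ⧸ I) M :=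
  Ega4C.FlatLocal.depth_of_surjective (R := R) (S := R ⧸ I) Ideal.Quotient.mk_surjective M

variable [IsLocallyNoetherian X] [IsLocallyNoetherian Y]

/-- `depth (F_x/mF_x) ≤ depth F_x` if `F` is flat over the base at `x`. -/
theorem depth_fib_le {F : X.Modules} (hF : Coh.IsCoh F) (x : X)
    (h : FlatMod.IsFlatOverAt f F x) :
    LocCoh.depth (FibRingStalk f x) (FibStalk f F x) ≤
      LocCoh.depth (X.presheaf.stalk x) (F.presheaf.stalk x) := by
  rw [← depth_quot]
  letI : Algebra (Y.presheaf.stalk (f x)) (X.presheaf.stalk x) := (f.stalkMap x).hom.toAlgebra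
  letI := FlatMod.moduleStalkOver f F x
  haveI : IsScalarTower (Y.presheaf.stalk (f x)) (X.presheaf.stalk x) (F.presheaf.stalk x) :=
    IsScalarTower.of_algebraMap_smul fun r m => rfl
  haveI : IsLocalHom (algebraMap (Y.presheaf.stalk (f x)) (X.presheaf.stalk x)) :=
    inferInstanceAs (IsLocalHom (f.stalkMap x).hom)
  haveI : Module.Finite (X.presheaf.stalk x) (F.presheaf.stalk x) :=
    Divis.StalkMod.finite_stalk hF x
  haveI : Module.Flat (Y.presheaf.stalk (f x)) (F.presheaf.stalk x) := h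
  have h1 := Groth.Agent.S2062.result (R := Y.presheaf.stalk (f x)) (S := X.presheaf.stalk x)
    (M := Y.presheaf.stalk (f x)) (N := F.presheaf.stalk x)
  have e : F.presheaf.stalk x ⊗[Y.presheaf.stalk (f x)] (Y.presheaf.stalk (f x)) ≃ₗ[X.presheaf.stalk x]
      F.presheaf.stalk x := TensorProduct.AlgebraTensorModule.rid _ _ _
  have h2 : LocCoh.depth (X.presheaf.stalk x)
      (F.presheaf.stalk x ⊗[Y.presheaf.stalk (f x)] (Y.presheaf.stalk (f x))) =
      LocCoh.depth (X.presheaf.stalk x) (F.presheaf.stalk x) :=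
    Localalg.Depth.idealDepth_congr_equiv _ e
  rw [← h2, h1]
  exact le_add_self

/-- `min k (dim F_x/mF_x) ≤ depth F_x` for a coherent module satisfying relative `(S_k)` at `x`. -/
theorem min_le_depth {F : X.Modules} (hF : Coh.IsCoh F) (k : ℕ) (x : X)
    (h : RelCanon.RelSkAt f k F x) :
    min (k : WithBot ℕ∞) (Module.supportDim (FibRingStalk f x) (FibStalk f F x)) ≤
      ((LocCoh.depth (X.presheaf.stalk x) (F.presheaf.stalk x) : ℕ∞) : WithBot ℕ∞) := by
  rw [relSkAt_iff] at h
  refine (Ega4A.FlatAtPrime.le_depth_of_hasSk _ k h.2).trans ?_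
  exact WithBot.coe_le_coe.mpr (depth_fib_le f hF x h.1)

/-- `min k (dim O_{X_y,x}) ≤ depth O_{X,x}` for an `S_k`-morphism. -/
theorem min_le_depth_stalk (k : ℕ) (hS : RelCanon.IsSkMor f k) (x : X) :
    min (k : WithBot ℕ∞) (ringKrullDim ((f.fiber (f x)).presheaf.stalk (f.asFiber x))) ≤
      ((LocCoh.depth (X.presheaf.stalk x) (X.presheaf.stalk x) : ℕ∞) : WithBot ℕ∞) := by
  have hflat := hS.1
  have h1 := Ega4A.FlatAtPrime.le_depth_of_hasSk _ k (hS.2.2 x)
  let R0 := (f.fiber (f x)).presheaf.stalk (f.asFiber x)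
  let M0 := (Coh.structureModule (f.fiber (f x))).presheaf.stalk (f.asFiber x)
  have e : R0 ≃ₗ[R0] M0 := Fdesc.StructMod.stalkEquiv (f.asFiber x)
  have h2 : LocCoh.depth R0 M0 = LocCoh.depth R0 R0 :=
    Groth.Agent.Localalg.Depth.idealDepth_congr_equiv _ e.symm
  have h3 : Module.supportDim R0 M0 = ringKrullDim R0 := by
    rw [← Module.supportDim_self_eq_ringKrullDim, ← Module.supportDim_eq_of_equiv e]
  obtain ⟨σ⟩ := nonempty_asFiber_stalkEquiv f x
  have h4 : LocCoh.depth (X.presheaf.stalk x ⧸ fibreIdeal f x)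
      (X.presheaf.stalk x ⧸ fibreIdeal f x) = LocCoh.depth R0 R0 := depth_eq_of_ringEquiv σ
  letI : Algebra (Y.presheaf.stalk (f x)) (X.presheaf.stalk x) := (f.stalkMap x).hom.toAlgebra
  haveI : IsLocalHom (algebraMap (Y.presheaf.stalk (f x)) (X.presheaf.stalk x)) :=
    inferInstanceAs (IsLocalHom (f.stalkMap x).hom)
  haveI : Module.Flat (Y.presheaf.stalk (f x)) (X.presheaf.stalk x) :=
    AlgebraicGeometry.Flat.stalkMap f x
  have h5 := Ega4C.FlatLocal.depth_eq (R := Y.presheaf.stalk (f x)) (S := X.presheaf.stalk x)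
  have h6 : LocCoh.depth R0 R0 ≤ LocCoh.depth (X.presheaf.stalk x) (X.presheaf.stalk x) := by
    rw [h5, ← h4]
    exact le_add_self
  refine le_trans ?_ (WithBot.coe_le_coe.mpr h6)
  rw [← h2]
  refine le_trans ?_ h1
  exact min_le_min le_rfl h3.symm.le

theorem two_le_depth_stalk (hS : RelCanon.IsSkMor f 2) (x : X)
    (hx : (2 : WithBot ℕ∞) ≤ ringKrullDim ((f.fiber (f x)).presheaf.stalk (f.asFiber x))) :
    2 ≤ LocCoh.depth (X.presheaf.stalk x) (X.presheaf.stalk x) := by
  have h1 := min_le_depth_stalk f 2 hS x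
  rw [min_eq_left (by exact_mod_cast hx)] at h1
  exact WithBot.coe_le_coe.mp h1

/-- `O_X → j_* O_U` is an isomorphism if the complement of `U` has fibre codimension `≥ 2`. -/
theorem isIso_unit_structure (hS : RelCanon.IsSkMor f 2) (U : X.Opens)
    (hcod : ∀ x : X, x ∉ U →
      (2 : WithBot ℕ∞) ≤ ringKrullDim ((f.fiber (f x)).presheaf.stalk (f.asFiber x))) :
    IsIso ((Scheme.Modules.restrictAdjunction U.ι).unit.app (Coh.structureModule X)) := by
  refine Dual.H375.Hartogs.isIso_unit (Fdesc.StructMod.isCoh_structureModule X) U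
    (fun x hx => ?_)
  have h1 : LocCoh.depth (X.presheaf.stalk x) ((Coh.structureModule X).presheaf.stalk x) =
      LocCoh.depth (X.presheaf.stalk x) (X.presheaf.stalk x) :=
    Groth.Agent.Localalg.Depth.idealDepth_congr_equiv _ (Fdesc.StructMod.stalkEquiv x).symm
  rw [h1]
  exact two_le_depth_stalk f hS x (hcod x hx)

end K967.FibDepth
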