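import Groth.Agent.QGor.K967.SuppVan
import Groth.Agent.QGor.K967.HomUnit
import Groth.Agent.FormalB.HHLin
import Groth.Agent.PerfA.QCohSerre
import Groth.Agent.Sga67.CohBasic
import Groth.Agent.S13987
import Groth.Prelude.Def_Cyc

/-!
# The relative dualizing sheaf and the unit of restriction to a large open

For `Y → Spec A` proper with `A` Noetherian and fibres of dimension at most `d`, a `d`-dualizing sheaf `ω`
is `j_* j^* ω` for every open `j : U → Y` whose complement has codimension at least two in the fibres.
-/

set_option autoImplicit false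
universe u
open CategoryTheory CategoryTheory.Limits AlgebraicGeometry TopologicalSpace

namespace K967.OmegaUnit

open Groth.Agent Groth.Agent.FormalB.HHLin Groth.Agent.Divis.ReflexSheaf

section General

variable {X : Scheme.{u}} (U : X.Opens) (F : X.Modules)

/-- The restriction of the unit to `U` is an isomorphism. -/
theorem isIso_map_unit : IsIso ((Scheme.Modules.restrictFunctor U.ι).map
    ((Scheme.Modules.restrictAdjunction U.ι).unit.app F)) := by
  have h := (Scheme.Modules.restrictAdjunction U.ι).left_triangle_components F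
  have h2 : IsIso ((Scheme.Modules.restrictFunctor U.ι).map
      ((Scheme.Modules.restrictAdjunction U.ι).unit.app F) ≫
      (Scheme.Modules.restrictAdjunction U.ι).counit.app
        ((Scheme.Modules.restrictFunctor U.ι).obj F)) := by
    rw [h]
    exact IsIso.id _
  exact IsIso.of_isIso_comp_right _ ((Scheme.Modules.restrictAdjunction U.ι).counit.app
        ((Scheme.Modules.restrictFunctor U.ι).obj F))

/-- Morphisms into `j_* N` are determined by their restriction to `U`. -/
theorem hom_ext_push {N : (U : Scheme.{u}).Modules} {G : X.Modules}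
    (a b : G ⟶ (Scheme.Modules.pushforward U.ι).obj N)
    (h : (Scheme.Modules.restrictFunctor U.ι).map a = (Scheme.Modules.restrictFunctor U.ι).map b) :
    a = b := by
  apply ((Scheme.Modules.restrictAdjunction U.ι).homEquiv G N).symm.injective
  rw [Adjunction.homEquiv_counit, Adjunction.homEquiv_counit, h]

/-- If the unit has a left inverse then it is an isomorphism. -/
theorem isIso_unit_of_retraction
    (φ : (Scheme.Modules.pushforward U.ι).obj ((Scheme.Modules.restrictFunctor U.ι).obj F) ⟶ F)
    (h : (Scheme.Modules.restrictAdjunction U.ι).unit.app F ≫ φ = 𝟙 F) :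
    IsIso ((Scheme.Modules.restrictAdjunction U.ι).unit.app F) := by
  refine ⟨φ, h, ?_⟩
  apply hom_ext_push
  have h1 := (((Scheme.Modules.restrictFunctor U.ι).map_comp
    ((Scheme.Modules.restrictAdjunction U.ι).unit.app F) φ).symm.trans
    (congrArg (Scheme.Modules.restrictFunctor U.ι).map h)).trans
      ((Scheme.Modules.restrictFunctor U.ι).map_id F)
  have h2 := isIso_map_unit U F
  have h3 : (Scheme.Modules.restrictFunctor U.ι).map φ = inv ((Scheme.Modules.restrictFunctor U.ι).map
      ((Scheme.Modules.restrictAdjunction U.ι).unit.app F)) := by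
    rw [← cancel_epi ((Scheme.Modules.restrictFunctor U.ι).map
      ((Scheme.Modules.restrictAdjunction U.ι).unit.app F)), IsIso.hom_inv_id]
    exact h1
  rw [Functor.map_comp, h3, IsIso.inv_hom_id]
  exact ((Scheme.Modules.restrictFunctor U.ι).map_id _).symm

theorem isIso_unit_top (hU : U = ⊤) :
    IsIso ((Scheme.Modules.restrictAdjunction U.ι).unit.app F) := by
  subst hU
  rw [isIso_unit_iff]
  intro V
  exact CohqB.QC2.res_injective_of_eq F _ (by simp)

end General

/-- `ω = j_* j^* ω` for a `d`-dualizing sheaf and an open with complement of fibre codimension at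
least two. -/
theorem isIso_unit (A : Type u) [CommRing A] [IsNoetherianRing A] (Y : Scheme.{u})
    [Y.Over (Spec (CommRingCat.of A))] [IsProper (Y ↘ Spec (CommRingCat.of A))] (d : ℕ)
    (hd : ∀ s : Spec (CommRingCat.of A),
      topologicalKrullDim ↥((Y ↘ Spec (CommRingCat.of A)).fiber s) ≤ d)
    (ω : Y.Modules) (hω : RelCanon.IsDualizingSheaf A Y d ω) (U : Y.Opens)
    (hU : ∀ y : Y, y ∉ U → (2 : WithBot ℕ∞) ≤ ringKrullDim
      (((Y ↘ Spec (CommRingCat.of A)).fiber ((Y ↘ Spec (CommRingCat.of A)) y)).presheaf.stalk
        ((Y ↘ Spec (CommRingCat.of A)).asFiber y))) :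
    IsIso ((Scheme.Modules.restrictAdjunction U.ι).unit.app ω) := by
  let f := Y ↘ Spec (CommRingCat.of A)
  have : IsNoetherianRing (CommRingCat.of A) := inferInstanceAs (IsNoetherianRing A)
  have hlN : IsLocallyNoetherian Y := LocallyOfFiniteType.isLocallyNoetherian f
  have hcX : CompactSpace Y := QuasiCompact.compactSpace_of_compactSpace f
  have hN : IsNoetherian Y := {}
  obtain ⟨tr, hq, hω⟩ := hω
  by_cases hd2 : d < 2
  · apply isIso_unit_top
    rw [eq_top_iff]
    intro y _
    by_contra hy
    have h1 := (hU y hy).trans ((CurvesB.DimPts.ringKrullDim_stalk_le _).trans (hd (f y)))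
    have h2 : (2 : ℕ) ≤ d := by exact_mod_cast h1
    omega
  · obtain ⟨e, rfl⟩ : ∃ e, d = e + 2 := ⟨d - 2, by omega⟩
    let u := (Scheme.Modules.restrictAdjunction U.ι).unit.app ω
    let E := (Scheme.Modules.pushforward U.ι).obj ((Scheme.Modules.restrictFunctor U.ι).obj ω)
    have hE : Coh.IsQCoh E :=
      Sga67.CohBasic.isQCoh_push U.ι (CohqB.LocalQC.isQCoh_restrict U.ι hq)
    obtain ⟨hk, hc⟩ := (S13987.isIso_restrict_iff U u).1 (isIso_map_unit U ω)
    have van : ∀ (G : Y.Modules) (_ : Coh.IsQCoh G) (_ : CohB1.support G ⊆ (↑U : Set Y)ᶜ) (p : ℕ),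
        e < p → Subsingleton (Coh.HH Y G p) := fun G hG hs p hp =>
      SuppVan.subsingleton_HH f e 2 hd G hG (fun x hx => hU x fun h => hs hx h) p hp
    -- the unit is a monomorphism
    have hmono : Mono u := by
      have hKq := PerfA.QCohSerre.isQCoh_kernel u hq hE
      have h0 := van _ hKq hk (e + 2) (by omega)
      apply Preadditive.mono_of_isZero_kernel
      rw [IsZero.iff_id_eq_zero, ← cancel_mono (kernel.ι u), Category.id_comp, zero_comp]
      apply (hω _ hKq).1
      apply LinearMap.ext
      intro x
      rw [Subsingleton.elim x 0, map_zero, map_zero]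
    let S : ShortComplex Y.Modules := ShortComplex.mk u (cokernel.π u) (cokernel.condition u)
    have hS : S.ShortExact :=
      { exact := ShortComplex.exact_of_g_is_cokernel _ (cokernelIsCokernel u)
        mono_f := hmono
        epi_g := inferInstanceAs (Epi (cokernel.π u)) }
    have hCq := PerfA.QCohSerre.isQCoh_cokernel u hq hE
    have h1 := van _ hCq hc (e + 1) (by omega)
    have h2 := van _ hCq hc (e + 2) (by omega)
    have hbij : Function.Bijective (Canon.HHlin A u (e + 2)) := by
      constructor
      · rw [injective_iff_map_eq_zero]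
        intro x hx
        obtain ⟨y, rfl⟩ := exact₁ hS (e + 1) x hx
        have : y = 0 := h1.elim _ _
        rw [this, map_zero]
      · intro x
        exact exact₂ hS (e + 2) x (h2.elim _ _)
    let ee := LinearEquiv.ofBijective (Canon.HHlin A u (e + 2)) hbij
    obtain ⟨φ, hφ⟩ := (hω E hE).2 (tr ∘ₗ ee.symm.toLinearMap)
    refine isIso_unit_of_retraction U ω φ ?_
    apply (hω ω hq).1
    apply LinearMap.ext
    intro x
    have h3 := LinearMap.congr_fun hφ (ee x)
    have h4 : (tr ∘ₗ ee.symm.toLinearMap) (ee x) = tr x := by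
      simp
    rw [h4] at h3
    change tr (hm (u ≫ φ) (e + 2) x) = tr (hm (𝟙 ω) (e + 2) x)
    rw [hm_comp, hm_id]
    exact h3

end K967.OmegaUnit
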