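import Groth.Agent.QGor.K967.HomUnit
import Groth.Agent.SDiv.K476.HomSh5
import Groth.Agent.TopDim.K284.Basic
import Groth.Prelude.Def_Cyc

/-!
# Isomorphisms and reflexivity from a large open

* `isIso_of_unit`: a morphism between modules `F = j_* j^* F`, `G = j_* j^* G` which is an isomorphism on
  stalks over `U` is an isomorphism;
* `isReflexive_of_unit`: `F` is reflexive if it is so at the points of `U` and `F`, `O` are `j_* j^*`;
* `dim_fiber_le`: fibres of a morphism of pure relative dimension `d` have dimension at most `d`.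
-/

set_option autoImplicit false
universe u
open CategoryTheory CategoryTheory.Limits AlgebraicGeometry TopologicalSpace Opposite

noncomputable section

namespace K967.ReflUnit

open RefHull Groth.Agent.CycB.StalkExact Groth.Agent.Ega1.QCohLoc K476.HomSh1

variable {X : Scheme.{u}} {F G : X.Modules}

theorem app_res (φ : F ⟶ G) {U V : X.Opens} (h : V ≤ U) (s : Γ(F, U)) :
    φ.app V (res F h s) = res G h (φ.app U s) :=
  (ConcreteCategory.congr_hom (φ.mapPresheaf.naturality (homOfLE h).op) s)

theorem isIso_of_unit (φ : F ⟶ G) (U : X.Opens)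
    (hF : IsIso ((Scheme.Modules.restrictAdjunction U.ι).unit.app F))
    (hG : IsIso ((Scheme.Modules.restrictAdjunction U.ι).unit.app G))
    (h : ∀ x ∈ U, Function.Bijective (stalkMapₗ φ x)) : IsIso φ := by
  rw [Groth.Agent.Divis.ReflexSheaf.isIso_unit_iff] at hF hG
  rw [Scheme.Modules.Hom.isIso_iff_isIso_app]
  intro V
  rw [ConcreteCategory.isIso_iff_bijective]
  have h1 : Function.Bijective (φ.app (V ⊓ U)) :=
    K476.HomSh4.bijective_app_of_stalk φ fun x hx => h x hx.2
  have h2 : Function.Bijective (fun s => res G (inf_le_left : V ⊓ U ≤ V) (φ.app V s)) := by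
    have e : (fun s => res G (inf_le_left : V ⊓ U ≤ V) (φ.app V s)) =
        (φ.app (V ⊓ U)) ∘ res F (inf_le_left : V ⊓ U ≤ V) :=
      funext fun s => (app_res φ inf_le_left s).symm
    rw [e]
    exact h1.comp (hF V)
  exact (Function.Bijective.of_comp_iff' (hG V) _).1 h2

/-- Reflexivity from a large open. -/
theorem isReflexive_of_unit [IsLocallyNoetherian X] (hF : Coh.IsCoh F) (U : X.Opens)
    (h : IsIso ((Scheme.Modules.restrictAdjunction U.ι).unit.app F))
    (hO : IsIso ((Scheme.Modules.restrictAdjunction U.ι).unit.app (Coh.structureModule X)))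
    (hU : ∀ x ∈ U, Module.IsReflexive (X.presheaf.stalk x) (F.presheaf.stalk x)) :
    RefHull.IsReflexive F :=
  isIso_of_unit (bidualMap F) U h (HomUnit.isIso_unit_ddual F U hO) fun x hx =>
    (K476.HomSh4.bijective_stalkMapₗ_bidualMap_iff_of_isCoh hF x).2 (hU x hx)

theorem dim_fiber_le {X Y : Scheme.{u}} {f : X ⟶ Y} {d : ℕ} (h : Cyc.HasRelDim f d) (y : Y) :
    topologicalKrullDim ↥(f.fiber y) ≤ d := by
  rw [K284.TopDim.dim_eq_iSup_irreducibleComponents]
  exact iSup₂_le fun T hT => (h y T hT).le

end K967.ReflUnit
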