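import Groth.Agent.QGor.K967.CMLocus
import Groth.Agent.QGor.K967.ReflUnit
import Groth.Agent.QGor.K967.OmegaUnit
import Groth.Agent.QGor.K967.FibDepth
import Groth.Agent.Divis.StalkMod

/-!
# The relative dualizing sheaf of a proper morphism of pure relative dimension

For `f : Y → Spec A` proper, `A` Noetherian, of pure relative dimension `d`, and `ω` a `d`-dualizing
sheaf:
* `isCoh`: `ω` is coherent;
* `isFlatOverAt`: `ω` is flat over `A` at the Cohen–Macaulay points of `f`;
* `invertibleAt`: `ω` is invertible at the Gorenstein points of `f` (`f` flat);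
* `exists_isDualizingSheaf`: a dualizing sheaf exists.
-/

set_option autoImplicit false
universe u
open CategoryTheory CategoryTheory.Limits AlgebraicGeometry TopologicalSpace
attribute [local instance] HasDerivedCategory.standard

namespace K967.OmegaBasic

open Groth.Agent

variable (A : Type u) [CommRing A] [IsNoetherianRing A] (Y : Scheme.{u})
  [Y.Over (Spec (CommRingCat.of A))] [IsProper (Y ↘ Spec (CommRingCat.of A))] (d : ℕ)

theorem isCoh_of_iso {X : Scheme.{u}} {F G : X.Modules} (e : F ≅ G) (h : Coh.IsCoh F) : Coh.IsCoh G :=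
  Sga67.CohBasic.isCoh_of_iso e h

/-- A dualizing sheaf exists. -/
theorem exists_isDualizingSheaf
    (hd : ∀ s : Spec (CommRingCat.of A),
      topologicalKrullDim ↥((Y ↘ Spec (CommRingCat.of A)).fiber s) ≤ d) :
    ∃ ω : Y.Modules, RelCanon.IsDualizingSheaf A Y d ω := by
  have : IsNoetherianRing (CommRingCat.of A) := inferInstanceAs (IsNoetherianRing A)
  obtain ⟨hR, h, a, adj, O, hO⟩ := CMLocus.exists_data (Y ↘ Spec (CommRingCat.of A))
  exact ⟨_, K968.Compare1.isDualizingSheaf_HD A d hd adj O hO⟩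

variable (hd : Cyc.HasRelDim (Y ↘ Spec (CommRingCat.of A)) d) (ω : Y.Modules)
  (hω : RelCanon.IsDualizingSheaf A Y d ω)

include hω

theorem isCoh (hd : ∀ s : Spec (CommRingCat.of A),
      topologicalKrullDim ↥((Y ↘ Spec (CommRingCat.of A)).fiber s) ≤ d) : Coh.IsCoh ω := by
  have : IsNoetherianRing (CommRingCat.of A) := inferInstanceAs (IsNoetherianRing A)
  obtain ⟨hR, h, a, adj, O, hO⟩ := CMLocus.exists_data (Y ↘ Spec (CommRingCat.of A))
  obtain ⟨e⟩ := K968.Compare1.iso_HD A d hd adj O hO hω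
  exact isCoh_of_iso e.symm (CMLocus.isCoh_HD _ adj O hO _)

include hd

theorem isFlatOverAt (x : Y) (hx : MoreMor.IsCMAt (Y ↘ Spec (CommRingCat.of A)) x) :
    FlatMod.IsFlatOverAt (Y ↘ Spec (CommRingCat.of A)) ω x := by
  have : IsNoetherianRing (CommRingCat.of A) := inferInstanceAs (IsNoetherianRing A)
  obtain ⟨hR, h, a, adj, O, hO⟩ := CMLocus.exists_data (Y ↘ Spec (CommRingCat.of A))
  obtain ⟨e⟩ := K968.Compare1.iso_HD A d (ReflUnit.dim_fiber_le hd) adj O hO hω
  exact PerfC.RelFlat.isFlatOverAt_of_iso _ e.symm x (CMLocus.isFlatOverAt_of_cm _ adj O hO d hd x hx)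

theorem invertibleAt [Flat (Y ↘ Spec (CommRingCat.of A))] (x : Y)
    (hx : Dual3.IsGorensteinAt (Y ↘ Spec (CommRingCat.of A)) x) : RelCanon.InvertibleAt ω x := by
  have : IsNoetherianRing (CommRingCat.of A) := inferInstanceAs (IsNoetherianRing A)
  obtain ⟨hR, h, a, adj, O, hO⟩ := CMLocus.exists_data (Y ↘ Spec (CommRingCat.of A))
  obtain ⟨e⟩ := K968.Compare1.iso_HD A d (ReflUnit.dim_fiber_le hd) adj O hO hω
  exact K970.InvAt.invertibleAt_of_iso e.symm x (CMLocus.invertibleAt_of_gor _ adj O hO d hd x hx)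

/-- `ω` is reflexive if the complement of the Gorenstein locus has codimension at least two in the
fibres, which are `S_2`. -/
theorem isReflexive (hS : RelCanon.IsSkMor (Y ↘ Spec (CommRingCat.of A)) 2)
    (hG : ∀ y : Y, y ∉ RelCanon.gorLocus (Y ↘ Spec (CommRingCat.of A)) →
      (2 : WithBot ℕ∞) ≤ ringKrullDim (((Y ↘ Spec (CommRingCat.of A)).fiber
        ((Y ↘ Spec (CommRingCat.of A)) y)).presheaf.stalk
          ((Y ↘ Spec (CommRingCat.of A)).asFiber y))) :
    RefHull.IsReflexive ω := by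
  have : IsNoetherianRing (CommRingCat.of A) := inferInstanceAs (IsNoetherianRing A)
  have hlN : IsLocallyNoetherian Y :=
    LocallyOfFiniteType.isLocallyNoetherian (Y ↘ Spec (CommRingCat.of A))
  have hfl : Flat (Y ↘ Spec (CommRingCat.of A)) := hS.1
  have hc := isCoh A Y d ω hω (ReflUnit.dim_fiber_le hd)
  let U : Y.Opens := ⟨RelCanon.gorLocus (Y ↘ Spec (CommRingCat.of A)),
    S3617.result Y _ (Y ↘ Spec (CommRingCat.of A))⟩
  refine ReflUnit.isReflexive_of_unit hc U
    (OmegaUnit.isIso_unit A Y d (ReflUnit.dim_fiber_le hd) ω hω U hG)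
    (FibDepth.isIso_unit_structure (Y ↘ Spec (CommRingCat.of A)) hS U hG) fun x hx => ?_
  have := K970.InvAt.free_stalk x (invertibleAt A Y d hd ω hω x hx)
  have := Divis.StalkMod.finite_stalk hc x
  infer_instance

end K967.OmegaBasic
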