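import Groth.Agent.QGor.K968.Compare4
import Groth.Agent.QGor.K970.BCHyp
import Groth.Agent.QGor.K967.OmegaBasic
import Groth.Agent.Ega4B.DepthTransfer
import Groth.Agent.ZClos.K283.S2
import Groth.Agent.Ega1.SuppTensorMod
import Groth.Agent.FormalB.PullCoh
import Groth.Agent.CInt.K139.FibDepth

/-!
# Base change of a relatively `S_2` dualizing sheaf

For `f : Y → Spec A` a proper `S_2`-morphism of pure relative dimension `d` and `ω` a `d`-dualizing sheaf
satisfying relative `S_2`, with nonzero stalks: `p^* ω` is `d`-dualizing for every base change to a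
Noetherian ring.
-/

set_option autoImplicit false
universe u
open CategoryTheory CategoryTheory.Limits AlgebraicGeometry TopologicalSpace

namespace K967.BCOmega

open Groth.Agent Groth.Agent.Flat2D.FiberStalk K970.RelSk1

/-- The dimension of the support of `M/IM` if `M` has full support. -/
theorem supportDim_quot {R M : Type u} [CommRing R] [AddCommGroup M] [Module R M] [Module.Finite R M]
    (I : Ideal R) (h : Module.support R M = Set.univ) :
    Module.supportDim (R ⧸ I) (M ⧸ (I • (⊤ : Submodule R M))) = ringKrullDim (R ⧸ I) := by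
  have h1 : Module.supportDim (R ⧸ I) (M ⧸ (I • (⊤ : Submodule R M))) =
      Module.supportDim R (M ⧸ (I • (⊤ : Submodule R M))) :=
    Ega4B.DepthTransfer.supportDim_eq (Ideal.Quotient.mk I) (AddEquiv.refl _) (fun _ _ => rfl)
      Ideal.Quotient.mk_surjective
  have h2 : Module.supportDim (R ⧸ I) (R ⧸ I) = Module.supportDim R (R ⧸ I) :=
    Ega4B.DepthTransfer.supportDim_eq (Ideal.Quotient.mk I) (AddEquiv.refl _) (fun _ _ => rfl)
      Ideal.Quotient.mk_surjective
  have h3 : Module.support R (M ⧸ (I • (⊤ : Submodule R M))) = Module.support R (R ⧸ I) := by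
    rw [Module.support_quotient, h, Set.univ_inter, Ega4B.DepthBasic.support_quotient]
  rw [h1, ← Module.supportDim_self_eq_ringKrullDim, h2, Module.supportDim, Module.supportDim, h3]

section Sch

variable {X Y : Scheme.{u}} (f : X ⟶ Y) [IsLocallyNoetherian X] [IsLocallyNoetherian Y]

/-- The depth of a relatively `S_2` coherent module with full support in fibre codimension two. -/
theorem two_le_depth {F : X.Modules} (hF : Coh.IsCoh F) (hsupp : ∀ x, Nontrivial (F.presheaf.stalk x))
    (x : X) (h : RelCanon.RelSkAt f 2 F x)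
    (hx : (2 : WithBot ℕ∞) ≤ ringKrullDim ((f.fiber (f x)).presheaf.stalk (f.asFiber x))) :
    2 ≤ LocCoh.depth (X.presheaf.stalk x) (F.presheaf.stalk x) := by
  have := Divis.StalkMod.finite_stalk hF x
  have h1 := FibDepth.min_le_depth f hF 2 x h
  have h2 : Module.supportDim (FibRingStalk f x) (FibStalk f F x) = ringKrullDim (FibRingStalk f x) :=
    supportDim_quot _ (K283.S2.support_stalk hF.1 hsupp x)
  obtain ⟨e⟩ := K970.BCHyp.nonempty_fibre_stalk_equiv f x
  rw [h2, ringKrullDim_eq_of_ringEquiv e, min_eq_left (by exact_mod_cast hx)] at h1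
  exact WithBot.coe_le_coe.mp h1

/-- `F = j_* j^* F`. -/
theorem isIso_unit_relS2 {F : X.Modules} (hF : Coh.IsCoh F)
    (hsupp : ∀ x, Nontrivial (F.presheaf.stalk x)) (h : RelCanon.RelSk f 2 F) (U : X.Opens)
    (hU : ∀ x : X, x ∉ U →
      (2 : WithBot ℕ∞) ≤ ringKrullDim ((f.fiber (f x)).presheaf.stalk (f.asFiber x))) :
    IsIso ((Scheme.Modules.restrictAdjunction U.ι).unit.app F) :=
  Dual.H375.Hartogs.isIso_unit hF U fun x hx => two_le_depth f hF hsupp x (h x) (hU x hx)

omit [IsLocallyNoetherian X] in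
/-- Outside the Cohen–Macaulay locus the fibres of an `S_2`-morphism have dimension at least two. -/
theorem codim_cmLocus (hS : RelCanon.IsSkMor f 2) (x : X) (hx : ¬ MoreMor.IsCMAt f x) :
    (2 : WithBot ℕ∞) ≤ ringKrullDim ((f.fiber (f x)).presheaf.stalk (f.asFiber x)) := by
  by_contra hcon
  rw [not_le] at hcon
  have hflat := hS.1
  have hft := hS.2.1
  have hft' : LocallyOfFiniteType (f.fiberToSpecResidueField (f x)) :=
    MorphismProperty.pullback_snd _ _ inferInstance
  have hN : IsLocallyNoetherian (f.fiber (f x)) :=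
    LocallyOfFiniteType.isLocallyNoetherian (f.fiberToSpecResidueField (f x))
  refine hx ⟨AlgebraicGeometry.Flat.stalkMap f x, ?_⟩
  have h1 := Ega4A.FlatAtPrime.le_depth_of_hasSk _ 2 (hS.2.2 x)
  let R0 := (f.fiber (f x)).presheaf.stalk (f.asFiber x)
  let M0 := (Coh.structureModule (f.fiber (f x))).presheaf.stalk (f.asFiber x)
  have e : R0 ≃ₗ[R0] M0 := Fdesc.StructMod.stalkEquiv (f.asFiber x)
  have h2 : LocCoh.depth R0 M0 = LocCoh.depth R0 R0 :=
    Groth.Agent.Localalg.Depth.idealDepth_congr_equiv _ e.symm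
  have h3 : Module.supportDim R0 M0 = ringKrullDim R0 := by
    rw [← Module.supportDim_self_eq_ringKrullDim, ← Module.supportDim_eq_of_equiv e]
  have h4 : min ((2 : ℕ) : WithBot ℕ∞) (ringKrullDim R0) ≤
      ((LocCoh.depth R0 R0 : ℕ∞) : WithBot ℕ∞) := by
    rw [← h2, ← h3]
    exact h1
  rw [min_eq_right (by exact_mod_cast hcon.le)] at h4
  have hR0 : IsNoetherianRing R0 := inferInstance
  exact { supportDim_eq_depth := by
            rw [Module.supportDim_self_eq_ringKrullDim]
            exact le_antisymm h4 (K139.FibDepth.depth_le_dim R0) }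

end Sch

/-- Modules with isomorphic restrictions to `U` which are both `j_* j^*` are isomorphic. -/
theorem nonempty_iso_of_unit {X : Scheme.{u}} {F G : X.Modules} (U : X.Opens)
    (hF : IsIso ((Scheme.Modules.restrictAdjunction U.ι).unit.app F))
    (hG : IsIso ((Scheme.Modules.restrictAdjunction U.ι).unit.app G))
    (e : F.restrict U.ι ≅ G.restrict U.ι) : Nonempty (F ≅ G) :=
  ⟨asIso ((Scheme.Modules.restrictAdjunction U.ι).unit.app F) ≪≫
    (Scheme.Modules.pushforward U.ι).mapIso e ≪≫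
    (asIso ((Scheme.Modules.restrictAdjunction U.ι).unit.app G)).symm⟩

section Main

variable (A : Type u) [CommRing A] [IsNoetherianRing A] (Y : Scheme.{u})
  [Y.Over (Spec (CommRingCat.of A))] [IsProper (Y ↘ Spec (CommRingCat.of A))] (d : ℕ)
  (hS : RelCanon.IsSkMor (Y ↘ Spec (CommRingCat.of A)) 2)
  (hd : Cyc.HasRelDim (Y ↘ Spec (CommRingCat.of A)) d)
  (ω : Y.Modules) (hω : RelCanon.IsDualizingSheaf A Y d ω)
  (h2 : RelCanon.RelSk (Y ↘ Spec (CommRingCat.of A)) 2 ω)
  (hsupp : ∀ x : Y, Nontrivial (ω.presheaf.stalk x))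

include hS hd hω h2 hsupp

theorem isDualizingSheaf_pullback (B : Type u) [CommRing B] [IsNoetherianRing B] (φ : A →+* B)
    (Y' : Scheme.{u}) [Y'.Over (Spec (CommRingCat.of B))] (p : Y' ⟶ Y)
    (hp : IsPullback p (Y' ↘ Spec (CommRingCat.of B)) (Y ↘ Spec (CommRingCat.of A))
      (Spec.map (CommRingCat.ofHom φ))) :
    RelCanon.IsDualizingSheaf B Y' d ((Scheme.Modules.pullback p).obj ω) := by
  have hNA : IsNoetherianRing (CommRingCat.of A) := inferInstanceAs (IsNoetherianRing A)
  have hNB : IsNoetherianRing (CommRingCat.of B) := inferInstanceAs (IsNoetherianRing B)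
  have hpr : IsProper (Y' ↘ Spec (CommRingCat.of B)) := MorphismProperty.of_isPullback hp inferInstance
  have hlN : IsLocallyNoetherian Y :=
    LocallyOfFiniteType.isLocallyNoetherian (Y ↘ Spec (CommRingCat.of A))
  have hlN' : IsLocallyNoetherian Y' :=
    LocallyOfFiniteType.isLocallyNoetherian (Y' ↘ Spec (CommRingCat.of B))
  have hflat := hS.1
  have hc := OmegaBasic.isCoh A Y d ω hω (ReflUnit.dim_fiber_le hd)
  have hd' := K970.BCHyp.hasRelDim_of_isPullback hp hd
  have hc' : Coh.IsCoh ((Scheme.Modules.pullback p).obj ω) :=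
    ⟨FormalA.PullbackQC.isQCoh_pullback p ω hc.1, FormalA.PullbackQC.isFT_pullback p ω hc.2⟩
  obtain ⟨ω', hω'⟩ := OmegaBasic.exists_isDualizingSheaf B Y' d (ReflUnit.dim_fiber_le hd')
  let V : Y.Opens := ⟨{x : Y | MoreMor.IsCMAt (Y ↘ Spec (CommRingCat.of A)) x},
    S4961.result (Y ↘ Spec (CommRingCat.of A))⟩
  have hV' : ∀ y' : Y', y' ∉ p ⁻¹ᵁ V → (2 : WithBot ℕ∞) ≤ ringKrullDim
      (((Y' ↘ Spec (CommRingCat.of B)).fiber ((Y' ↘ Spec (CommRingCat.of B)) y')).presheaf.stalk
        ((Y' ↘ Spec (CommRingCat.of B)).asFiber y')) := fun y' hy' =>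
    (codim_cmLocus (Y ↘ Spec (CommRingCat.of A)) hS (p y') hy').trans
      (K970.BCHyp.ringKrullDim_fibre_le_cat _ hp y')
  obtain ⟨e⟩ := K968.Compare4.nonempty_restrict_iso A hd hω B hp hω' (j := V.ι) (j' := (p ⁻¹ᵁ V).ι)
    (pV := p ∣_ V) (isPullback_morphismRestrict p V) (fun x => x.2)
  have h1 := OmegaUnit.isIso_unit B Y' d (ReflUnit.dim_fiber_le hd') ω' hω' (p ⁻¹ᵁ V) hV'
  have h3 := isIso_unit_relS2 (Y' ↘ Spec (CommRingCat.of B)) hc'
    (fun x => not_subsingleton_iff_nontrivial.1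
      ((Ega1.SuppTensorMod.mem_support_pullback p ω hc.2 x).2
        (not_subsingleton_iff_nontrivial.2 (hsupp (p x)))))
    (fun y' => K970.BCHyp.relSkAt_pullback_cat _ hp ω hc 2 y' (h2 (p y'))) (p ⁻¹ᵁ V) hV'
  obtain ⟨e'⟩ := nonempty_iso_of_unit (p ⁻¹ᵁ V) h1 h3
    (e ≪≫ (FormalB.PullCoh.restrictPullbackIso p V).app ω)
  exact K968.Compare1.isDualizingSheaf_of_iso hω' e'

end Main

end K967.BCOmega
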