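import Groth.Agent.QGor.K967.FibMap
import Groth.Agent.QGor.K967.OmegaBasic
import Groth.Agent.QGor.K968.Compare4
import Groth.Agent.QGor.K970.BCHyp
import Groth.Agent.QGor.K970.RefPow
import Groth.Agent.FormalB.PullCoh
import Groth.Agent.Dual.H373.Core

/-!
# Reflexive powers of `ω` and of the dualizing sheaf of a fibre

`f : Y → Spec A` a proper `S_2`-morphism of pure relative dimension `d`, the complement of the Gorenstein locus of
fibre codimension at least two, `ω` `d`-dualizing; `t` a point of `Spec A`, `ωt` a `d`-dualizing sheaf of the fibre.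

* `nonempty_fibre_iso`: `i^* ω ≅ ωt` over the Gorenstein locus;
* `invertibleAt_fibre_of_invertibleAt`: `ω^{[m]}` invertible at `i z` implies `ωt^{[m]}` invertible at `z`;
* `invertibleAt_of_invertibleAt_fibre`: the converse if `ω^{[m]}` satisfies relative `(S₂)` at `i z`.
-/

set_option autoImplicit false
set_option linter.style.haveILetI false
universe u

open AlgebraicGeometry CategoryTheory Limits IsLocalRing TopologicalSpace RefHull

namespace K967.FibIndex

open Groth.Agent K970.RelSk1 Groth.Agent.Flat2D.FiberStalk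

section Rel

variable {X S : Scheme.{u}} (f : X ⟶ S)

theorem relSkAt_of_invertibleAt (k : ℕ) (hS : RelCanon.IsSkMor f k)
    {F : X.Modules} (x : X) (h : RelCanon.InvertibleAt F x) : RelCanon.RelSkAt f k F x := by
  have := hS.1
  obtain ⟨e⟩ := K970.InvAt.nonempty_stalk_equiv x h
  have h0 : RelCanon.RelSkAt f k (Coh.structureModule X) x :=
    ⟨(K66.Fibre.isFlatOverAt_of_invertibleAt f x (K970.InvAt.invertibleAt_structure x)),
      skAt_of_iso k (FormalA.PullbackQC.pullbackUnitIso (f.fiberι (f x))).symm _ (hS.2.2 x)⟩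
  exact relSkAt_of_equiv f k x ((Fdesc.StructMod.stalkEquiv x).symm.trans e) h0

/-- Serre's condition for the restriction to a fibre through a given point of the fibre. -/
theorem skAt_fibre_of_relSkAt (k : ℕ) (F : X.Modules) (s : S) (z : f.fiber s)
    (h : RelCanon.RelSkAt f k F (f.fiberι s z)) :
    RelCanon.SkAt k ((Scheme.Modules.pullback (f.fiberι s)).obj F) z :=
  (skAt_fiber_iff f k F s z).mpr ((relSkAt_iff f k F _).mp h).2

end Rel

section Gen

variable {X S : Scheme.{u}} (f : X ⟶ S) [IsLocallyNoetherian X] [IsLocallyNoetherian S]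
  (hS : RelCanon.IsSkMor f 2) (U : X.Opens)
  (hcod : ∀ z : X, z ∉ U →
    (2 : WithBot ℕ∞) ≤ ringKrullDim ((f.fiber (f z)).presheaf.stalk (f.asFiber z)))
  (ω : X.Modules) (hω : Coh.IsCoh ω) (hU : ∀ z ∈ U, RelCanon.InvertibleAt ω z)
  (s : S) (ωs : (f.fiber s).Modules) (hωs : Coh.IsCoh ωs)
  (e : ((Scheme.Modules.pullback (f.fiberι s)).obj ω).restrict ((f.fiberι s) ⁻¹ᵁ U).ι ≅
    ωs.restrict ((f.fiberι s) ⁻¹ᵁ U).ι)

include hS hcod hω hU hωs e in
/-- The comparison of the stalks of `i^*(ω^{[m]})` and `ωs^{[m]}`. -/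
theorem nonempty_stalk_equiv (m : ℤ) (z : f.fiber s)
    (hz : RelCanon.RelSkAt f 2 (RelCanon.refPowZ ω m) (f.fiberι s z)) :
    Nonempty (((Scheme.Modules.pullback (f.fiberι s)).obj (RelCanon.refPowZ ω m)).presheaf.stalk z
      ≃ₗ[(f.fiber s).presheaf.stalk z] (RelCanon.refPowZ ωs m).presheaf.stalk z) := by
  haveI := hS.2.1
  haveI := K66.Fibre.isLocallyNoetherian_fiber f s
  obtain ⟨α⟩ := K66.Main.nonempty_pullback_refPowZ (f.fiberι s) ω U hU ωs e m
  obtain ⟨K, hK, hKe⟩ := K66.Fibre.exists_refPowZ_eq hωs m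
  rw [hKe] at α ⊢
  have hFc : Coh.IsCoh (RelCanon.refPowZ ω m) := K66.Fibre.isCoh_refPowZ hω m
  have hinv := K66.Main.invertibleAt_refPowZ ω U hU m
  obtain ⟨β, hβ⟩ := FibMap.exists_map f hS U s (fun z' _ => hcod z') hK α
  have h := FibMap.bijective_of_skAt f hS U s (fun z' _ => hcod z') hK
    (FormalA.PullbackQC.isCoh_pullback (f.fiberι s) _ hFc)
    (fun w hw => K970.InvAt.invertibleAt_pullback (f.fiberι s) _ w (hinv _ hw)) β hβ z
    (skAt_fibre_of_relSkAt f 2 _ s z hz)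
  exact ⟨LinearEquiv.ofBijective _ h⟩

include hS hcod hω hU hωs e in
/-- `ω^{[m]}` invertible at `i z` implies `ωs^{[m]}` invertible at `z`. -/
theorem invertibleAt_fibre (m : ℤ) (z : f.fiber s)
    (hz : RelCanon.InvertibleAt (RelCanon.refPowZ ω m) (f.fiberι s z)) :
    RelCanon.InvertibleAt (RelCanon.refPowZ ωs m) z := by
  haveI := hS.2.1
  haveI := K66.Fibre.isLocallyNoetherian_fiber f s
  obtain ⟨g⟩ := nonempty_stalk_equiv f hS U hcod ω hω hU s ωs hωs e m z
    (relSkAt_of_invertibleAt f 2 hS _ hz)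
  exact K970.InvAt.invertibleAt_of_stalk_equiv
    (FormalA.PullbackQC.isCoh_pullback (f.fiberι s) _ (K66.Fibre.isCoh_refPowZ hω m))
    (K66.Fibre.isCoh_refPowZ hωs m) z g (K970.InvAt.invertibleAt_pullback (f.fiberι s) _ z hz)

include hS hcod hω hU hωs e in
/-- The converse, if `ω^{[m]}` satisfies relative `(S₂)` at `i z`. -/
theorem invertibleAt_of_fibre (m : ℤ) (z : f.fiber s)
    (hz : RelCanon.RelSkAt f 2 (RelCanon.refPowZ ω m) (f.fiberι s z))
    (h : RelCanon.InvertibleAt (RelCanon.refPowZ ωs m) z) :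
    RelCanon.InvertibleAt (RelCanon.refPowZ ω m) (f.fiberι s z) := by
  haveI := hS.1
  haveI := hS.2.1
  haveI := K66.Fibre.isLocallyNoetherian_fiber f s
  obtain ⟨g⟩ := nonempty_stalk_equiv f hS U hcod ω hω hU s ωs hωs e m z hz
  have hFc : Coh.IsCoh (RelCanon.refPowZ ω m) := K66.Fibre.isCoh_refPowZ hω m
  refine FibMap.invertibleAt_of_fibre f hFc s z hz.1 ?_
  exact K970.InvAt.invertibleAt_of_stalk_equiv (K66.Fibre.isCoh_refPowZ hωs m)
    (FormalA.PullbackQC.isCoh_pullback (f.fiberι s) _ hFc) z g.symm h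

include hS hcod hω hU hωs e in
/-- `ω^{[m]}` satisfies relative `(S₂)` at `i z` if `ωs^{[m]}` is invertible at `z`, the fibre satisfies `(S₃)` at
`z` and the complement of `U` has codimension at least three in it. -/
theorem relSkAt_of_three (m : ℤ) (z : f.fiber s)
    (h : RelCanon.InvertibleAt (RelCanon.refPowZ ωs m) z)
    (h3 : LocCoh.HasSk 3 ((f.fiber s).presheaf.stalk z) ((f.fiber s).presheaf.stalk z))
    (hdim : ∀ w : f.fiber s, w ⤳ z → f.fiberι s w ∉ U →
      (3 : WithBot ℕ∞) ≤ ringKrullDim ((f.fiber s).presheaf.stalk w)) :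
    RelCanon.RelSkAt f 2 (RelCanon.refPowZ ω m) (f.fiberι s z) := by
  haveI := hS.2.1
  haveI := K66.Fibre.isLocallyNoetherian_fiber f s
  obtain ⟨α⟩ := K66.Main.nonempty_pullback_refPowZ (f.fiberι s) ω U hU ωs e m
  obtain ⟨K, hK, hKe⟩ := K66.Fibre.exists_refPowZ_eq hωs m
  obtain ⟨L, hL, hLe⟩ := K66.Fibre.exists_refPowZ_eq hω m
  rw [hKe] at α h
  refine FibMap.relSkAt_of_three f hS U s z hcod _ L hL hLe
    (K66.Main.invertibleAt_refPowZ ω U hU m) K hK (fun w hwz hw => ?_) α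
  have hO : RelCanon.SkAt 3 (Coh.structureModule (f.fiber s)) z :=
    (K969.FibDimSch.skAt_structureModule_iff 3 z).mpr h3
  have hw3 := (K969.FibDimSch.skAt_structureModule_iff 3 w).mp
    (FibMap.skAt_of_specializes (Fdesc.StructMod.isCoh_structureModule _).1 3 hwz hO)
  have h1 := Ega4A.FlatAtPrime.le_depth_of_hasSk _ 3 hw3
  rw [Module.supportDim_self_eq_ringKrullDim, min_eq_left (by exact_mod_cast hdim w hwz hw)] at h1
  have h2 : (3 : ℕ∞) ≤ LocCoh.depth ((f.fiber s).presheaf.stalk w) ((f.fiber s).presheaf.stalk w) :=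
    WithBot.coe_le_coe.mp h1
  obtain ⟨g⟩ := K970.InvAt.nonempty_stalk_equiv w (K970.InvAt.invertibleAt_of_specializes hwz h)
  have h4 : LocCoh.depth ((f.fiber s).presheaf.stalk w) ((f.fiber s).presheaf.stalk w) =
      LocCoh.depth ((f.fiber s).presheaf.stalk w) ((dual K).presheaf.stalk w) :=
    Localalg.Depth.idealDepth_congr_equiv _ g
  rwa [h4] at h2

end Gen

section Main

variable (A : Type u) [CommRing A] [IsNoetherianRing A] (Y : Scheme.{u})
  [Y.Over (Spec (CommRingCat.of A))] [IsProper (Y ↘ Spec (CommRingCat.of A))] (d : ℕ)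
  (hS : RelCanon.IsSkMor (Y ↘ Spec (CommRingCat.of A)) 2)
  (hd : Cyc.HasRelDim (Y ↘ Spec (CommRingCat.of A)) d)
  (ω : Y.Modules) (hω : RelCanon.IsDualizingSheaf A Y d ω)

/-- The Gorenstein locus as an open subset. -/
def gorOpens (hS : RelCanon.IsSkMor (Y ↘ Spec (CommRingCat.of A)) 2) : Y.Opens :=
  haveI := hS.1
  haveI : IsNoetherianRing (CommRingCat.of A) := inferInstanceAs (IsNoetherianRing A)
  haveI : IsLocallyNoetherian Y :=
    LocallyOfFiniteType.isLocallyNoetherian (Y ↘ Spec (CommRingCat.of A))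
  ⟨RelCanon.gorLocus (Y ↘ Spec (CommRingCat.of A)), S3617.result Y _ (Y ↘ Spec (CommRingCat.of A))⟩

theorem mem_gorOpens (y : Y) :
    y ∈ gorOpens A Y hS ↔ y ∈ RelCanon.gorLocus (Y ↘ Spec (CommRingCat.of A)) := Iff.rfl

include hS hd hω in
theorem invertibleAt_of_mem (y : Y) (hy : y ∈ gorOpens A Y hS) : RelCanon.InvertibleAt ω y :=
  haveI := hS.1
  OmegaBasic.invertibleAt A Y d hd ω hω y hy

theorem isCoh_of_isDualizingSheaf_fibre (t : Spec (CommRingCat.of A))
    (ωt : ((Y ↘ Spec (CommRingCat.of A)).fiber t).Modules)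
    (hd : Cyc.HasRelDim (Y ↘ Spec (CommRingCat.of A)) d)
    (hωt : @RelCanon.IsDualizingSheaf ((Spec (CommRingCat.of A)).residueField t) _
      ((Y ↘ Spec (CommRingCat.of A)).fiber t)
      ⟨(Y ↘ Spec (CommRingCat.of A)).fiberToSpecResidueField t⟩ d ωt) : Coh.IsCoh ωt := by
  letI : ((Y ↘ Spec (CommRingCat.of A)).fiber t).Over
      (Spec (CommRingCat.of ((Spec (CommRingCat.of A)).residueField t))) :=
    ⟨(Y ↘ Spec (CommRingCat.of A)).fiberToSpecResidueField t⟩
  have H := K970.BCHyp.isPullback_fibre (Y ↘ Spec (CommRingCat.of A)) t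
  haveI : IsProper (((Y ↘ Spec (CommRingCat.of A)).fiber t) ↘
      Spec (CommRingCat.of ((Spec (CommRingCat.of A)).residueField t))) :=
    MorphismProperty.of_isPullback (P := @IsProper) H inferInstance
  exact OmegaBasic.isCoh ((Spec (CommRingCat.of A)).residueField t) _ d ωt hωt (ReflUnit.dim_fiber_le (K970.BCHyp.hasRelDim_of_isPullback H hd))

include hS hd hω in
/-- `i^* ω ≅ ωt` over the Gorenstein locus. -/
theorem nonempty_fibre_iso (t : Spec (CommRingCat.of A))
    (ωt : ((Y ↘ Spec (CommRingCat.of A)).fiber t).Modules)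
    (hωt : @RelCanon.IsDualizingSheaf ((Spec (CommRingCat.of A)).residueField t) _
      ((Y ↘ Spec (CommRingCat.of A)).fiber t)
      ⟨(Y ↘ Spec (CommRingCat.of A)).fiberToSpecResidueField t⟩ d ωt) :
    Nonempty (((Scheme.Modules.pullback ((Y ↘ Spec (CommRingCat.of A)).fiberι t)).obj ω).restrict
        (((Y ↘ Spec (CommRingCat.of A)).fiberι t) ⁻¹ᵁ (gorOpens A Y hS)).ι ≅
      ωt.restrict (((Y ↘ Spec (CommRingCat.of A)).fiberι t) ⁻¹ᵁ (gorOpens A Y hS)).ι) := by
  haveI := hS.1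
  letI : ((Y ↘ Spec (CommRingCat.of A)).fiber t).Over
      (Spec (CommRingCat.of ((Spec (CommRingCat.of A)).residueField t))) :=
    ⟨(Y ↘ Spec (CommRingCat.of A)).fiberToSpecResidueField t⟩
  have H := K970.BCHyp.isPullback_fibre (Y ↘ Spec (CommRingCat.of A)) t
  obtain ⟨e⟩ := K968.Compare4.nonempty_restrict_iso A hd hω ((Spec (CommRingCat.of A)).residueField t) H hωt (j := (gorOpens A Y hS).ι)
    (j' := (((Y ↘ Spec (CommRingCat.of A)).fiberι t) ⁻¹ᵁ (gorOpens A Y hS)).ι)
    (pV := ((Y ↘ Spec (CommRingCat.of A)).fiberι t) ∣_ (gorOpens A Y hS))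
    (isPullback_morphismRestrict _ _)
    (fun x => Dual.H373.Core.isCMAt_of_isGorensteinAt _ _ x.2)
  exact ⟨((FormalB.PullCoh.restrictPullbackIso _ _).app ω).symm ≪≫ e.symm⟩

end Main

end K967.FibIndex
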