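import Groth.Agent.QGor.K967.BCOff
import Mathlib.RingTheory.LocalProperties.Basic

/-!
# Freeness at primes under base change
-/

set_option autoImplicit false
universe u

open TensorProduct

namespace K967.BCFree

variable (B B' : Type u) [CommRing B] [CommRing B'] [Algebra B B'] (F : Type u) [AddCommGroup F]
  [Module B F]

/-- `(B' ⊗ F)_{q'} = B'_{q'} ⊗_{B_q} F_q`. -/
theorem exists_equiv (q' : Ideal B') [q'.IsPrime] :
    ∃ (_ : Algebra (Localization.AtPrime (q'.comap (algebraMap B B'))) (Localization.AtPrime q')),
      IsScalarTower B (Localization.AtPrime (q'.comap (algebraMap B B')))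
        (Localization.AtPrime q') ∧
      Nonempty (Localization.AtPrime q' ⊗[Localization.AtPrime (q'.comap (algebraMap B B'))]
        (LocalizedModule (q'.comap (algebraMap B B')).primeCompl F)
        ≃ₗ[Localization.AtPrime q'] LocalizedModule q'.primeCompl (B' ⊗[B] F)) := by
  set q : Ideal B := q'.comap (algebraMap B B') with hq
  let φ : Localization.AtPrime q →+* Localization.AtPrime q' :=
    Localization.localRingHom q q' (algebraMap B B') rfl
  let alg : Algebra (Localization.AtPrime q) (Localization.AtPrime q') := φ.toAlgebra
  have htow : IsScalarTower B (Localization.AtPrime q) (Localization.AtPrime q') :=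
    IsScalarTower.of_algebraMap_eq (R := B) (S := Localization.AtPrime q)
      (A := Localization.AtPrime q') fun b => by
      refine Eq.trans ?_ (Localization.localRingHom_to_map q q' (algebraMap B B') rfl b).symm
      exact IsScalarTower.algebraMap_apply B B' (Localization.AtPrime q') b
  refine ⟨alg, htow, ?_⟩
  have h1 : IsBaseChange (Localization.AtPrime q) (LocalizedModule.mkLinearMap q.primeCompl F) :=
    IsLocalizedModule.isBaseChange q.primeCompl (Localization.AtPrime q) _
  have h3 : IsBaseChange (Localization.AtPrime q')
      (LocalizedModule.mkLinearMap q'.primeCompl (B' ⊗[B] F)) :=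
    IsLocalizedModule.isBaseChange q'.primeCompl (Localization.AtPrime q') _
  have h2 := (TensorProduct.isBaseChange B F B').comp h3
  exact ⟨(TensorProduct.AlgebraTensorModule.congr (LinearEquiv.refl _ _) h1.equiv.symm).trans
      ((TensorProduct.AlgebraTensorModule.cancelBaseChange B (Localization.AtPrime q)
        (Localization.AtPrime q') (Localization.AtPrime q') F).trans h2.equiv)⟩

theorem free_localized (q' : Ideal B') [q'.IsPrime]
    (h : Module.Free (Localization.AtPrime (q'.comap (algebraMap B B')))
      (LocalizedModule (q'.comap (algebraMap B B')).primeCompl F)) :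
    Module.Free (Localization.AtPrime q') (LocalizedModule q'.primeCompl (B' ⊗[B] F)) := by
  obtain ⟨alg, htow, ⟨e⟩⟩ := exists_equiv B B' F q'
  exact Module.Free.of_equiv e

end K967.BCFree
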