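import Groth.Agent.QGor.K967.DepthKit
import Groth.Agent.Ega4A.FlatAtPrime
import Groth.Agent.Ega4C.SkFlat
import Groth.Agent.Divis.ReflexAlg

/-!
# Depth of fibre stalks and reflexive modules

* `fib_depth_eq` : the depth of `F_q/pF_q` over `B_q/pB_q` written with `idealDepth` is the depth over `B_q`.
* `fib_depth_le` : it is at most `depth F_q` if `F` is flat over `A`.
* `isReflexive_of_two_le` : reflexive off `V(I)`, `depth_I M ≥ 2`, `depth_I R ≥ 1` imply reflexive.
-/

set_option autoImplicit false
universe u v w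

open IsLocalRing TensorProduct

namespace K967.FibKit

open K967.DepthKit Groth.Agent

section Fib

variable (A B : Type u) [CommRing A] [CommRing B] [Algebra A B]

theorem map_fibLocRing (q : Ideal B) [q.IsPrime] :
    q.map (algebraMap B (EGA4.FibLocRing A B q)) =
      (maximalIdeal (Localization.AtPrime q)).map
        (algebraMap (Localization.AtPrime q) (EGA4.FibLocRing A B q)) := by
  rw [← Localization.AtPrime.map_eq_maximalIdeal, Ideal.map_map]
  rfl

theorem fib_depth_eq (q : Ideal B) [q.IsPrime] (F : Type u) [AddCommGroup F] [Module B F] :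
    LocCoh.idealDepth (q.map (algebraMap B (EGA4.FibLocRing A B q))) (EGA4.FibLocMod A B q F) =
      LocCoh.depth (Localization.AtPrime q) (EGA4.FibLocMod A B q F) := by
  rw [map_fibLocRing, LocCoh.depth,
    Groth.Agent.Ega4C.FlatLocal.idealDepth_of_surjective (S := EGA4.FibLocRing A B q)
      Ideal.Quotient.mk_surjective (maximalIdeal (Localization.AtPrime q))]

/-- The fibre local ring as a fibre module. -/
noncomputable def fibEquiv (q : Ideal B) [q.IsPrime] :
    EGA4.FibLocMod A B q B ≃ₗ[Localization.AtPrime q] EGA4.FibLocRing A B q :=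
  Submodule.Quotient.equiv _ _ (Ega4C.SkFlat.locSelf q.primeCompl) (by
    rw [Submodule.map_smul'', Submodule.map_top, LinearEquiv.range]
    exact Ideal.mul_top _)

theorem fib_depth_eq_ring (q : Ideal B) [q.IsPrime] :
    LocCoh.idealDepth (q.map (algebraMap B (EGA4.FibLocRing A B q))) (EGA4.FibLocRing A B q) =
      LocCoh.depth (Localization.AtPrime q) (EGA4.FibLocMod A B q B) := by
  rw [map_fibLocRing, ← Groth.Agent.Ega4C.FlatLocal.idealDepth_of_surjective
    (S := EGA4.FibLocRing A B q) Ideal.Quotient.mk_surjective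
    (maximalIdeal (Localization.AtPrime q)), LocCoh.depth]
  exact Groth.Agent.Localalg.Depth.idealDepth_congr_equiv _ (fibEquiv A B q).symm

variable [IsNoetherianRing A] [IsNoetherianRing B]

/-- For `F` flat over `A`: `depth F_q = depth A_p + depth F_q/pF_q`. -/
theorem depth_eq_add (F : Type u) [AddCommGroup F] [Module B F] [Module A F] [IsScalarTower A B F]
    [Module.Finite B F] [Module.Flat A F] (q : Ideal B) [q.IsPrime] :
    LocCoh.depth (Localization.AtPrime q) (LocalizedModule q.primeCompl F) =
      LocCoh.depth (Localization.AtPrime (q.comap (algebraMap A B)))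
        (LocalizedModule (q.comap (algebraMap A B)).primeCompl A) +
      LocCoh.depth (Localization.AtPrime q) (EGA4.FibLocMod A B q F) := by
  rw [← Ega4A.FlatAtPrime.depth_tensor_atPrime A B A F q]
  have e : F ⊗[A] A ≃ₗ[B] F := TensorProduct.AlgebraTensorModule.rid A B F
  have e' : LocalizedModule q.primeCompl (F ⊗[A] A) ≃ₗ[Localization.AtPrime q]
      LocalizedModule q.primeCompl F :=
    IsLocalizedModule.mapEquiv q.primeCompl
        (LocalizedModule.mkLinearMap q.primeCompl (F ⊗[A] A))
        (LocalizedModule.mkLinearMap q.primeCompl F) (Localization.AtPrime q) e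
  exact Groth.Agent.Localalg.Depth.idealDepth_congr_equiv _ e'.symm

theorem fib_depth_le (F : Type u) [AddCommGroup F] [Module B F] [Module A F] [IsScalarTower A B F]
    [Module.Finite B F] [Module.Flat A F] (q : Ideal B) [q.IsPrime] :
    LocCoh.idealDepth (q.map (algebraMap B (EGA4.FibLocRing A B q))) (EGA4.FibLocMod A B q F) ≤
      LocCoh.depth (Localization.AtPrime q) (LocalizedModule q.primeCompl F) := by
  rw [fib_depth_eq, depth_eq_add A B F q]
  exact le_add_self

theorem fib_depth_le_ring [Module.Flat A B] (q : Ideal B) [q.IsPrime] :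
    LocCoh.idealDepth (q.map (algebraMap B (EGA4.FibLocRing A B q))) (EGA4.FibLocRing A B q) ≤
      LocCoh.depth (Localization.AtPrime q) (LocalizedModule q.primeCompl B) := by
  rw [fib_depth_eq_ring, depth_eq_add A B B q]
  exact le_add_self

/-- `depth_J B ≥ k` if the fibre local rings have depth `≥ k` along `V(J)`. -/
theorem le_idealDepth_ring [Module.Flat A B] (J : Ideal B) (k : ℕ)
    (hZ : ∀ q : PrimeSpectrum B, J ≤ q.asIdeal →
      (k : ℕ∞) ≤ LocCoh.idealDepth (q.asIdeal.map (algebraMap B (EGA4.FibLocRing A B q.asIdeal)))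
        (EGA4.FibLocRing A B q.asIdeal)) :
    (k : ℕ∞) ≤ LocCoh.idealDepth J B := by
  rw [natCast_le_idealDepth_iff_forall]
  intro q hq hJ
  exact (hZ ⟨q, hq⟩ hJ).trans (fib_depth_le_ring A B q)

theorem le_idealDepth_module (F : Type u) [AddCommGroup F] [Module B F] [Module A F]
    [IsScalarTower A B F] [Module.Finite B F] [Module.Flat A F] (J : Ideal B) (k : ℕ)
    (hZ : ∀ q : PrimeSpectrum B, J ≤ q.asIdeal →
      (k : ℕ∞) ≤ LocCoh.idealDepth (q.asIdeal.map (algebraMap B (EGA4.FibLocRing A B q.asIdeal)))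
        (EGA4.FibLocMod A B q.asIdeal F)) :
    (k : ℕ∞) ≤ LocCoh.idealDepth J F := by
  rw [natCast_le_idealDepth_iff_forall]
  intro q hq hJ
  exact (hZ ⟨q, hq⟩ hJ).trans (fib_depth_le A B F q)

end Fib

section Reflexive

variable {R : Type u} [CommRing R] [IsNoetherianRing R] {I : Ideal R} {M : Type u}
  [AddCommGroup M] [Module R M] [Module.Finite R M]

theorem support_ker_eval (h : ∀ p : PrimeSpectrum R, ¬ I ≤ p.asIdeal →
      Module.IsReflexive (Localization.AtPrime p.asIdeal)
        (LocalizedModule p.asIdeal.primeCompl M)) :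
    Module.support R (LinearMap.ker (Module.Dual.eval R M)) ⊆
      PrimeSpectrum.zeroLocus (I : Set R) := by
  intro p hp
  by_contra hIp
  have := h p hIp
  rw [Module.mem_support_iff'] at hp
  obtain ⟨⟨m, hm⟩, hm'⟩ := hp
  obtain ⟨s, hs, hsm⟩ := Divis.ReflexAlg.exists_smul_eq_zero_of_eval_eq_zero p.asIdeal.primeCompl
    (Localization.AtPrime p.asIdeal) (LocalizedModule.mkLinearMap p.asIdeal.primeCompl M) m hm
  exact hm' s hs (Subtype.ext hsm)

theorem support_coker_eval (h : ∀ p : PrimeSpectrum R, ¬ I ≤ p.asIdeal →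
      Module.IsReflexive (Localization.AtPrime p.asIdeal)
        (LocalizedModule p.asIdeal.primeCompl M)) :
    Module.support R (Module.Dual R (Module.Dual R M) ⧸ LinearMap.range (Module.Dual.eval R M)) ⊆
      PrimeSpectrum.zeroLocus (I : Set R) := by
  intro p hp
  by_contra hIp
  have := h p hIp
  rw [Module.mem_support_iff'] at hp
  obtain ⟨x, hx⟩ := hp
  obtain ⟨φ, rfl⟩ := Submodule.mkQ_surjective _ x
  obtain ⟨s, hs, m, hsm⟩ := Divis.ReflexAlg.exists_smul_eq_eval p.asIdeal.primeCompl
    (Localization.AtPrime p.asIdeal) (LocalizedModule.mkLinearMap p.asIdeal.primeCompl M) φ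
  refine hx s hs ?_
  rw [← map_smul, hsm, Submodule.mkQ_apply, Submodule.Quotient.mk_eq_zero]
  exact ⟨m, rfl⟩

/-- A module which is reflexive off `V(I)` and has `I`-depth at least two is reflexive if `depth_I R ≥ 1`. -/
theorem isReflexive_of_two_le (h : ∀ p : PrimeSpectrum R, ¬ I ≤ p.asIdeal →
      Module.IsReflexive (Localization.AtPrime p.asIdeal)
        (LocalizedModule p.asIdeal.primeCompl M))
    (hR : 1 ≤ LocCoh.idealDepth I R) (hM : 2 ≤ LocCoh.idealDepth I M) :
    Module.IsReflexive R M :=
  ⟨bijective_of_off (Module.Dual.eval R M) hM (one_le_idealDepth_hom hR) (support_ker_eval h)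
    (support_coker_eval h)⟩

theorem two_le_of_isReflexive [Module.IsReflexive R M] (hR : 2 ≤ LocCoh.idealDepth I R) :
    2 ≤ LocCoh.idealDepth I M := by
  rw [Groth.Agent.Localalg.Depth.idealDepth_congr_equiv I (Module.evalEquiv R M)]
  exact two_le_idealDepth_hom hR

end Reflexive

end K967.FibKit
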