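import Groth.Agent.QGor.K967.FibBC
import Groth.Agent.QGor.K967.FibKit
import Groth.Agent.QGor.K967.DepthKit

/-!
# Maps which are bijective off `V(I)` under base change

If `u : M → N` has kernel and cokernel supported on `V(I)` then for `s ∈ I` there are `n` and
`v : N → M` with `v u = sⁿ` and `u v = sⁿ`; hence any base change of `u` has kernel and cokernel
supported on `V(I B')`.
-/

set_option autoImplicit false
universe u

open TensorProduct

namespace K967.BCOff

section QI

variable {R : Type u} [CommRing R] {M N : Type u} [AddCommGroup M] [Module R M] [AddCommGroup N]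
  [Module R N]

theorem exists_inv_of_smul (u : M →ₗ[R] N) (s : R) (hk : ∀ x ∈ LinearMap.ker u, s • x = 0)
    (hc : ∀ y : N, s • y ∈ LinearMap.range u) :
    ∃ v : N →ₗ[R] M, (∀ x, v (u x) = (s ^ 2) • x) ∧ ∀ y, u (v y) = (s ^ 2) • y := by
  let w : M ⧸ LinearMap.ker u →ₗ[R] M := (LinearMap.ker u).liftQ (LinearMap.lsmul R M s) hk
  let c : N →ₗ[R] LinearMap.range u := (LinearMap.lsmul R N s).codRestrict _ hc
  let e := u.quotKerEquivRange
  have h1 : ∀ x : M, w (e.symm ⟨u x, x, rfl⟩) = s • x := by
    intro x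
    have : e.symm ⟨u x, x, rfl⟩ = (LinearMap.ker u).mkQ x := by
      rw [LinearEquiv.symm_apply_eq]
      rfl
    rw [this]
    rfl
  refine ⟨w ∘ₗ e.symm.toLinearMap ∘ₗ c, fun x => ?_, fun y => ?_⟩
  · have h2 : c (u x) = ⟨u (s • x), s • x, rfl⟩ := by
      apply Subtype.ext
      change s • u x = u (s • x)
      rw [map_smul]
    change w (e.symm (c (u x))) = _
    rw [h2, h1, smul_smul, sq]
  · obtain ⟨x, hx⟩ := hc y
    have h2 : c y = ⟨u x, x, rfl⟩ := by
      apply Subtype.ext
      change s • y = u x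
      rw [hx]
    change u (w (e.symm (c y))) = _
    rw [h2, h1, map_smul, hx, smul_smul, sq]

variable [IsNoetherianRing R] {I : Ideal R}

theorem exists_pow_smul (K : Type u) [AddCommGroup K] [Module R K] [Module.Finite R K]
    (hK : Module.support R K ⊆ PrimeSpectrum.zeroLocus (I : Set R)) (s : R) (hs : s ∈ I) :
    ∃ n : ℕ, ∀ x : K, s ^ n • x = 0 := by
  rw [Module.support_eq_zeroLocus, PrimeSpectrum.zeroLocus_subset_zeroLocus_iff] at hK
  obtain ⟨n, hn⟩ := hK hs
  exact ⟨n, fun x => Module.mem_annihilator.mp hn x⟩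

theorem exists_inv [Module.Finite R M] [Module.Finite R N] (u : M →ₗ[R] N)
    (hk : Module.support R (LinearMap.ker u) ⊆ PrimeSpectrum.zeroLocus (I : Set R))
    (hc : Module.support R (N ⧸ LinearMap.range u) ⊆ PrimeSpectrum.zeroLocus (I : Set R))
    (s : R) (hs : s ∈ I) :
    ∃ (n : ℕ) (v : N →ₗ[R] M), (∀ x, v (u x) = (s ^ n) • x) ∧ ∀ y, u (v y) = (s ^ n) • y := by
  obtain ⟨a, ha⟩ := exists_pow_smul _ hk s hs
  obtain ⟨b, hb⟩ := exists_pow_smul _ hc s hs
  obtain ⟨v, h1, h2⟩ := exists_inv_of_smul u (s ^ (a + b)) (fun x hx => by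
      have := ha ⟨x, hx⟩
      have h3 : s ^ a • x = 0 := congrArg Subtype.val this
      rw [pow_add, mul_comm, mul_smul, h3, smul_zero]) (fun y => by
      have h3 := hb ((LinearMap.range u).mkQ y)
      rw [← map_smul, Submodule.mkQ_apply, Submodule.Quotient.mk_eq_zero] at h3
      rw [pow_add, mul_smul]
      exact Submodule.smul_mem _ _ h3)
  refine ⟨(a + b) * 2, v, fun x => ?_, fun y => ?_⟩
  · rw [h1, pow_mul]
  · rw [h2, pow_mul]

/-- Support of the kernel of a base change. -/
theorem support_ker_baseChange [Module.Finite R M] [Module.Finite R N] (u : M →ₗ[R] N)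
    (hk : Module.support R (LinearMap.ker u) ⊆ PrimeSpectrum.zeroLocus (I : Set R))
    (hc : Module.support R (N ⧸ LinearMap.range u) ⊆ PrimeSpectrum.zeroLocus (I : Set R))
    (R' : Type u) [CommRing R'] [Algebra R R'] :
    Module.support R' (LinearMap.ker (u.baseChange R')) ⊆
      PrimeSpectrum.zeroLocus (I.map (algebraMap R R') : Set R') := by
  intro p hp
  change I.map (algebraMap R R') ≤ p.asIdeal
  rw [Ideal.map_le_iff_le_comap]
  intro s hs
  by_contra hsp
  obtain ⟨n, v, h1, -⟩ := exists_inv u hk hc s hs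
  rw [Module.mem_support_iff'] at hp
  obtain ⟨⟨x, hx⟩, hm⟩ := hp
  refine hm (algebraMap R R' (s ^ n)) (fun h => hsp ?_) ?_
  · rw [map_pow] at h
    exact p.2.mem_of_pow_mem n h
  · apply Subtype.ext
    change algebraMap R R' (s ^ n) • x = 0
    have h3 : (v.baseChange R') ((u.baseChange R') x) = algebraMap R R' (s ^ n) • x := by
      have h4 : v ∘ₗ u = (s ^ n) • LinearMap.id := LinearMap.ext h1
      have h5 : (v.baseChange R') ((u.baseChange R') x) = (v ∘ₗ u).baseChange R' x := by
        rw [LinearMap.baseChange_comp]; rfl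
      rw [h5, h4, LinearMap.baseChange_smul, LinearMap.baseChange_id, LinearMap.smul_apply,
        LinearMap.id_apply]
      exact (algebraMap_smul R' (s ^ n) x).symm
    rw [← h3, LinearMap.mem_ker.mp hx, map_zero]

theorem support_coker_baseChange [Module.Finite R M] [Module.Finite R N] (u : M →ₗ[R] N)
    (hk : Module.support R (LinearMap.ker u) ⊆ PrimeSpectrum.zeroLocus (I : Set R))
    (hc : Module.support R (N ⧸ LinearMap.range u) ⊆ PrimeSpectrum.zeroLocus (I : Set R))
    (R' : Type u) [CommRing R'] [Algebra R R'] :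
    Module.support R' ((R' ⊗[R] N) ⧸ LinearMap.range (u.baseChange R')) ⊆
      PrimeSpectrum.zeroLocus (I.map (algebraMap R R') : Set R') := by
  intro p hp
  change I.map (algebraMap R R') ≤ p.asIdeal
  rw [Ideal.map_le_iff_le_comap]
  intro s hs
  by_contra hsp
  obtain ⟨n, v, -, h2⟩ := exists_inv u hk hc s hs
  rw [Module.mem_support_iff'] at hp
  obtain ⟨x, hm⟩ := hp
  obtain ⟨x, rfl⟩ := Submodule.mkQ_surjective _ x
  refine hm (algebraMap R R' (s ^ n)) (fun h => hsp ?_) ?_
  · rw [map_pow] at h
    exact p.2.mem_of_pow_mem n h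
  · rw [← map_smul, Submodule.mkQ_apply, Submodule.Quotient.mk_eq_zero]
    refine ⟨v.baseChange R' x, ?_⟩
    have h4 : u ∘ₗ v = (s ^ n) • LinearMap.id := LinearMap.ext h2
    have h5 : (u.baseChange R') ((v.baseChange R') x) = (u ∘ₗ v).baseChange R' x := by
      rw [LinearMap.baseChange_comp]; rfl
    rw [h5, h4, LinearMap.baseChange_smul, LinearMap.baseChange_id, LinearMap.smul_apply,
      LinearMap.id_apply]
    exact (algebraMap_smul R' (s ^ n) x).symm

end QI

section Fib

variable (A B : Type u) [CommRing A] [CommRing B] [Algebra A B]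

/-- Fibre modules of isomorphic modules. -/
theorem fib_depth_congr {N N' : Type u} [AddCommGroup N] [Module B N] [AddCommGroup N']
    [Module B N'] (e : N ≃ₗ[B] N') (q : Ideal B) [q.IsPrime] (J : Ideal (EGA4.FibLocRing A B q)) :
    LocCoh.idealDepth J (EGA4.FibLocMod A B q N) = LocCoh.idealDepth J (EGA4.FibLocMod A B q N') :=
  Groth.Agent.Localalg.Depth.idealDepth_congr_equiv J
    (((Groth.Agent.Ega43.FibSpec.isBaseChange_fib A N q).equiv.symm.trans
      (TensorProduct.AlgebraTensorModule.congr (LinearEquiv.refl _ _) e)).trans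
      (Groth.Agent.Ega43.FibSpec.isBaseChange_fib A N' q).equiv)

theorem fib_depth_self (q : Ideal B) [q.IsPrime] (J : Ideal (EGA4.FibLocRing A B q)) :
    LocCoh.idealDepth J (EGA4.FibLocMod A B q B) = LocCoh.idealDepth J (EGA4.FibLocRing A B q) :=
  Groth.Agent.Localalg.Depth.idealDepth_congr_equiv J
    ((Groth.Agent.Ega43.FibSpec.isBaseChange_fib A B q).equiv.symm.trans
      (TensorProduct.AlgebraTensorModule.rid B (EGA4.FibLocRing A B q) (EGA4.FibLocRing A B q)))

variable (A' B' : Type u) [CommRing A'] [CommRing B']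
  [Algebra A A'] [Algebra B B'] [Algebra A' B'] [Algebra A B']
  [IsScalarTower A B B'] [IsScalarTower A A' B'] [Algebra.IsPushout A B A' B']

/-- Depth of the fibre local rings under base change. -/
theorem fib_depth_le_ring [IsNoetherianRing B'] (q' : Ideal B') [q'.IsPrime] :
    LocCoh.idealDepth ((q'.comap (algebraMap B B')).map
      (algebraMap B (EGA4.FibLocRing A B (q'.comap (algebraMap B B')))))
      (EGA4.FibLocRing A B (q'.comap (algebraMap B B'))) ≤
    LocCoh.idealDepth (q'.map (algebraMap B' (EGA4.FibLocRing A' B' q')))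
      (EGA4.FibLocRing A' B' q') := by
  rw [← fib_depth_self, ← fib_depth_self,
    ← fib_depth_congr A' B' (TensorProduct.AlgebraTensorModule.rid B B' B')]
  exact FibBC.fib_depth_le A B A' B' B q'

include A B in
theorem flat_pushout [Module.Flat A B] : Module.Flat A' B' := by
  have h : Algebra.IsPushout A A' B B' := Algebra.IsPushout.symm inferInstance
  exact Module.Flat.isBaseChange A A' B B' h.out

theorem flat_baseChange (F : Type u) [AddCommGroup F] [Module B F] [Module A F]
    [IsScalarTower A B F] [Module.Flat A F] : Module.Flat A' (B' ⊗[B] F) := by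
  have h : Algebra.IsPushout A A' B B' := Algebra.IsPushout.symm inferInstance
  exact Module.Flat.of_linearEquiv (Algebra.IsPushout.cancelBaseChange A A' B B' F)

end Fib

end K967.BCOff
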