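import Groth.Agent.QGor.K968.Compare1
import Groth.Agent.S3614
import Groth.Agent.S3616
import Groth.Agent.S4961
import Groth.Agent.S1766
import Groth.Agent.S0998
import Groth.Agent.Dcoh.DerSch
import Groth.Agent.Dual.H317.CohShriek
import Groth.Agent.Dual.H373.GorComp
import Groth.Agent.Dual.H373.Core
import Groth.Agent.Dual.H375.OneDeg
import Groth.Agent.Ega43.CMOpen
import Groth.Agent.FibDim.K582.RelDim
import Groth.Agent.QGor.K970.InvAt
import Groth.Agent.PerfC.RelFlat
import Groth.Agent.Ega3B.FlatRestrict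
import Groth.Agent.S3617

/-!
# The right adjoint of `Rf_*` on the relative Cohen–Macaulay and Gorenstein loci

For `f : X → Y` proper, `Y` Noetherian, of pure relative dimension `d`, and `a` right adjoint to `Rf_*`:
* `exists_data`: `a` exists;
* `isCoh_HD`: the cohomology sheaves of `a(O)` are coherent;
* `isZero_of_cm`, `isFlatOver_of_cm`: over an open of Cohen–Macaulay points `a(O)` is a flat sheaf in
  degree `-d`;
* `invertibleAt_of_gor`: `H^{-d}(a(O))` is invertible at the Gorenstein points.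
-/

set_option autoImplicit false
universe u
open CategoryTheory CategoryTheory.Limits AlgebraicGeometry
attribute [local instance] HasDerivedCategory.standard

noncomputable section

namespace K967.CMLocus

open Groth.Agent Groth.Agent.PerfA

section Data

variable {X Y : Scheme.{u}} [IsNoetherian Y] (f : X ⟶ Y) [IsProper f]

/-- The data of duality exist. -/
theorem exists_data : ∃ (_ : DCoh.HasRpush f) (h : DCoh.RpushPreservesQCoh f)
    (a : DCoh.DQCoh Y ⥤ DCoh.DQCoh X) (_ : DCoh.RpushQ f h ⊣ a) (O : DCoh.DQCoh Y),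
      Nonempty (O.obj ≅ DCoh.inD Y (Coh.structureModule Y)) := by
  have hR := Dcoh.DerSch.hasRpush f
  have h : DCoh.RpushPreservesQCoh f := fun K hK => S0998.result f K hK
  have hc : CompactSpace X := QuasiCompact.compactSpace_of_compactSpace f
  have hq : QuasiSeparatedSpace X := quasiSeparatedSpace_of_quasiSeparated f
  have hs : (DCoh.RpushQ f h).IsLeftAdjoint := S1766.result X Y f h
  have hO : Coh.IsCoh (Coh.structureModule Y) := CurvesB.UnitCoh.isCoh_structureModule _
  exact ⟨hR, h, (DCoh.RpushQ f h).rightAdjoint, Adjunction.ofIsLeftAdjoint _,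
    ⟨DCoh.inD _ (Coh.structureModule Y), QCohD.isQCohD_inD _ hO.1⟩, ⟨Iso.refl _⟩⟩

end Data

variable {X Y : Scheme.{u}} [IsNoetherian Y] (f : X ⟶ Y) [IsProper f] [DCoh.HasRpush f]
  {h : DCoh.RpushPreservesQCoh f} {a : DCoh.DQCoh Y ⥤ DCoh.DQCoh X} (adj : DCoh.RpushQ f h ⊣ a)
  (O : DCoh.DQCoh Y) (hO : Nonempty (O.obj ≅ DCoh.inD Y (Coh.structureModule Y)))

/-- The compactification `X` of an open of `X`. -/
def cpt (V : X.Opens) : DEt.Compactification (V.ι ≫ f) where
  Xbar := X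
  j := V.ι
  fbar := f
  isOpenImmersion := inferInstance
  isProper := inferInstance
  fac := rfl

omit [AlgebraicGeometry.IsNoetherian Y] in
/-- The cohomology sheaves of `f^! O` on an open. -/
def hdIso (V : X.Opens) (k : ℤ) :
    DCoh.HD ((Dual3.shriekC (cpt f V) a).obj O) k ≅ (DCoh.HD (a.obj O).obj k).restrict V.ι :=
  Restrict.HDrestrict V.ι (a.obj O).obj k

include adj hO

theorem isCoh_HD (i : ℤ) : Coh.IsCoh (DCoh.HD (a.obj O).obj i) := by
  have hcX : CompactSpace X := QuasiCompact.compactSpace_of_compactSpace f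
  exact LoccohB.AdMain.isCohD_of_univ f
    (Dual.H317.CohShriek.isCohD_of_iso_structure hO) 0
    (Dual.H317.CohShriek.isGE_of_iso_structure hO) (Ega1.ADualUniv.univ_of_adj (h := h) adj O) i

theorem main_cm (V : X.Opens) (hV : ∀ x ∈ V, MoreMor.IsCMAt f x) (d : ℕ) (hd : Cyc.HasRelDim f d) :
    (∀ i : ℤ, i ≠ -(d : ℤ) → IsZero ((DCoh.HD (a.obj O).obj i).restrict V.ι)) ∧
      FlatMod.IsFlatOver (V.ι ≫ f) ((DCoh.HD (a.obj O).obj (-(d : ℤ))).restrict V.ι) := by
  have hlX : IsLocallyNoetherian X := LocallyOfFiniteType.isLocallyNoetherian f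
  have hcX : CompactSpace X := QuasiCompact.compactSpace_of_compactSpace f
  have hNX : IsNoetherian X := {}
  have hR : DCoh.HasRpush (cpt f V).fbar := inferInstanceAs (DCoh.HasRpush f)
  have hqc : QuasiCompact V.ι := inferInstance
  have hsep : Dual3.IsSepFT (V.ι ≫ f) := ⟨inferInstance, inferInstance, inferInstance⟩
  have hsep' : Dual3.IsSepFT (𝟙 Y) := ⟨inferInstance, inferInstance, inferInstance⟩
  obtain ⟨h1, h2, h3⟩ := S3614.result Y V Y (V.ι ≫ f) (𝟙 Y) (V.ι ≫ f) (Category.comp_id _)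
    (fun x => (Ega43.CMOpen.isCMAt_comp_iff V.ι f x).2 (hV x.1 x.2)) d
    ((K582.FibRelDim.hasRelDim_iff (V.ι ≫ f) d).2 fun x => by
      rw [K582.FibRelDim.fibreDimAt_comp_isOpenImmersion]
      exact (K582.FibRelDim.hasRelDim_iff f d).1 hd _)
    (cpt f V) h a adj O hO
  exact ⟨fun i hi => (h1 i hi).of_iso (hdIso f O V i).symm,
    fun x => PerfC.RelFlat.isFlatOverAt_of_iso _ (hdIso f O V _) x (h3 x)⟩

/-- `H^{-d}(a(O))` is flat over the base at the Cohen–Macaulay points. -/
theorem isFlatOverAt_of_cm (d : ℕ) (hd : Cyc.HasRelDim f d) (x : X) (hx : MoreMor.IsCMAt f x) :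
    FlatMod.IsFlatOverAt f (DCoh.HD (a.obj O).obj (-(d : ℤ))) x := by
  let V : X.Opens := ⟨{x : X | MoreMor.IsCMAt f x}, S4961.result f⟩
  have h1 := (main_cm f adj O hO V (fun x hx => hx) d hd).2 ⟨x, hx⟩
  exact (Ega3B.FlatRestrict.isFlatOverAt_restrict_iff_comp f V.ι _ ⟨x, hx⟩).1 h1

/-- The other cohomology sheaves of `a(O)` vanish at the Cohen–Macaulay points. -/
theorem subsingleton_stalk_of_cm (d : ℕ) (hd : Cyc.HasRelDim f d) (x : X) (hx : MoreMor.IsCMAt f x)
    (i : ℤ) (hi : i ≠ -(d : ℤ)) : Subsingleton ((DCoh.HD (a.obj O).obj i).presheaf.stalk x) := by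
  let V : X.Opens := ⟨{x : X | MoreMor.IsCMAt f x}, S4961.result f⟩
  have h1 := (main_cm f adj O hO V (fun x hx => hx) d hd).1 i hi
  rw [← not_nontrivial_iff_subsingleton]
  intro h2
  have h3 := (Dual.H375.OneDeg.nontrivial_stalk_restrict V.ι _ ⟨x, hx⟩).2 h2
  rw [← not_subsingleton_iff_nontrivial] at h3
  exact h3 (AddCommGrpCat.subsingleton_of_isZero
    ((Restrict.stalkAb (X := (V : Scheme.{u})) ⟨x, hx⟩).map_isZero h1))

/-- `H^{-d}(a(O))` is invertible at the Gorenstein points. -/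
theorem invertibleAt_of_gor [Flat f] (d : ℕ) (hd : Cyc.HasRelDim f d) (y : X)
    (hy : Dual3.IsGorensteinAt f y) :
    RelCanon.InvertibleAt (DCoh.HD (a.obj O).obj (-(d : ℤ))) y := by
  have hlX : IsLocallyNoetherian X := LocallyOfFiniteType.isLocallyNoetherian f
  have hcX : CompactSpace X := QuasiCompact.compactSpace_of_compactSpace f
  have hNX : IsNoetherian X := {}
  let V : X.Opens := ⟨{x : X | Dual3.IsGorensteinAt f x}, S3617.result X Y f⟩
  have hR : DCoh.HasRpush (cpt f V).fbar := inferInstanceAs (DCoh.HasRpush f)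
  have hqc : QuasiCompact V.ι := inferInstance
  have hsep : Dual3.IsSepFT (V.ι ≫ f) := ⟨inferInstance, inferInstance, inferInstance⟩
  have hsep' : Dual3.IsSepFT (𝟙 Y) := ⟨inferInstance, inferInstance, inferInstance⟩
  obtain ⟨U, hyU, hU⟩ := ((S3616.result Y V Y (V.ι ≫ f) (𝟙 Y) (V.ι ≫ f) (Category.comp_id _)
    (cpt f V) h a adj O hO).1 ⟨y, hy⟩).1
      ((Dual.H373.GorComp.isGorensteinAt_comp_openImmersion V.ι f ⟨y, hy⟩).2 hy)
  obtain ⟨U', n, hyU', ⟨e⟩⟩ := hU ⟨⟨y, hy⟩, hyU⟩
  have eH : ∀ k : ℤ, DCoh.HD ((DCoh.inD (U' : Scheme.{u})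
      (Coh.structureModule (U' : Scheme.{u})))⟦n⟧) k ≅
      (((DCoh.HD (a.obj O).obj k).restrict V.ι).restrict U.ι).restrict U'.ι := fun k =>
    (DerivedCategory.homologyFunctor _ k).mapIso e.symm ≪≫
      Restrict.HDrestrict U'.ι _ k ≪≫
      (Scheme.Modules.restrictFunctor U'.ι).mapIso (Restrict.HDrestrict U.ι _ k ≪≫
        (Scheme.Modules.restrictFunctor U.ι).mapIso (hdIso f O V k))
  have hn : n = d := by
    by_contra hne
    have h1 := (Dual.H375.OneDeg.nontrivial_stalk_shift (U' : Scheme.{u}) n (-n)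
      ⟨⟨⟨y, hy⟩, hyU⟩, hyU'⟩).2 rfl
    rw [Dual.H375.OneDeg.nontrivial_stalk_congr (eH (-n)),
      Dual.H375.OneDeg.nontrivial_stalk_restrict, Dual.H375.OneDeg.nontrivial_stalk_restrict,
      Dual.H375.OneDeg.nontrivial_stalk_restrict, ← not_subsingleton_iff_nontrivial] at h1
    exact h1 (subsingleton_stalk_of_cm f adj O hO d hd y
      (Dual.H373.Core.isCMAt_of_isGorensteinAt f y hy) (-n) (by omega))
  subst hn
  have e1 : (((DCoh.HD (a.obj O).obj (-(d : ℤ))).restrict V.ι).restrict U.ι).restrict U'.ι ≅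
      Coh.structureModule (U' : Scheme.{u}) :=
    (eH (-(d : ℤ))).symm ≪≫
      ((DerivedCategory.homologyFunctor (U' : Scheme.{u}).Modules 0).shiftIso (d : ℤ) (-(d : ℤ)) 0
        (by omega)).app _ ≪≫
      (DerivedCategory.singleFunctorCompHomologyFunctorIso (U' : Scheme.{u}).Modules 0).app
        (Coh.structureModule (U' : Scheme.{u}))
  have h2 := K970.InvAt.invertibleAt_of_iso e1.symm ⟨⟨⟨y, hy⟩, hyU⟩, hyU'⟩
    (K970.InvAt.invertibleAt_structure _)
  rwa [K970.InvAt.invertibleAt_restrict_iff, K970.InvAt.invertibleAt_restrict_iff,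
    K970.InvAt.invertibleAt_restrict_iff] at h2

end K967.CMLocus
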