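import Groth.Agent.QGor.K967.DeltaSk

/-!
# The dimension function of a dualizing complex normalized at all maximal ideals is `dim A/p`
-/

set_option autoImplicit false
universe u v
open CategoryTheory CategoryTheory.Limits
attribute [local instance] HasDerivedCategory.standard

namespace K967.DeltaDim

open Groth.Agent.LoccohA Groth.Agent.LoccohA.DExt Groth.Agent.LoccohA.DExtDim Groth.Agent.CalgB.DzData Groth.Agent

variable {A : Type u} [CommRing A] [IsNoetherianRing A] {ω : Dual.D A} {δ : PrimeSpectrum A → ℤ}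

theorem delta_maximal (h : IsDelta ω δ)
    (hnorm : ∀ (m : Ideal A) (_ : m.IsMaximal) (i : ℤ), i ≠ 0 →
      Subsingleton (Dual.inD A (A ⧸ m) ⟶ ω⟦i⟧)) (m : PrimeSpectrum A) (hm : m.asIdeal.IsMaximal) :
    δ m = 0 := by
  by_contra hne
  have h1 : m ∈ Module.support A (E ω (-δ m) (A ⧸ m.asIdeal)) := (h.mem _ _).mpr rfl
  have h2 : Subsingleton (E ω (-δ m) (A ⧸ m.asIdeal)) := hnorm m.asIdeal hm _ (by omega)
  rw [Module.support_eq_empty] at h1
  exact h1

/-- If `δ` vanishes at all maximal ideals then `δ ≥ 0` and `δ p = dim A/p`. -/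
theorem dim_quotient (h : IsDelta ω δ)
    (h0 : ∀ m : PrimeSpectrum A, m.asIdeal.IsMaximal → δ m = 0) (p : PrimeSpectrum A) :
    0 ≤ δ p ∧ ringKrullDim (A ⧸ p.asIdeal) = ((δ p).toNat : WithBot ℕ∞) := by
  have hpos : ∀ q : PrimeSpectrum A, 0 ≤ δ q := fun q => by
    obtain ⟨m, hm, hqm⟩ := Ideal.exists_le_maximal q.asIdeal q.isPrime.ne_top
    have h1 := K967.DeltaSk.delta_anti h (show q ≤ ⟨m, hm.isPrime⟩ from hqm)
    have h2 := h0 ⟨m, hm.isPrime⟩ hm
    omega
  refine ⟨hpos p, le_antisymm ?_ ?_⟩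
  · rw [ringKrullDim_quotient, Order.krullDim]
    refine iSup_le fun s => ?_
    have h1 := DimFun.length_le h.cov (s.map (fun x => x.1) (fun _ _ h => h))
    have h2 : δ s.head.1 ≤ δ p := K967.DeltaSk.delta_anti h (show p ≤ s.head.1 from s.head.2)
    have h3 := hpos s.last.1
    simp only [LTSeries.map_length, LTSeries.head_map, LTSeries.last_map] at h1
    have h4 : s.length ≤ (δ p).toNat := by omega
    exact_mod_cast h4
  · obtain ⟨m, hm, hpm⟩ := Ideal.exists_le_maximal p.asIdeal p.isPrime.ne_top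
    obtain ⟨s, h1, h2, h3⟩ := DimFun.exists_ltSeries h.cov (show p ≤ ⟨m, hm.isPrime⟩ from hpm)
    have h4 := h0 ⟨m, hm.isPrime⟩ hm
    have hlen : s.length = (δ p).toNat := by omega
    rw [← hlen, ringKrullDim_quotient]
    let t : LTSeries (PrimeSpectrum.zeroLocus (p.asIdeal : Set A)) :=
      { length := s.length
        toFun := fun i => ⟨s i, by
          have h5 : p ≤ s i := by
            rw [← h1]; exact s.monotone (Fin.zero_le i)
          exact h5⟩
        step := fun i => s.step i }
    exact _root_.Order.LTSeries.length_le_krullDim t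

end K967.DeltaDim
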