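import Groth.Agent.CalgB.DzData

/-!
# Serre's condition `(S_k)` through the supports of `Ext^i(M, ω)`, equidimensional case

* `supportDim_le_iff` : `dim Supp N ≤ n` iff `dim A/p ≤ n` for all `p ∈ Supp N`.
* `hasSk_iff` : if the dimension function takes the constant value `c` on the minimal primes of `Supp M`, then `M` has
  `(S_k)` iff `δ p ≤ -i - k` for all `i ≠ -c` and all `p ∈ Supp Ext^i(M, ω)`.
-/

set_option autoImplicit false
universe u v
open CategoryTheory CategoryTheory.Limits
attribute [local instance] HasDerivedCategory.standard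

namespace K967.DeltaSk

open Groth.Agent.LoccohA Groth.Agent.LoccohA.DExt Groth.Agent.LoccohA.DExtDim Groth.Agent.CalgB.DzData Groth.Agent

section Dim

variable {A : Type u} [CommRing A]

theorem ringKrullDim_quotient_le_of_mem (N : Type v) [AddCommGroup N] [Module A N]
    {p : PrimeSpectrum A} (hp : p ∈ Module.support A N) :
    ringKrullDim (A ⧸ p.asIdeal) ≤ Module.supportDim A N := by
  rw [ringKrullDim_quotient]
  unfold Module.supportDim
  refine Order.krullDim_le_of_strictMono
    (fun q : PrimeSpectrum.zeroLocus (p.asIdeal : Set A) =>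
      (⟨q.1, Module.mem_support_mono (show p ≤ q.1 from q.2) hp⟩ : Module.support A N)) ?_
  intro a b hab
  exact hab

theorem supportDim_le_iff (N : Type v) [AddCommGroup N] [Module A N] (n : WithBot ℕ∞) :
    Module.supportDim A N ≤ n ↔ ∀ p ∈ Module.support A N, ringKrullDim (A ⧸ p.asIdeal) ≤ n := by
  constructor
  · intro h p hp
    exact (ringKrullDim_quotient_le_of_mem N hp).trans h
  · intro h
    unfold Module.supportDim
    rw [Order.krullDim]
    refine iSup_le fun s => ?_
    refine le_trans ?_ (h s.head.1 s.head.2)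
    rw [ringKrullDim_quotient]
    let s' : LTSeries (PrimeSpectrum.zeroLocus (s.head.1.asIdeal : Set A)) :=
      { length := s.length
        toFun := fun i => ⟨(s i).1, (show s.head.1 ≤ (s i).1 from s.head_le i)⟩
        step := fun i => s.step i }
    exact Order.LTSeries.length_le_krullDim s'

end Dim

variable {A : Type u} [CommRing A] [IsNoetherianRing A] {ω : Dual.D A} {δ : PrimeSpectrum A → ℤ}

omit [IsNoetherianRing A] in
theorem exists_minimal_le {M : Type u} [AddCommGroup M] [Module A M] [Module.Finite A M]
    {p : PrimeSpectrum A} (hp : p ∈ Module.support A M) :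
    ∃ q : PrimeSpectrum A, q.asIdeal ∈ (Module.annihilator A M).minimalPrimes ∧ q ≤ p ∧
      q ∈ Module.support A M := by
  have h1 : Module.annihilator A M ≤ p.asIdeal := by
    rw [Module.mem_support_iff_of_finite] at hp
    exact hp
  obtain ⟨q, hq, hqp⟩ := Ideal.exists_minimalPrimes_le h1
  refine ⟨⟨q, hq.1.1⟩, hq, hqp, ?_⟩
  rw [Module.mem_support_iff_of_finite]
  exact hq.1.2

theorem delta_anti (h : IsDelta ω δ) {p q : PrimeSpectrum A} (hpq : p ≤ q) : δ q ≤ δ p :=
  DimFun.le_of_le h.cov hpq

/-- `dim M_p = c - δ p` if `δ = c` on the minimal primes of the support. -/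
theorem supportDim_eq (h : IsDelta ω δ) {M : Type u} [AddCommGroup M] [Module A M]
    [Module.Finite A M] {c : ℤ}
    (hc : ∀ q : PrimeSpectrum A, q.asIdeal ∈ (Module.annihilator A M).minimalPrimes → δ q = c)
    {p : PrimeSpectrum A} (hp : p ∈ Module.support A M) :
    δ p ≤ c ∧ Module.supportDim (Localization.AtPrime p.asIdeal)
      (LocalizedModule p.asIdeal.primeCompl M) = ((c - δ p).toNat : WithBot ℕ∞) := by
  obtain ⟨q, hq, hqp, hqs⟩ := exists_minimal_le hp
  have h1 := delta_anti h hqp
  have h2 := hc q hq
  refine ⟨by omega, h.supportDim_eq p M _ ?_ ⟨q, hqs, hqp, by omega⟩⟩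
  intro r hr hrp
  obtain ⟨q', hq', hqp', hqs'⟩ := exists_minimal_le hr
  have h3 := delta_anti h hqp'
  have h4 := hc q' hq'
  omega

/-- The criterion for `(S_k)`, equidimensional form. -/
theorem hasSk_iff (h : IsDelta ω δ) {M : Type u} [AddCommGroup M] [Module A M]
    [Module.Finite A M] {c : ℤ}
    (hc : ∀ q : PrimeSpectrum A, q.asIdeal ∈ (Module.annihilator A M).minimalPrimes → δ q = c)
    (k : ℕ) :
    LocCoh.HasSk k A M ↔ ∀ i : ℤ, i ≠ -c → ∀ p ∈ Module.support A (E ω i M), δ p ≤ -i - k := by
  constructor
  · intro hS i hi p hp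
    have hpM : p ∈ Module.support A M := by
      obtain ⟨q, hq, hqp, _⟩ := h.exists_le_of_mem p M i hp
      exact Module.mem_support_mono hqp hq
    obtain ⟨q, hq, hqp, hqi⟩ := h.exists_le_of_mem p M i hp
    have h1 := (supportDim_eq h hc hq).1
    have h2 := supportDim_eq h hc hpM
    have h3 : i ≤ -δ p := by
      by_contra hlt
      exact h.notMem_of_gt p M i (by omega) hp
    by_contra hlt
    have h4 := hS p.asIdeal
    rw [h2.2] at h4
    have h5 : ((min k (c - δ p).toNat : ℕ) : ℕ∞) ≤ LocCoh.depth (Localization.AtPrime p.asIdeal)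
        (LocalizedModule p.asIdeal.primeCompl M) := by
      refine WithBot.coe_le_coe.mp (le_trans (le_of_eq ?_) h4)
      rcases le_total k (c - δ p).toNat with h' | h'
      · rw [min_eq_left h', min_eq_left]
        · rfl
        · exact_mod_cast h'
      · rw [min_eq_right h', min_eq_right]
        · rfl
        · exact_mod_cast h'
    rw [h.natCast_le_depth_iff] at h5
    refine h5 (-i - δ p).toNat ?_ ?_
    · rw [lt_min_iff]
      constructor <;> omega
    · have h6 : -δ p - ((-i - δ p).toNat : ℤ) = i := by omega
      rw [h6]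
      exact hp
  · intro hE p hp
    by_cases hps : (⟨p, hp⟩ : PrimeSpectrum A) ∈ Module.support A M
    · have h2 := supportDim_eq h hc hps
      rw [h2.2]
      have h5 : ((min k (c - δ ⟨p, hp⟩).toNat : ℕ) : ℕ∞) ≤
          LocCoh.depth (Localization.AtPrime p) (LocalizedModule p.primeCompl M) := by
        refine (h.natCast_le_depth_iff ⟨p, hp⟩ M _).mpr fun d hd hmem => ?_
        rw [lt_min_iff] at hd
        have h3 := hE (-δ ⟨p, hp⟩ - d) (by omega) _ hmem
        omega
      refine le_trans (le_of_eq ?_) (WithBot.coe_le_coe.mpr h5)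
      rcases le_total k (c - δ ⟨p, hp⟩).toNat with h' | h'
      · rw [min_eq_left h', min_eq_left]
        · rfl
        · exact_mod_cast h'
      · rw [min_eq_right h', min_eq_right]
        · rfl
        · exact_mod_cast h'
    · rw [Module.notMem_support_iff] at hps
      have : LocCoh.depth (Localization.AtPrime p) (LocalizedModule p.primeCompl M) = ⊤ := by
        unfold LocCoh.depth LocCoh.idealDepth
        exact if_pos (Submodule.eq_top_iff'.mpr fun x => by
          rw [Subsingleton.elim (h := hps) x 0]
          exact zero_mem _)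
      rw [this]
      exact le_top

end K967.DeltaSk
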