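import Groth.Agent.QGor.K967.OmegaUnit
import Groth.Agent.QGor.K967.OmegaBasic
import Groth.Agent.QGor.K968.Compare2
import Groth.Agent.QGor.K970.BCHyp
import Groth.Agent.S4366
import Groth.Agent.S1471
import Groth.Agent.S12226

/-!
# Depth of the relative canonical sheaf at a point of fibre codimension two
-/

set_option autoImplicit false
set_option linter.style.haveILetI false
universe u

open CategoryTheory CategoryTheory.Limits AlgebraicGeometry TopologicalSpace

namespace K967.DepthPt

open Groth.Agent K968.Compare2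

/-- The local ring of the fibre at a specialization inside the fibre. -/
theorem dim_le {X S : Scheme.{u}} (f : X ⟶ S) {x ξ : X} (h : ξ ⤳ x) (hf : f ξ = f x) :
    ringKrullDim ((f.fiber (f ξ)).presheaf.stalk (f.asFiber ξ)) ≤
      ringKrullDim ((f.fiber (f x)).presheaf.stalk (f.asFiber x)) := by
  let z : f.fiber (f x) := (f.fiberHomeo (f x)).symm ⟨ξ, hf⟩
  have hz : f.fiberι (f x) z = ξ := f.fiberι_fiberHomeo_symm (f x) _
  have h1 : z ⤳ f.asFiber x := by
    rw [← (f.fiberι (f x)).isEmbedding.isInducing.specializes_iff, hz, f.fiberι_asFiber]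
    exact h
  have h2 : ringKrullDim ((f.fiber (f x)).presheaf.stalk z) ≤
      ringKrullDim ((f.fiber (f x)).presheaf.stalk (f.asFiber x)) := by
    rw [ringKrullDim_stalk_eq_coheight, ringKrullDim_stalk_eq_coheight]
    have h3 : f.asFiber x ≤ z := h1
    exact_mod_cast Order.coheight_anti h3
  have key : ∀ (t : S) (ht : f ξ = t) (z : f.fiber t), f.fiberι t z = ξ →
      ringKrullDim ((f.fiber (f ξ)).presheaf.stalk (f.asFiber ξ)) =
        ringKrullDim ((f.fiber t).presheaf.stalk z) := by
    rintro _ rfl z hz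
    have h4 : z = f.asFiber ξ := (f.fiberι (f ξ)).isEmbedding.injective (by
      rw [hz, f.fiberι_asFiber])
    rw [h4]
  rw [key _ hf z hz]
  exact h2

section Closed

variable (A : Type u) [CommRing A] [IsNoetherianRing A] {Y : Scheme.{u}}
  [Y.Over (Spec (CommRingCat.of A))] [IsProper (Y ↘ Spec (CommRingCat.of A))] {d : ℕ}
  (hd : Cyc.HasRelDim (Y ↘ Spec (CommRingCat.of A)) d)
  {ω : Y.Modules} (hω : RelCanon.IsDualizingSheaf A Y d ω) (z : Y)
  (hz : (2 : WithBot ℕ∞) ≤ ringKrullDim
    (((Y ↘ Spec (CommRingCat.of A)).fiber ((Y ↘ Spec (CommRingCat.of A)) z)).presheaf.stalk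
      ((Y ↘ Spec (CommRingCat.of A)).asFiber z)))

include hd hω hz

/-- The case of a point of a closed fibre. -/
theorem two_le_depth_closed
    (hc : IsClosed ({(Y ↘ Spec (CommRingCat.of A)) z} : Set (Spec (CommRingCat.of A)))) :
    (2 : ℕ∞) ≤ LocCoh.depth (Y.presheaf.stalk z) (ω.presheaf.stalk z) := by
  let f := Y ↘ Spec (CommRingCat.of A)
  have : IsNoetherianRing (CommRingCat.of A) := inferInstanceAs (IsNoetherianRing A)
  have hlN : IsLocallyNoetherian Y := LocallyOfFiniteType.isLocallyNoetherian f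
  have hcX : CompactSpace Y := QuasiCompact.compactSpace_of_compactSpace f
  have hN : IsNoetherian Y := {}
  let U : Y.Opens := ⟨(closure {z})ᶜ, isClosed_closure.isOpen_compl⟩
  have hU : ∀ y : Y, y ∉ U → (2 : WithBot ℕ∞) ≤
      ringKrullDim ((f.fiber (f y)).presheaf.stalk (f.asFiber y)) := by
    intro y hy
    have hzy : z ⤳ y := by
      rw [specializes_iff_mem_closure]
      exact not_not.mp hy
    have h1 : f z = f y := by
      have h2 : f y ∈ closure ({f z} : Set (Spec (CommRingCat.of A))) :=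
        specializes_iff_mem_closure.mp (hzy.map f.continuous)
      rw [hc.closure_eq] at h2
      exact h2.symm
    exact hz.trans (dim_le f hzy h1)
  have hcoh := OmegaBasic.isCoh A Y d ω hω (fibreDimLE hd)
  have hiso := OmegaUnit.isIso_unit A Y d (fibreDimLE hd) ω hω U hU
  let e : ω ≅ (Coh.push U.ι).obj (ω.restrict U.ι) :=
    asIso ((Scheme.Modules.restrictAdjunction U.ι).unit.app ω)
  have h1 := (S12226.result Y U ω hcoh (OmegaBasic.isCoh_of_iso e hcoh)).1 z
    (fun h => h (subset_closure rfl))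
  have h2 : LocCoh.depth (Y.presheaf.stalk z) (ω.presheaf.stalk z) =
      LocCoh.depth (Y.presheaf.stalk z) (((Coh.push U.ι).obj (ω.restrict U.ι)).presheaf.stalk z) :=
    Localalg.Depth.idealDepth_congr_equiv _ (Fdesc.Skyscraper.stalkIso e z)
  rw [h2]
  exact h1

end Closed

/-- Depth of the stalks of an inverse image along a morphism with bijective stalk map. -/
theorem depth_pullback {X Z : Scheme.{u}} (i : Z ⟶ X) (F : X.Modules) (z : Z)
    [IsIso (i.stalkMap z)] :
    LocCoh.depth (X.presheaf.stalk (i z)) (F.presheaf.stalk (i z)) =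
      LocCoh.depth (Z.presheaf.stalk z)
        (((Scheme.Modules.pullback i).obj F).presheaf.stalk z) := by
  have hb : Function.Bijective (i.stalkMap z).hom := ConcreteCategory.bijective_of_isIso (i.stalkMap z)
  have hk : RingHom.ker (i.stalkMap z).hom = ⊥ := (RingHom.injective_iff_ker_eq_bot _).mp hb.1
  obtain ⟨σ, e, he⟩ := K970.RelSk1.exists_stalk_equiv_of_surjective i F z hb.2 ⊥ hk
  let E := Submodule.quotEquivOfEqBot ((⊥ : Ideal (X.presheaf.stalk (i z))) •
    (⊤ : Submodule (X.presheaf.stalk (i z)) (F.presheaf.stalk (i z)))) (Submodule.bot_smul _)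
  refine Ega4A.DepthBasic.depth_congr_of_surjective
    ((σ : _ →+* _).comp (Ideal.Quotient.mk ⊥)) (σ.surjective.comp Ideal.Quotient.mk_surjective)
    _ _ (E.symm.toAddEquiv.trans e) (fun r m => ?_)
  change e (E.symm (r • m)) = σ (Ideal.Quotient.mk _ r) • e (E.symm m)
  rw [← he, map_smul]
  rfl

section Main

variable (A : Type u) [CommRing A] [IsNoetherianRing A] {Y : Scheme.{u}}
  [Y.Over (Spec (CommRingCat.of A))] [IsProper (Y ↘ Spec (CommRingCat.of A))]
  [Flat (Y ↘ Spec (CommRingCat.of A))] {d : ℕ}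
  (hd : Cyc.HasRelDim (Y ↘ Spec (CommRingCat.of A)) d)
  {ω : Y.Modules} (hω : RelCanon.IsDualizingSheaf A Y d ω) (z : Y)
  (hz : (2 : WithBot ℕ∞) ≤ ringKrullDim
    (((Y ↘ Spec (CommRingCat.of A)).fiber ((Y ↘ Spec (CommRingCat.of A)) z)).presheaf.stalk
      ((Y ↘ Spec (CommRingCat.of A)).asFiber z)))

include hd hω hz

/-- **Depth of the relative canonical sheaf** at a point of fibre codimension at least two. -/
theorem two_le_depth_omega :
    (2 : ℕ∞) ≤ LocCoh.depth (Y.presheaf.stalk z) (ω.presheaf.stalk z) := by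
  have hNA : IsNoetherianRing (CommRingCat.of A) := inferInstanceAs (IsNoetherianRing A)
  let S : Scheme.{u} := Spec (CommRingCat.of A)
  let f : Y ⟶ S := Y ↘ Spec (CommRingCat.of A)
  let B : Type u := S.presheaf.stalk (f z)
  have hB : IsNoetherianRing B := inferInstanceAs (IsNoetherianRing (S.presheaf.stalk (f z)))
  let φ : CommRingCat.of A ⟶ CommRingCat.of B := Spec.preimage (S.fromSpecStalk (f z))
  have hφ : Spec.map φ = S.fromSpecStalk (f z) := Spec.map_preimage _
  let Y' : Scheme.{u} := pullback f (S.fromSpecStalk (f z))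
  let _ : Y'.Over (Spec (CommRingCat.of B)) := ⟨pullback.snd f (S.fromSpecStalk (f z))⟩
  let p : Y' ⟶ Y := pullback.fst f (S.fromSpecStalk (f z))
  have hp : IsPullback p (Y' ↘ Spec (CommRingCat.of B)) f (Spec.map φ) := by
    rw [hφ]
    exact IsPullback.of_hasPullback _ _
  have hpr : IsProper (Y' ↘ Spec (CommRingCat.of B)) := MorphismProperty.of_isPullback hp inferInstance
  have hflat : φ.hom.Flat := by
    rw [← Flat.SpecMap_iff, hφ]
    exact S1471.flat_fromSpecStalk _ _
  have hω' : RelCanon.IsDualizingSheaf B Y' d ((Scheme.Modules.pullback p).obj ω) :=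
    isDualizingSheaf_pullback A d hd B φ.hom p hp hflat hω
  obtain ⟨z', hz1, hz2⟩ := Scheme.Pullback.exists_preimage_pullback (f := f)
    (g := S.fromSpecStalk (f z)) z (IsLocalRing.closedPoint B) S.fromSpecStalk_closedPoint.symm
  have hz1' : p z' = z := hz1
  have hz2' : (Y' ↘ Spec (CommRingCat.of B)) z' = IsLocalRing.closedPoint B := hz2
  have hd' : Cyc.HasRelDim (Y' ↘ Spec (CommRingCat.of B)) d :=
    K970.BCHyp.hasRelDim_of_isPullback hp hd
  have hi : IsIso (p.stalkMap z') := S4366.result f (f z) z'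
  have h1 : (2 : WithBot ℕ∞) ≤ ringKrullDim
      (((Y' ↘ Spec (CommRingCat.of B)).fiber ((Y' ↘ Spec (CommRingCat.of B)) z')).presheaf.stalk
        ((Y' ↘ Spec (CommRingCat.of B)).asFiber z')) := by
    refine le_trans ?_ (K970.BCHyp.ringKrullDim_fibre_le_cat φ hp z')
    rw [hz1']
    exact hz
  have h2 := two_le_depth_closed B hd' hω' z' h1 (by
    rw [hz2']
    exact (PrimeSpectrum.isClosed_singleton_iff_isMaximal _).mpr
      (inferInstanceAs (IsLocalRing.maximalIdeal B).IsMaximal))
  rw [← depth_pullback p ω z', hz1'] at h2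
  exact h2

end Main

end K967.DepthPt
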