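import Groth.Agent.QGor.K967.FibKit
import Mathlib.LinearAlgebra.PiTensorProduct.Finite
import Mathlib.LinearAlgebra.TensorPower.Basic

/-!
# Serre's conditions `(S_1)`, `(S_2)` for duals
-/

set_option autoImplicit false
universe u v w

open IsLocalRing TensorProduct

namespace K967.DualSk

open K967.DepthKit K967.FibKit Groth.Agent

variable {R : Type u} [CommRing R] [IsNoetherianRing R]

/-- depth of `Hom(M, R)_p` is at least `min(2, depth R_p)`. -/
theorem le_depth_dual (M : Type u) [AddCommGroup M] [Module R M] [Module.Finite R M] (p : Ideal R)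
    [p.IsPrime] (k : ℕ) (hk : k ≤ 2)
    (h : (k : ℕ∞) ≤ LocCoh.depth (Localization.AtPrime p) (LocalizedModule p.primeCompl R)) :
    (k : ℕ∞) ≤ LocCoh.depth (Localization.AtPrime p)
      (LocalizedModule p.primeCompl (Module.Dual R M)) := by
  have hN : IsNoetherianRing (Localization.AtPrime p) :=
    IsLocalization.isNoetherianRing p.primeCompl _ inferInstance
  have h1 : (k : ℕ∞) ≤ LocCoh.depth (Localization.AtPrime p) (Localization.AtPrime p) := by
    rw [← Ega4C.SkFlat.depth_locSelf]; exact h
  have h2 := le_idealDepth_hom (M := LocalizedModule p.primeCompl M) k hk h1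
  have e : LocalizedModule p.primeCompl (Module.Dual R M) ≃ₗ[Localization.AtPrime p]
      Module.Dual (Localization.AtPrime p) (LocalizedModule p.primeCompl M) :=
    IsLocalizedModule.mapEquiv p.primeCompl
      (LocalizedModule.mkLinearMap p.primeCompl (Module.Dual R M))
      (Divis.ReflexAlg.dualMap p.primeCompl (Localization.AtPrime p)
        (LocalizedModule.mkLinearMap p.primeCompl M)) (Localization.AtPrime p)
      (LinearEquiv.refl R _)
  rw [LocCoh.depth, Groth.Agent.Localalg.Depth.idealDepth_congr_equiv _ e]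
  exact h2

/-- The dual of a finite module over a ring with `(S_k)`, `k ≤ 2`, has `(S_k)`. -/
theorem hasSk_dual (k : ℕ) (hk : k ≤ 2) (hR : LocCoh.HasSk k R R) (M : Type u) [AddCommGroup M]
    [Module R M] [Module.Finite R M] : LocCoh.HasSk k R (Module.Dual R M) := by
  intro p hp
  have h1 := hR p
  by_cases ht : min (k : WithBot ℕ∞) (Module.supportDim (Localization.AtPrime p)
      (LocalizedModule p.primeCompl (Module.Dual R M))) = ⊥
  · rw [ht]; exact bot_le
  obtain ⟨c, hc⟩ := WithBot.ne_bot_iff_exists.mp ht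
  have hck : c ≤ k := by
    have : (c : WithBot ℕ∞) ≤ k := by rw [hc]; exact min_le_left _ _
    exact WithBot.coe_le_coe.mp this
  obtain ⟨m, rfl⟩ := ENat.ne_top_iff_exists.mp (ne_top_of_le_ne_top (ENat.natCast_ne_top k) hck)
  have hmk : m ≤ k := by exact_mod_cast hck
  rw [← hc]
  refine WithBot.coe_le_coe.mpr (le_depth_dual M p m (hmk.trans hk) (WithBot.coe_le_coe.mp ?_))
  refine le_trans (le_of_eq hc) (le_trans (min_le_min le_rfl ?_) h1)
  refine (Module.supportDim_le_ringKrullDim _ _).trans ?_
  rw [Ega4C.SkFlat.supportDim_locSelf]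

/-- `depth_J R ≥ k` if `R` has `(S_k)` and `ht J ≥ k`. -/
theorem le_idealDepth_self (k : ℕ) (hR : LocCoh.HasSk k R R) (J : Ideal R)
    (hJ : (k : ℕ∞) ≤ J.height) : (k : ℕ∞) ≤ LocCoh.idealDepth J R := by
  refine le_idealDepth_of_hasSk k J R hR fun p hp _ => ?_
  rw [Ega4C.SkFlat.supportDim_locSelf,
    IsLocalization.AtPrime.ringKrullDim_eq_height p.asIdeal (Localization.AtPrime p.asIdeal)]
  exact WithBot.coe_le_coe.mpr (hJ.trans (Ideal.height_mono hp))

end K967.DualSk
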