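import Groth.Agent.QGor.K967.DeltaSk
import Groth.Agent.QGor.K967.DepthKit
import Groth.Agent.Dual.H342.S2Alg
import Groth.Agent.LoccohB.DualShift
import Groth.Agent.Ega4C.SkFlat

/-!
# Ordinary dualizing complexes over a local ring

If off a nowhere dense closed subset `V(J)` a dualizing complex is concentrated in degree zero then the dimension
function vanishes on the minimal primes, `A` is equidimensional and `ω[n]` is normalized.
-/

set_option autoImplicit false
universe u v
open CategoryTheory CategoryTheory.Limits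
attribute [local instance] HasDerivedCategory.standard

namespace K967.Ordinary

open Groth.Agent.LoccohA Groth.Agent.LoccohA.DExt Groth.Agent.LoccohA.DExtDim Groth.Agent.CalgB.DzData Groth.Agent
open K967.DeltaSk K967.DepthKit

variable {A : Type u} [CommRing A] [IsNoetherianRing A] {ω : Dual.D A} {δ : PrimeSpectrum A → ℤ}

/-- A minimal prime `p` lies in the support of `H^{-δ p}(ω)`. -/
theorem mem_support_of_minimal (h : IsDelta ω δ) (p : PrimeSpectrum A)
    (hp : p.asIdeal ∈ minimalPrimes A) : p ∈ Module.support A (Dual.HD A ω (-δ p)) := by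
  rw [support_HD]
  refine h.mem_of_mem_associatedPrimes p A ?_
  refine Module.associatedPrimes.minimalPrimes_annihilator_subset_associatedPrimes A A ?_
  rw [Module.annihilator_eq_bot.mpr inferInstance]
  exact hp

omit [IsNoetherianRing A] in
theorem exists_minimal_le' (p : PrimeSpectrum A) :
    ∃ q : PrimeSpectrum A, q.asIdeal ∈ minimalPrimes A ∧ q ≤ p := by
  obtain ⟨r, hr, hrq⟩ := Ideal.exists_minimalPrimes_le (I := (⊥ : Ideal A)) (J := p.asIdeal) bot_le
  exact ⟨⟨r, hr.1.1⟩, hr, hrq⟩

omit [IsNoetherianRing A] in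
theorem not_le_of_minimal {J : Ideal A} (hJ : 1 ≤ J.height) (p : PrimeSpectrum A)
    (hp : p.asIdeal ∈ minimalPrimes A) : ¬ J ≤ p.asIdeal := by
  intro hle
  have h1 := hJ.trans (Ideal.height_mono hle)
  have h2 : p.asIdeal.height = 0 := by
    exact Ideal.height_eq_zero_iff.mpr hp
  rw [h2] at h1
  exact absurd h1 (by simp)

/-- If `ω` is concentrated in degree zero off `V(J)`, `ht J ≥ 1`, then `δ = 0` on the minimal primes. -/
theorem delta_minimal_eq_zero (h : IsDelta ω δ) {J : Ideal A} (hJ : 1 ≤ J.height)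
    (hoff : ∀ p : PrimeSpectrum A, ¬ J ≤ p.asIdeal → ∀ i : ℤ, i ≠ 0 →
      p ∉ Module.support A (Dual.HD A ω i)) (p : PrimeSpectrum A)
    (hp : p.asIdeal ∈ minimalPrimes A) : δ p = 0 := by
  by_contra hne
  exact hoff p (not_le_of_minimal hJ p hp) (-δ p) (by omega) (mem_support_of_minimal h p hp)

theorem delta_nonpos (h : IsDelta ω δ)
    (h0 : ∀ p : PrimeSpectrum A, p.asIdeal ∈ minimalPrimes A → δ p = 0) (p : PrimeSpectrum A) :
    δ p ≤ 0 := by
  obtain ⟨q, hq, hqp⟩ := exists_minimal_le' p
  have h1 := delta_anti h hqp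
  have h2 := h0 q hq
  omega

theorem support_HD_zero (h : IsDelta ω δ)
    (h0 : ∀ p : PrimeSpectrum A, p.asIdeal ∈ minimalPrimes A → δ p = 0) :
    Module.support A (Dual.HD A ω 0) = Set.univ := by
  rw [Set.eq_univ_iff_forall]
  intro p
  obtain ⟨q, hq, hqp⟩ := exists_minimal_le' p
  have h1 := mem_support_of_minimal h q hq
  rw [h0 q hq, neg_zero] at h1
  exact support_mono hqp h1

theorem isZero_of_neg (h : IsDelta ω δ)
    (h0 : ∀ p : PrimeSpectrum A, p.asIdeal ∈ minimalPrimes A → δ p = 0) (i : ℤ) (hi : i < 0) :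
    IsZero ((DerivedCategory.homologyFunctor (ModuleCat.{u} A) i).obj ω) := by
  have h1 : Subsingleton (Dual.HD A ω i) := by
    rw [← Module.support_eq_empty_iff (R := A), Set.eq_empty_iff_forall_notMem]
    intro p hp
    rw [support_HD] at hp
    obtain ⟨q, -, -, hq⟩ := h.exists_le_of_mem p A _ hp
    have h2 := delta_nonpos h h0 q
    omega
  exact ModuleCat.isZero_of_subsingleton _

/-- `H⁰(ω)` satisfies `(S_2)`. -/
theorem hasSk_two (hω : Dual.IsDualizing A ω) (h : IsDelta ω δ)
    (h0 : ∀ p : PrimeSpectrum A, p.asIdeal ∈ minimalPrimes A → δ p = 0) :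
    LocCoh.HasSk 2 A (Dual.HD A ω 0) := by
  intro P hP
  exact Dual.H342.S2Alg.min_le_depth_lowest hω h 0 (isZero_of_neg h h0) ⟨P, hP⟩
    (fun q _ => by have := delta_nonpos h h0 q; omega)

/-- `dim H⁰(ω)_p = ht p`. -/
theorem supportDim_HD_zero (h : IsDelta ω δ)
    (h0 : ∀ p : PrimeSpectrum A, p.asIdeal ∈ minimalPrimes A → δ p = 0) (p : PrimeSpectrum A) :
    Module.supportDim (Localization.AtPrime p.asIdeal)
      (LocalizedModule p.asIdeal.primeCompl (Dual.HD A ω 0)) = p.asIdeal.height := by
  rw [← IsLocalization.AtPrime.ringKrullDim_eq_height p.asIdeal (Localization.AtPrime p.asIdeal),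
    ← Ega4C.SkFlat.supportDim_locSelf p.asIdeal, Ega4B.DimFinite.supportDim_atPrime_eq,
    Ega4B.DimFinite.supportDim_atPrime_eq, support_HD_zero h h0]
  have : Module.support A A = Set.univ := by
    rw [Set.eq_univ_iff_forall]
    intro q
    rw [Module.mem_support_iff_of_finite, Module.annihilator_eq_bot.mpr inferInstance]
    exact bot_le
  rw [this]

theorem two_le_idealDepth (hω : Dual.IsDualizing A ω) (h : IsDelta ω δ)
    (h0 : ∀ p : PrimeSpectrum A, p.asIdeal ∈ minimalPrimes A → δ p = 0) {J : Ideal A}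
    (hJ : 2 ≤ J.height) : 2 ≤ LocCoh.idealDepth J (Dual.HD A ω 0) := by
  have : Module.Finite A (Dual.HD A ω 0) := hω.finite_cohomology 0
  have h1 := le_idealDepth_of_hasSk 2 J (Dual.HD A ω 0) (hasSk_two hω h h0) (fun p hp _ => by
    rw [supportDim_HD_zero h h0 p]
    have h2 : (2 : ℕ∞) ≤ p.asIdeal.height := hJ.trans (Ideal.height_mono hp)
    exact WithBot.coe_le_coe.mpr h2)
  exact_mod_cast h1

section Local

variable [IsLocalRing A]

theorem dim_quotient (h : IsDelta ω δ) (p : PrimeSpectrum A) (n : ℕ) :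
    ringKrullDim (A ⧸ p.asIdeal) = n ↔ δ p = δ (IsLocalRing.closedPoint A) + n :=
  DimFun.dim_quotient h.cov p n

/-- The dimension of `A` is `-δ(m)` if `δ = 0` on the minimal primes. -/
theorem dim_eq (h : IsDelta ω δ)
    (h0 : ∀ p : PrimeSpectrum A, p.asIdeal ∈ minimalPrimes A → δ p = 0) (n : ℕ)
    (hd : ringKrullDim A = n) :
    δ (IsLocalRing.closedPoint A) = -(n : ℤ) ∧ EGA4.IsEquidim A := by
  have hneg := delta_nonpos h h0 (IsLocalRing.closedPoint A)
  have key : ∀ p : PrimeSpectrum A, p.asIdeal ∈ minimalPrimes A →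
      ringKrullDim (A ⧸ p.asIdeal) = ((-δ (IsLocalRing.closedPoint A)).toNat : ℕ) := fun p hp => by
    rw [dim_quotient h]
    have := h0 p hp
    omega
  have hle : ringKrullDim A ≤ ((-δ (IsLocalRing.closedPoint A)).toNat : ℕ) := by
    rw [ringKrullDim, Order.krullDim]
    refine iSup_le fun s => ?_
    have h1 := DimFun.length_le h.cov s
    have h2 := delta_nonpos h h0 s.head
    have h3 := delta_anti h (show s.last ≤ IsLocalRing.closedPoint A from
      IsLocalRing.le_maximalIdeal s.last.isPrime.ne_top)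
    have h4 : s.length ≤ (-δ (IsLocalRing.closedPoint A)).toNat := by omega
    exact_mod_cast h4
  have hge : (((-δ (IsLocalRing.closedPoint A)).toNat : ℕ) : WithBot ℕ∞) ≤ ringKrullDim A := by
    obtain ⟨q, hq, -⟩ := exists_minimal_le' (IsLocalRing.closedPoint A)
    rw [← key q hq]
    exact ringKrullDim_quotient_le _
  have heq := le_antisymm hle hge
  constructor
  · rw [hd] at heq
    have : n = (-δ (IsLocalRing.closedPoint A)).toNat := by exact_mod_cast heq
    omega
  · intro p hp
    rw [heq]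
    exact key ⟨p, hp.1.1⟩ hp

/-- `ω[n]` is normalized if `δ(m) = -n`. -/
theorem isNormalized (h : IsDelta ω δ) (n : ℤ)
    (hn : δ (IsLocalRing.closedPoint A) = -n) : Dual.IsNormalized A (ω⟦n⟧) := by
  refine LoccohB.DualShift.isNormalized_shift ω n fun i hi => ?_
  have hk : Subsingleton (E ω i (A ⧸ (IsLocalRing.closedPoint A).asIdeal)) := by
    rw [← Module.support_eq_empty_iff (R := A), Set.eq_empty_iff_forall_notMem]
    intro p hp
    have hpm : p = IsLocalRing.closedPoint A := by
      refine le_antisymm (IsLocalRing.le_maximalIdeal p.isPrime.ne_top) ?_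
      obtain ⟨q, hq, hqp, -⟩ := h.exists_le_of_mem p _ _ hp
      refine le_trans ?_ hqp
      rw [Module.mem_support_iff_of_finite, Ideal.annihilator_quotient] at hq
      exact hq
    rw [hpm, h.mem] at hp
    omega
  exact hk

end Local

end K967.Ordinary
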