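import Groth.Agent.LoccohA.DzTrunc2
import Groth.Agent.LoccohA.DzDim
import Groth.Prelude.Def_Wider
import Groth.Agent.QGor.K967.DeltaSk
import Groth.Agent.QGor.K967.Ordinary

/-!
# Endomorphisms of the lowest truncation

For a distinguished triangle `Y → X → Z → Y[1]` with `Hom(Z, X) = Hom(Z, X[1]) = 0` and
`Hom(Y[1], Z) = 0`, a bijection `A → End(X)` gives a bijection `A → End(Y)`; with
`Hom(Z, X[2]) = Hom(X, X[1]) = 0`, `Hom(Y, Z) = 0` one gets `Hom(Y, Y[1]) = 0`.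
-/

set_option autoImplicit false
universe t w v u

open CategoryTheory Limits Pretriangulated Category

namespace K967.EndTri

open Groth.Agent.LoccohA Groth.Agent.LoccohA.DzExact

section Gen

variable {A : Type t} [CommRing A] {C : Type u} [Category.{v} C] [Preadditive C] [Linear A C]
  [HasShift C ℤ] [∀ n : ℤ, (shiftFunctor C n).Additive] [∀ n : ℤ, (shiftFunctor C n).Linear A]
  [HasZeroObject C] [Pretriangulated C]

theorem toEnd_bijective (T : Triangle C) (hT : T ∈ distTriang C)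
    (h0 : Subsingleton (T.obj₃ ⟶ T.obj₂)) (h1 : Subsingleton (T.obj₃ ⟶ T.obj₂⟦(1 : ℤ)⟧))
    (hYZ : Subsingleton (T.obj₁⟦(1 : ℤ)⟧ ⟶ T.obj₃))
    (hA : Function.Bijective (fun a : A => a • 𝟙 T.obj₂)) :
    Function.Bijective (fun a : A => a • 𝟙 T.obj₁) := by
  constructor
  · intro a b hab
    have hab : a • 𝟙 T.obj₁ = b • 𝟙 T.obj₁ := hab
    have h2 : T.mor₁ ≫ (a • 𝟙 T.obj₂ - b • 𝟙 T.obj₂) = 0 := by
      have h3 : (a • 𝟙 T.obj₁) ≫ T.mor₁ = (b • 𝟙 T.obj₁) ≫ T.mor₁ := by rw [hab]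
      rw [Linear.smul_comp, Linear.smul_comp, Category.id_comp] at h3
      rw [Preadditive.comp_sub, Linear.comp_smul, Linear.comp_smul, Category.comp_id, h3, sub_self]
    obtain ⟨g, hg⟩ := Triangle.yoneda_exact₂ T hT _ h2
    rw [h0.elim g 0, comp_zero, sub_eq_zero] at hg
    exact hA.1 hg
  · intro f
    let f' : T.obj₁ ⟶ T.obj₂⟦(0 : ℤ)⟧ := (f ≫ T.mor₁) ≫ (shiftFunctorZero C ℤ).inv.app T.obj₂
    obtain ⟨g', hg'⟩ := (exact₁ A T hT T.obj₂ 0 1 (zero_add 1) f').mp (h1.elim _ _)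
    obtain ⟨a, ha⟩ := hA.2 (g' ≫ (shiftFunctorZero C ℤ).hom.app T.obj₂)
    have hg'' : T.mor₁ ≫ g' = (f ≫ T.mor₁) ≫ (shiftFunctorZero C ℤ).inv.app T.obj₂ := hg'
    have ha' : a • 𝟙 T.obj₂ = g' ≫ (shiftFunctorZero C ℤ).hom.app T.obj₂ := ha
    have h2 : a • T.mor₁ = f ≫ T.mor₁ := by
      have h3 : T.mor₁ ≫ (a • 𝟙 T.obj₂) =
          T.mor₁ ≫ g' ≫ (shiftFunctorZero C ℤ).hom.app T.obj₂ := by rw [ha']
      rw [Linear.comp_smul, Category.comp_id, ← Category.assoc, hg'', Category.assoc,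
        Iso.inv_hom_id_app] at h3
      simpa using h3
    have h4 : (a • 𝟙 T.obj₁ - f) ≫ T.mor₁ = 0 := by
      rw [Preadditive.sub_comp, Linear.smul_comp, Category.id_comp, h2, sub_self]
    have h5 : ((a • 𝟙 T.obj₁ - f)⟦(1 : ℤ)⟧') ≫ T.mor₁⟦(1 : ℤ)⟧' = 0 := by
      rw [← Functor.map_comp, h4, Functor.map_zero]
    obtain ⟨g, hg⟩ := Triangle.coyoneda_exact₁ T hT _ h5
    rw [hYZ.elim g 0, zero_comp] at hg
    have h6 : a • 𝟙 T.obj₁ - f = 0 := by
      apply (shiftFunctor C (1 : ℤ)).map_injective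
      rw [hg, Functor.map_zero]
    refine ⟨a, ?_⟩
    exact sub_eq_zero.mp h6

theorem ext_one (A : Type t) [CommRing A] [Linear A C] [∀ n : ℤ, (shiftFunctor C n).Linear A]
    (T : Triangle C) (hT : T ∈ distTriang C)
    (h1 : Subsingleton (T.obj₂ ⟶ T.obj₂⟦(1 : ℤ)⟧)) (h2 : Subsingleton (T.obj₃ ⟶ T.obj₂⟦(2 : ℤ)⟧))
    (hYZ : Subsingleton (T.obj₁ ⟶ T.obj₃)) :
    Subsingleton (T.obj₁ ⟶ T.obj₁⟦(1 : ℤ)⟧) := by
  have h3 : Subsingleton (T.obj₁ ⟶ T.obj₂⟦(1 : ℤ)⟧) :=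
    (closed_subsingleton (A := A)).hom_of_triangle₁ T hT T.obj₂ 1 2 rfl h1 h2
  refine ⟨fun f g => ?_⟩
  have h4 : ∀ f : T.obj₁ ⟶ T.obj₁⟦(1 : ℤ)⟧, f = 0 := by
    intro f
    obtain ⟨g, hg⟩ := Triangle.coyoneda_exact₁ T hT f (h3.elim _ _)
    rw [hg, hYZ.elim g 0, zero_comp]
  rw [h4 f, h4 g]

end Gen

section App

attribute [local instance] HasDerivedCategory.standard

open Groth.Agent.LoccohA.DExt Groth.Agent.CalgB.DzData DerivedCategory DzTrunc DzTrunc2 K967.DeltaSk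

variable {A : Type u} [CommRing A] [IsNoetherianRing A] {ω : Dual.D A} {δ : PrimeSpectrum A → ℤ}

/-- If `δ` is constant `= c` on the minimal primes, then `H^i(ω) = 0` for `i < -c`. -/
theorem isGE (h : IsDelta ω δ) {c : ℤ}
    (hc : ∀ q : PrimeSpectrum A, q.asIdeal ∈ minimalPrimes A → δ q = c) : ω.IsGE (-c) := by
  rw [isGE_iff]
  intro i hi
  have h1 : Subsingleton (Dual.HD A ω i) := by
    rw [← Module.support_eq_empty_iff (R := A), Set.eq_empty_iff_forall_notMem]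
    intro p hp
    rw [support_HD] at hp
    obtain ⟨q, -, -, hq⟩ := h.exists_le_of_mem p A _ hp
    obtain ⟨r, hr, hrq⟩ := K967.Ordinary.exists_minimal_le' q
    have h2 := delta_anti h hrq
    have h3 := hc r hr
    omega
  exact ModuleCat.isZero_of_subsingleton _

/-- `Hom(H^i(ω), ω[k + i]) = 0` for `i ≠ -c`, `k < m` if `A` is `S_m` and `δ = c` on the minimal primes. -/
theorem hom_homology_eq_zero (hω : Dual.IsDualizing A ω) (h : IsDelta ω δ) {c : ℤ}
    (hc : ∀ q : PrimeSpectrum A, q.asIdeal ∈ minimalPrimes A → δ q = c) (m : ℕ)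
    (hS : LocCoh.HasSk m A A) (i : ℤ) (hi : i ≠ -c) (k : ℤ) (hk : k < m) :
    Subsingleton ((singleFunctor (ModuleCat.{u} A) 0).obj
      ((homologyFunctor (ModuleCat.{u} A) i).obj ω) ⟶ ω⟦k + i⟧) := by
  have hc' : ∀ q : PrimeSpectrum A, q.asIdeal ∈ (Module.annihilator A A).minimalPrimes →
      δ q = c := by
    intro q hq
    rw [Module.annihilator_eq_bot.mpr inferInstance] at hq
    exact hc q hq
  have hS' := (hasSk_iff h hc' m).mp hS i hi
  have : Module.Finite A (Dual.HD A ω i) := hω.finite_cohomology i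
  change Subsingleton (E ω (k + i) (Dual.HD A ω i))
  rw [← Module.support_eq_empty_iff (R := A), Set.eq_empty_iff_forall_notMem]
  intro p hp
  obtain ⟨q, hq, -, hqi⟩ := h.exists_le_of_mem p _ _ hp
  rw [support_HD] at hq
  have := hS' q hq
  omega

/-- `Hom(τ_{≥ -c+1} ω, ω[k]) = 0` for `k < m` if `A` is `S_m`. -/
theorem hom_truncGE_eq_zero (hω : Dual.IsDualizing A ω) (h : IsDelta ω δ) {c : ℤ}
    (hc : ∀ q : PrimeSpectrum A, q.asIdeal ∈ minimalPrimes A → δ q = c) (m : ℕ)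
    (hS : LocCoh.HasSk m A A) (d : ℤ) (hd : ω.IsLE d) (k : ℤ) (hk : k < m) :
    Subsingleton ((TStructure.t.truncGE (-c + 1)).obj ω ⟶ ω⟦k⟧) := by
  have h1 : IsGE ((TStructure.t.truncGE (-c + 1)).obj ω) (-c + 1) := by
    change TStructure.t.IsGE _ _
    infer_instance
  have h2 : IsLE ((TStructure.t.truncGE (-c + 1)).obj ω) d := by
    change TStructure.t.IsLE _ _
    infer_instance
  have hP := closed_subsingleton (A := A)
  refine hom_of_truncation' hP ω k (-c + 1) d _ fun i => ?_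
  by_cases hi : -c + 1 ≤ i
  · have := isIso_homology_truncGE ω (-c + 1) i hi
    exact hP.of_equiv (Linear.homCongr A ((singleFunctor (ModuleCat.{u} A) 0).mapIso
      (asIso ((homologyFunctor (ModuleCat.{u} A) i).map ((TStructure.t.truncGEπ (-c + 1)).app ω))))
      (Iso.refl _)) (hom_homology_eq_zero hω h hc m hS i (by omega) k hk)
  · exact P_of_isZero hP ω i _ _ (isZero_of_isGE _ (-c + 1) i (by lia))

theorem exists_isLE (hω : Dual.IsDualizing A ω) (h : IsDelta ω δ) {c : ℤ}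
    (hc : ∀ q : PrimeSpectrum A, q.asIdeal ∈ minimalPrimes A → δ q = c) : ∃ d : ℤ, ω.IsLE d := by
  obtain ⟨a, b, hab⟩ := hω.finite_injective_dimension
  refine ⟨b, ?_⟩
  rw [isLE_iff]
  intro i hi
  have h1 : Subsingleton (Dual.HD A ω i) :=
    (DzHomology.homA ω i).toEquiv.subsingleton_congr.mpr (hab A i (Or.inr hi))
  exact ModuleCat.isZero_of_subsingleton _

end App

end K967.EndTri
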