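import Groth.Agent.QGor.K967.EndTri
import Groth.Agent.S1721
import Groth.Agent.LoccohA.EquidimS2

/-!
# The lowest cohomology module `K` of a dualizing complex: `A → End(K)` is bijective if `A` is `S₂` and
`Ext¹(K, K) = 0` if `A` is `S₃`
-/

set_option autoImplicit false
universe t w v u

open CategoryTheory Limits Pretriangulated Category

namespace K967.EndTri

attribute [local instance] HasDerivedCategory.standard

open Groth.Agent.LoccohA Groth.Agent.LoccohA.DzExact
open Groth.Agent.LoccohA.DExt Groth.Agent.CalgB.DzData DerivedCategory DzTrunc DzTrunc2 K967.DeltaSk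

variable {A : Type u} [CommRing A] [IsNoetherianRing A] {ω : Dual.D A} {δ : PrimeSpectrum A → ℤ}

/-- The lowest truncation is the shifted dualizing module. -/
theorem nonempty_iso (h : IsDelta ω δ) {c : ℤ}
    (hc : ∀ q : PrimeSpectrum A, q.asIdeal ∈ minimalPrimes A → δ q = c) :
    Nonempty ((TStructure.t.truncLE (-c)).obj ω ≅ (singleFunctor (ModuleCat.{u} A) (-c)).obj
      (ModuleCat.of A (Dual.HD A ω (-c)))) := by
  have h0 : ω.IsGE (-c) := isGE h hc
  have h1 : IsGE ((TStructure.t.truncLE (-c)).obj ω) (-c) := by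
    change TStructure.t.IsGE _ _
    infer_instance
  have h2 : IsLE ((TStructure.t.truncLE (-c)).obj ω) (-c) := by
    change TStructure.t.IsLE _ _
    infer_instance
  obtain ⟨e⟩ := nonempty_iso_single ((TStructure.t.truncLE (-c)).obj ω) (-c)
  have := isIso_homology_truncLE ω (-c) (-c) le_rfl
  exact ⟨e ≪≫ (singleFunctor (ModuleCat.{u} A) (-c)).mapIso
    (asIso ((homologyFunctor (ModuleCat.{u} A) (-c)).map ((TStructure.t.truncLEι (-c)).app ω)))⟩

/-- Transport of `A → End` along an isomorphism. -/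
theorem bij_of_iso {C : Type*} [Category C] [Preadditive C] {A : Type*} [CommRing A] [Linear A C]
    {X Y : C} (e : X ≅ Y) (h : Function.Bijective (fun a : A => a • 𝟙 X)) :
    Function.Bijective (fun a : A => a • 𝟙 Y) := by
  have h1 : (fun a : A => a • 𝟙 Y) = (Linear.homCongr A e e) ∘ (fun a : A => a • 𝟙 X) := by
    funext a
    simp [Linear.homCongr]
  rw [h1]
  exact (Linear.homCongr A e e).bijective.comp h

theorem bij_of_fullyFaithful {C D : Type*} [Category C] [Preadditive C] [Category D]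
    [Preadditive D] {A : Type*} [CommRing A] [Linear A C] [Linear A D] (F : C ⥤ D) [F.Additive]
    [F.Linear A] [F.Full] [F.Faithful]
    {X : C} (h : Function.Bijective (fun a : A => a • 𝟙 (F.obj X))) :
    Function.Bijective (fun a : A => a • 𝟙 X) := by
  have h1 : (fun a : A => a • 𝟙 (F.obj X)) = F.map ∘ (fun a : A => a • 𝟙 X) := by
    funext a
    simp [Functor.map_smul]
  rw [h1] at h
  constructor
  · exact Function.Injective.of_comp h.1
  · intro g
    obtain ⟨a, ha⟩ := h.2 (F.map g)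
    exact ⟨a, F.map_injective ha⟩

theorem bij_module {M : Type u} [AddCommGroup M] [Module A M]
    (h : Function.Bijective (fun a : A => a • 𝟙 (ModuleCat.of A M))) :
    Function.Bijective (fun a : A => a • (LinearMap.id : M →ₗ[A] M)) := by
  constructor
  · intro a b hab
    apply h.1
    apply ModuleCat.hom_ext
    exact hab
  · intro g
    obtain ⟨a, ha⟩ := h.2 (ModuleCat.ofHom g)
    refine ⟨a, ?_⟩
    have := congrArg ModuleCat.Hom.hom ha
    exact this

variable (hω : Dual.IsDualizing A ω) (h : IsDelta ω δ) {c : ℤ}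
    (hc : ∀ q : PrimeSpectrum A, q.asIdeal ∈ minimalPrimes A → δ q = c)

include hω h hc

theorem toEnd_bijective_of_hasSk (hS : LocCoh.HasSk 2 A A) :
    Function.Bijective (fun r : A =>
      r • (LinearMap.id : Dual.HD A ω (-c) →ₗ[A] Dual.HD A ω (-c))) := by
  obtain ⟨d, hd⟩ := exists_isLE hω h hc
  have hT := TStructure.t.triangleLEGE_distinguished (-c) (-c + 1) (by lia) ω
  set T := (TStructure.t.triangleLEGE (-c) (-c + 1) (by lia)).obj ω with hTdef
  have hLE : TStructure.t.IsLE T.obj₁ (-c) := by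
    change TStructure.t.IsLE ((TStructure.t.truncLE (-c)).obj ω) (-c)
    infer_instance
  have hGE : TStructure.t.IsGE T.obj₃ (-c + 1) := by
    change TStructure.t.IsGE ((TStructure.t.truncGE (-c + 1)).obj ω) (-c + 1)
    infer_instance
  have hLE' : TStructure.t.IsLE (T.obj₁⟦(1 : ℤ)⟧) (-c - 1) :=
    TStructure.t.isLE_shift T.obj₁ (-c) 1 (-c - 1) (by lia)
  have h1 : Subsingleton (T.obj₃ ⟶ T.obj₂) := by
    have := hom_truncGE_eq_zero hω h hc 2 hS d hd 0 (by norm_num)
    exact (Iso.homCongr (Iso.refl T.obj₃) ((shiftFunctorZero (Dual.D A) ℤ).app T.obj₂)).symm.subsingleton_congr.mpr this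
  have h2 : Subsingleton (T.obj₃ ⟶ T.obj₂⟦(1 : ℤ)⟧) :=
    hom_truncGE_eq_zero hω h hc 2 hS d hd 1 (by norm_num)
  have h3 : Subsingleton (T.obj₁⟦(1 : ℤ)⟧ ⟶ T.obj₃) :=
    ⟨fun f g => by
      rw [TStructure.t.zero f (-c - 1) (-c + 1) (by lia),
        TStructure.t.zero g (-c - 1) (-c + 1) (by lia)]⟩
  have h4 := toEnd_bijective T hT h1 h2 h3 hω.toEnd_bijective
  obtain ⟨e⟩ := nonempty_iso h hc
  exact bij_module (bij_of_fullyFaithful (singleFunctor (ModuleCat.{u} A) (-c)) (bij_of_iso e h4))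

theorem ext_one_eq_zero_of_hasSk (hS : LocCoh.HasSk 3 A A) :
    Subsingleton (Dual.inD A (Dual.HD A ω (-c)) ⟶
      (Dual.inD A (Dual.HD A ω (-c)))⟦(1 : ℤ)⟧) := by
  obtain ⟨d, hd⟩ := exists_isLE hω h hc
  have hT := TStructure.t.triangleLEGE_distinguished (-c) (-c + 1) (by lia) ω
  set T := (TStructure.t.triangleLEGE (-c) (-c + 1) (by lia)).obj ω with hTdef
  have hLE : TStructure.t.IsLE T.obj₁ (-c) := by
    change TStructure.t.IsLE ((TStructure.t.truncLE (-c)).obj ω) (-c)
    infer_instance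
  have hGE : TStructure.t.IsGE T.obj₃ (-c + 1) := by
    change TStructure.t.IsGE ((TStructure.t.truncGE (-c + 1)).obj ω) (-c + 1)
    infer_instance
  have h1 : Subsingleton (T.obj₂ ⟶ T.obj₂⟦(1 : ℤ)⟧) :=
    hω.ext_self_subsingleton 1 one_ne_zero
  have h2 : Subsingleton (T.obj₃ ⟶ T.obj₂⟦(2 : ℤ)⟧) :=
    hom_truncGE_eq_zero hω h hc 3 hS d hd 2 (by norm_num)
  have h3 : Subsingleton (T.obj₁ ⟶ T.obj₃) :=
    ⟨fun f g => by
      rw [TStructure.t.zero f (-c) (-c + 1) (by lia),
        TStructure.t.zero g (-c) (-c + 1) (by lia)]⟩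
  have h4 := ext_one A T hT h1 h2 h3
  obtain ⟨e⟩ := nonempty_iso h hc
  set M := ModuleCat.of A (Dual.HD A ω (-c)) with hM
  have h5 : Subsingleton ((singleFunctor (ModuleCat.{u} A) (-c)).obj M ⟶
      ((singleFunctor (ModuleCat.{u} A) (-c)).obj M)⟦(1 : ℤ)⟧) :=
    (Iso.homCongr e ((shiftFunctor (Dual.D A) (1 : ℤ)).mapIso e)).symm.subsingleton_congr.mpr h4
  have h6 := (singleShiftEquiv A M ((singleFunctor (ModuleCat.{u} A) (-c)).obj M) 1 (-c)
    (-c + 1) (by lia)).toEquiv.symm.subsingleton_congr.mpr h5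
  have e7 : ((singleFunctor (ModuleCat.{u} A) (-c)).obj M)⟦(-c + 1 : ℤ)⟧ ≅
      ((singleFunctor (ModuleCat.{u} A) 0).obj M)⟦(1 : ℤ)⟧ :=
    (shiftFunctorAdd' (Dual.D A) (-c) 1 (-c + 1) rfl).app _ ≪≫
      (shiftFunctor (Dual.D A) (1 : ℤ)).mapIso
        (((singleFunctors (ModuleCat.{u} A)).shiftIso (-c) 0 (-c) (add_zero _)).app M)
  exact (Iso.homCongr (Iso.refl _) e7).symm.subsingleton_congr.mpr h6

end K967.EndTri
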