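import Groth.Prelude.Def_EGA4b
import Mathlib.RingTheory.LocalRing.ResidueField.Fiber
import Mathlib.RingTheory.RingHom.Flat
import Groth.Agent.Ega4fib.H143.FieldPred
import Groth.Agent.S2938
import Groth.Agent.Ega43.FibSpec

/-!
# Fibres under base change: `B_q/pB_q → B'_{q'}/p'B'_{q'}` is flat for `B' = A' ⊗_A B`
-/

set_option autoImplicit false
universe u

open TensorProduct

namespace K967.FibBC

section Equiv

open Ideal Algebra Algebra.TensorProduct

variable {R S : Type u} [CommRing R] [CommRing S] [Algebra R S] (p : Ideal R) [p.IsPrime]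

attribute [local instance] Algebra.TensorProduct.rightAlgebra

/-- The localization of the fiber `p.Fiber S` is isomorphic to a quotient of a localization, as
`S`-algebras. -/
noncomputable def fiberLocEquiv (q : Ideal (p.Fiber S)) [q.IsPrime] :
    letI r := q.comap (includeRight : S →ₐ[R] p.Fiber S)
    letI Sr := Localization.AtPrime r
    letI pS := p.map (algebraMap R S)
    letI : Algebra S (p.Fiber S) := rightAlgebra
    Localization.AtPrime q ≃ₐ[S] Sr ⧸ pS.map (algebraMap S Sr) :=
  letI : Algebra S (p.Fiber S) := rightAlgebra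
  letI Sp := Localization (algebraMapSubmonoid S p.primeCompl)
  letI pS := p.map (algebraMap R S)
  letI SpS := S ⧸ pS
  letI r := q.comap (includeRight : S →ₐ[R] p.Fiber S)
  letI Sr := Localization.AtPrime r
  letI e₁ : p.Fiber S ≃ₐ[S] Sp ⧸ pS.map (algebraMap S Sp) := Fiber.algEquivAux₁ p
  letI q' : Ideal (Sp ⧸ pS.map (algebraMap S Sp)) := q.comap e₁.symm
  haveI : (q'.under SpS).LiesOver r := under_liesOver_of_liesOver SpS q' (q.under S)
  haveI : algebraMapSubmonoid SpS r.primeCompl = (q'.under SpS).primeCompl :=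
    algebraMapSubmonoid_primeCompl_of_liesOver_surjective (q'.under SpS) r Quotient.mk_surjective
  haveI : IsLocalization (algebraMapSubmonoid SpS r.primeCompl) (Localization.AtPrime q') := by
    convert IsLocalization.isLocalization_isLocalization_atPrime_isLocalization
      (algebraMapSubmonoid SpS (algebraMapSubmonoid S p.primeCompl)) (Localization.AtPrime q') q'
  haveI := IsScalarTower.to₁₃₄ S SpS (Sp ⧸ pS.map (algebraMap S Sp)) (Localization.AtPrime q')
  ((Localization.localAlgEquiv q' q e₁.symm rfl).symm.restrictScalars S).trans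
    ((IsLocalization.algEquiv (algebraMapSubmonoid SpS r.primeCompl) (Localization.AtPrime q')
      (Sr ⧸ pS.map (algebraMap S Sr))).restrictScalars S)

end Equiv

theorem exists_equiv {A B : Type u} [CommRing A] [CommRing B] [Algebra A B] (p : Ideal A)
    [p.IsPrime] (Q : Ideal (p.Fiber B)) [Q.IsPrime] (q : Ideal B) [q.IsPrime]
    (hq : Q.comap (Algebra.TensorProduct.includeRight : B →ₐ[A] p.Fiber B) = q) :
    ∃ e : Localization.AtPrime Q ≃+* EGA4.FibLocRing A B q,
      ∀ b : B, e (algebraMap (p.Fiber B) _ ((Algebra.TensorProduct.includeRight :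
        B →ₐ[A] p.Fiber B) b)) = algebraMap B (EGA4.FibLocRing A B q) b := by
  subst hq
  have h1 : (Q.comap (Algebra.TensorProduct.includeRight : B →ₐ[A] p.Fiber B)).comap
      (algebraMap A B) = p :=
    congrArg PrimeSpectrum.asIdeal
      ((PrimeSpectrum.preimageEquivFiber A B ⟨p, inferInstance⟩).symm ⟨Q, inferInstance⟩).2
  let : Algebra B (p.Fiber B) := Algebra.TensorProduct.rightAlgebra
  have h2 : (p.map (algebraMap A B)).map (algebraMap B (Localization.AtPrime
      (Q.comap (Algebra.TensorProduct.includeRight : B →ₐ[A] p.Fiber B)))) =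
      ((Q.comap (Algebra.TensorProduct.includeRight : B →ₐ[A] p.Fiber B)).comap
      (algebraMap A B)).map (algebraMap A (Localization.AtPrime
      (Q.comap (Algebra.TensorProduct.includeRight : B →ₐ[A] p.Fiber B)))) := by
    rw [Ideal.map_map, ← IsScalarTower.algebraMap_eq, h1]
  refine ⟨(fiberLocEquiv p Q).toRingEquiv.trans (Ideal.quotEquivOfEq h2), fun b => ?_⟩
  have h3 := (fiberLocEquiv p Q).commutes b
  have h4 : (fiberLocEquiv p Q).toRingEquiv (algebraMap (p.Fiber B) _
      ((Algebra.TensorProduct.includeRight : B →ₐ[A] p.Fiber B) b)) = algebraMap B _ b := h3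
  rw [RingEquiv.trans_apply, h4]
  rfl

theorem exists_hom {k K T T' : Type u} [Field k] [Field K] [Algebra k K] [CommRing T] [Algebra k T]
    [CommRing T'] (e : T' ≃+* K ⊗[k] T) :
    ∃ ψ : T →+* T', ψ.Flat ∧ ∀ t : T, ψ t = e.symm (1 ⊗ₜ t) := by
  have h1 : (algebraMap T (T ⊗[k] K)).Flat :=
    RingHom.flat_algebraMap_iff.mpr inferInstance
  let c := Algebra.TensorProduct.comm k T K
  exact ⟨(e.symm : K ⊗[k] T →+* T').comp ((c : T ⊗[k] K →+* K ⊗[k] T).comp
    (algebraMap T (T ⊗[k] K))),
    RingHom.Flat.comp (RingHom.Flat.comp h1 (RingHom.Flat.of_bijective c.bijective))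
      (RingHom.Flat.of_bijective e.symm.bijective), fun t => rfl⟩

theorem exists_loc {T T' : Type u} [CommRing T] [CommRing T'] (ψ : T →+* T') (hψ : ψ.Flat)
    (Q' : Ideal T') [Q'.IsPrime] :
    ∃ θ : Localization.AtPrime (Q'.comap ψ) →+* Localization.AtPrime Q',
      θ.Flat ∧ ∀ t : T, θ (algebraMap T _ t) = algebraMap T' _ (ψ t) :=
  ⟨Localization.localRingHom _ Q' ψ rfl, RingHom.Flat.localRingHom hψ Q' _ rfl,
    fun t => Localization.localRingHom_to_map _ _ _ _ _⟩

section Main

variable (A B A' B' : Type u) [CommRing A] [CommRing B] [CommRing A'] [CommRing B']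
  [Algebra A B] [Algebra A A'] [Algebra B B'] [Algebra A' B'] [Algebra A B']
  [IsScalarTower A B B'] [IsScalarTower A A' B'] [Algebra.IsPushout A B A' B']

open Groth.Agent.Ega4fib.H143.FieldPred in
theorem exists_flat (q' : Ideal B') [q'.IsPrime] :
    ∃ φ : EGA4.FibLocRing A B (q'.comap (algebraMap B B')) →+* EGA4.FibLocRing A' B' q',
      φ.Flat ∧ ∀ b : B, φ (algebraMap B _ b) = algebraMap B' _ (algebraMap B B' b) := by
  have hpush : Algebra.IsPushout A A' B B' := Algebra.IsPushout.symm inferInstance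
  set q : Ideal B := q'.comap (algebraMap B B') with hqdef
  set p : Ideal A := q.comap (algebraMap A B) with hpdef
  set p' : Ideal A' := q'.comap (algebraMap A' B') with hp'def
  have hlies : p'.LiesOver p := by
    constructor
    rw [hpdef, hqdef, hp'def, Ideal.under, Ideal.comap_comap, Ideal.comap_comap,
      ← IsScalarTower.algebraMap_eq, ← IsScalarTower.algebraMap_eq]
  let := Localization.AtPrime.algebraOfLiesOver p p'
  let Q' : PrimeSpectrum (p'.Fiber B') := fibPt A' B' ⟨q', inferInstance⟩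
  have hQ' : Q'.asIdeal.comap (Algebra.TensorProduct.includeRight : B' →ₐ[A'] p'.Fiber B') = q' :=
    congrArg PrimeSpectrum.asIdeal (comap_fibPt A' B' ⟨q', inferInstance⟩)
  let e := fiberEquiv A A' B B' p' p.ResidueField
  obtain ⟨ψ, hψ, hψe⟩ := exists_hom (k := p.ResidueField) (K := p'.ResidueField)
    (T := p.Fiber B) (T' := p'.Fiber B') e.toRingEquiv
  have hψ1 : ∀ b : B, ψ ((Algebra.TensorProduct.includeRight : B →ₐ[A] p.Fiber B) b) =
      (Algebra.TensorProduct.includeRight : B' →ₐ[A'] p'.Fiber B') (algebraMap B B' b) := by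
    intro b
    rw [hψe]
    change e.symm (1 ⊗ₜ[p.ResidueField] (1 ⊗ₜ[A] b)) = 1 ⊗ₜ[A'] (algebraMap B B' b)
    rw [AlgEquiv.symm_apply_eq]
    exact (fiberEquiv_one_tmul A A' B B' p' p.ResidueField b).symm
  obtain ⟨θ, hθ, hθ'⟩ := exists_loc ψ hψ Q'.asIdeal
  have hQ : (Q'.asIdeal.comap ψ).comap
      (Algebra.TensorProduct.includeRight : B →ₐ[A] p.Fiber B) = q := by
    ext b
    change ψ ((Algebra.TensorProduct.includeRight : B →ₐ[A] p.Fiber B) b) ∈ Q'.asIdeal ↔
      algebraMap B B' b ∈ q'
    rw [hψ1]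
    exact SetLike.ext_iff.mp hQ' (algebraMap B B' b)
  obtain ⟨e1, he1⟩ := exists_equiv p (Q'.asIdeal.comap ψ) q hQ
  obtain ⟨e2, he2⟩ := exists_equiv p' Q'.asIdeal q' hQ'
  refine ⟨(e2 : _ →+* _).comp (θ.comp (e1.symm : _ →+* _)), ?_, ?_⟩
  · exact RingHom.Flat.comp (RingHom.Flat.comp (RingHom.Flat.of_bijective e1.symm.bijective) hθ)
      (RingHom.Flat.of_bijective e2.bijective)
  · intro b
    change e2 (θ (e1.symm (algebraMap B _ b))) = _
    rw [← he1 b, RingEquiv.symm_apply_apply, hθ', hψ1, he2]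

variable (F : Type u) [AddCommGroup F] [Module B F]

/-- Depth along the maximal ideals: `depth (F_q/pF_q) ≤ depth ((B' ⊗ F)_{q'}/p'(B' ⊗ F)_{q'})`. -/
theorem fib_depth_le [IsNoetherianRing B'] [Module.Finite B F] (q' : Ideal B') [q'.IsPrime] :
    LocCoh.idealDepth ((q'.comap (algebraMap B B')).map
      (algebraMap B (EGA4.FibLocRing A B (q'.comap (algebraMap B B')))))
      (EGA4.FibLocMod A B (q'.comap (algebraMap B B')) F) ≤
    LocCoh.idealDepth (q'.map (algebraMap B' (EGA4.FibLocRing A' B' q')))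
      (EGA4.FibLocMod A' B' q' (B' ⊗[B] F)) := by
  obtain ⟨φ, hφ, hφ'⟩ := exists_flat A B A' B' q'
  set q : Ideal B := q'.comap (algebraMap B B') with hq
  let R := EGA4.FibLocRing A B q
  let S := EGA4.FibLocRing A' B' q'
  let : Algebra R S := φ.toAlgebra
  have hflat : Module.Flat R S := hφ
  have htow : IsScalarTower B R S :=
    IsScalarTower.of_algebraMap_eq (R := B) (S := R) (A := S) fun b => by
      refine Eq.trans ?_ (hφ' b).symm
      exact IsScalarTower.algebraMap_apply B B' S b
  have h1 := Groth.Agent.Ega43.FibSpec.isBaseChange_fib A F q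
  have h2 := (TensorProduct.isBaseChange B F B').comp
    (Groth.Agent.Ega43.FibSpec.isBaseChange_fib A' (B' ⊗[B] F) q')
  have hfin : Module.Finite S (EGA4.FibLocMod A' B' q' (B' ⊗[B] F)) := by
    have : Module.Finite B' (B' ⊗[B] F) := inferInstance
    exact Module.Finite.equiv h2.equiv
  let e : S ⊗[R] (EGA4.FibLocMod A B q F) ≃ₗ[S] EGA4.FibLocMod A' B' q' (B' ⊗[B] F) :=
    (TensorProduct.AlgebraTensorModule.congr (LinearEquiv.refl S S) h1.equiv.symm).trans
      ((TensorProduct.AlgebraTensorModule.cancelBaseChange B R S S F).trans h2.equiv)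
  refine (Groth.Agent.S2938.idealDepth_le_of_flat (A := R) (B := S) _ _).trans ?_
  rw [Groth.Agent.Localalg.Depth.idealDepth_congr_equiv _ e]
  refine Groth.Agent.Localalg.Depth.idealDepth_mono ?_ _
  rw [Ideal.map_map, ← IsScalarTower.algebraMap_eq, IsScalarTower.algebraMap_eq B B' S,
    ← Ideal.map_map]
  exact Ideal.map_mono Ideal.map_comap_le

end Main

end K967.FibBC
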