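import Groth.Agent.QGor.K66.Main
import Groth.Agent.QGor.K968.HomBC

/-!
# Comparison of `i^* F` with a dual on the fibre; descent of freeness from the fibre

`f : X → S`, `i : X_s → X` a fibre, `F` coherent on `X`, `G = L^*` on `X_s` with `(i^*F)|U ≅ G|U`.

* `skAt_of_specializes`: `(S_k)` at a generization;
* `exists_map`: a map `β : i^*F → G` bijective on `U`;
* `bijective_of_skAt`: `β_z` is bijective if `i^*F` satisfies `(S₂)` at `z`;
* `invertibleAt_of_fibre`: `F` flat over the base and `i^*F` invertible at `z` imply `F` invertible at `i z`;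
* `relSkAt_of_three`: `F` is relatively `(S₂)` if `G` has depth at least three off `U` near `z`.
-/

set_option autoImplicit false
set_option linter.style.haveILetI false
universe u

open AlgebraicGeometry CategoryTheory Limits IsLocalRing TopologicalSpace RefHull

namespace K967.FibMap

open Groth.Agent Groth.Agent.CycB.LocQuot K66.StalkOff K66.FlatOff K66.Core K66.SkFull K970.RelSk1
  Groth.Agent.Flat2D.FiberStalk Groth.Agent.Fdesc.PullbackStalk

section Gen

variable {X : Scheme.{u}}

/-- `(S_k)` at a generization. -/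
theorem skAt_of_specializes {F : X.Modules} (hF : Coh.IsQCoh F) (k : ℕ) {x ξ : X} (h : ξ ⤳ x)
    (hx : RelCanon.SkAt k F x) : RelCanon.SkAt k F ξ := by
  obtain ⟨σ, e, -, -, he⟩ := exists_loc_equiv F hF h
  exact Ega4B.SkLocal.hasSk_of_semilinearEquiv k (σ : _ →+* _) σ.bijective e he
    (Ega4B.SkLocal.hasSkAt_of_hasSk k hx (primeOf h).asIdeal)

end Gen

section Fib

variable {X S : Scheme.{u}} (f : X ⟶ S) (hS : RelCanon.IsSkMor f 2) (U : X.Opens) (s : S)
  (hcod : ∀ z : X, f z = s → z ∉ U →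
    (2 : WithBot ℕ∞) ≤ ringKrullDim ((f.fiber (f z)).presheaf.stalk (f.asFiber z)))

include hS hcod in
theorem le_dim (w : f.fiber s) (hw : f.fiberι s w ∉ U) :
    (2 : WithBot ℕ∞) ≤ ringKrullDim ((f.fiber s).presheaf.stalk w) := by
  rw [← K66.Fibre.ringKrullDim_fiber]
  exact hcod _ (apply_fiberι f s w) hw

include hS hcod in
theorem two_le_depth (w : f.fiber s) (hw : f.fiberι s w ∉ U) :
    2 ≤ LocCoh.depth ((f.fiber s).presheaf.stalk w) ((f.fiber s).presheaf.stalk w) :=
  K66.Fibre.le_depth_fiber f hS s w (hcod _ (apply_fiberι f s w) hw)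

variable {F : X.Modules} {L : (f.fiber s).Modules} (hL : Coh.IsCoh L)
  (α : ((Scheme.Modules.pullback (f.fiberι s)).obj F).restrict ((f.fiberι s) ⁻¹ᵁ U).ι ≅
    (dual L).restrict ((f.fiberι s) ⁻¹ᵁ U).ι)

include hS hcod hL in
theorem two_le_depth_dual' (w : f.fiber s) (hw : f.fiberι s w ∉ U) :
    2 ≤ LocCoh.depth ((f.fiber s).presheaf.stalk w) ((dual L).presheaf.stalk w) := by
  haveI := hS.2.1
  haveI := K66.Fibre.isLocallyNoetherian_fiber f s
  exact two_le_depth_dual hL w (two_le_depth f hS U s hcod w hw)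

include hS hcod hL in
/-- The comparison map. -/
theorem exists_map (α : ((Scheme.Modules.pullback (f.fiberι s)).obj F).restrict ((f.fiberι s) ⁻¹ᵁ U).ι ≅
    (dual L).restrict ((f.fiberι s) ⁻¹ᵁ U).ι) :
    ∃ β : (Scheme.Modules.pullback (f.fiberι s)).obj F ⟶ dual L,
      ∀ w : f.fiber s, f.fiberι s w ∈ U → Function.Bijective (stalkMapₗ β w) := by
  haveI := hS.2.1
  haveI := K66.Fibre.isLocallyNoetherian_fiber f s
  obtain ⟨β, hβ⟩ := Dual.H375.Hartogs.exists_extend (K476.HomSh4.isCoh_dual hL) ((f.fiberι s) ⁻¹ᵁ U)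
    (fun w hw => two_le_depth_dual' f hS U s hcod hL w hw) α.hom
  refine ⟨β, fun w hw => ?_⟩
  have h1 := bijective_restrict_iff ((f.fiberι s) ⁻¹ᵁ U).ι β ⟨w, hw⟩
  rw [hβ] at h1
  exact h1.mp (K476.HomSh4.bijective_stalkMapₗ_of_isIso _ _)

include hS hcod hL in
/-- The comparison map is bijective at the points where `i^*F` satisfies `(S₂)`. -/
theorem bijective_of_skAt (hF : Coh.IsCoh ((Scheme.Modules.pullback (f.fiberι s)).obj F))
    (hinv : ∀ w : f.fiber s, f.fiberι s w ∈ U →
      RelCanon.InvertibleAt ((Scheme.Modules.pullback (f.fiberι s)).obj F) w)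
    (β : (Scheme.Modules.pullback (f.fiberι s)).obj F ⟶ dual L)
    (hβ : ∀ w : f.fiber s, f.fiberι s w ∈ U → Function.Bijective (stalkMapₗ β w)) (z : f.fiber s)
    (hz : RelCanon.SkAt 2 ((Scheme.Modules.pullback (f.fiberι s)).obj F) z) :
    Function.Bijective (stalkMapₗ β z) := by
  haveI := hS.2.1
  haveI := K66.Fibre.isLocallyNoetherian_fiber f s
  refine bijective_of_off hF (K476.HomSh4.isCoh_dual hL) ((f.fiberι s) ⁻¹ᵁ U) z β
    (fun w hw _ => hβ w hw) ?_ ?_
  · refine (le_idealDepth_offIdeal_iff _ hF ((f.fiberι s) ⁻¹ᵁ U) z 2).mpr fun w hwz hw => ?_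
    refine le_depth_of_skAt _ hF ((f.fiberι s) ⁻¹ᵁ U) w 2 (fun w' hw' _ => hinv w' hw') ?_
      (skAt_of_specializes hF.1 2 hwz hz) (le_dim f hS U s hcod w hw)
    exact (le_idealDepth_ring_iff _ w 1).mpr fun w' _ hw' =>
      le_trans (by norm_num) (two_le_depth f hS U s hcod w' hw')
  · exact (le_idealDepth_offIdeal_iff _ (K476.HomSh4.isCoh_dual hL) _ z 1).mpr
      fun w _ hw => le_trans (by norm_num) (two_le_depth_dual' f hS U s hcod hL w hw)

end Fib

section Nak

/-- Along a surjective ring map `O → O'` with kernel `I`, a base change `M → N` is surjective with kernel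
`I M`. -/
theorem surjective_and_ker {O O' M N : Type*} [CommRing O] [CommRing O'] [Algebra O O']
    [AddCommGroup M] [Module O M] [AddCommGroup N] [Module O N] [Module O' N]
    [IsScalarTower O O' N] (g : M →ₗ[O] N) (hg : IsBaseChange O' g)
    (hs : Function.Surjective (algebraMap O O')) :
    Function.Surjective g ∧
      LinearMap.ker g = RingHom.ker (algebraMap O O') • (⊤ : Submodule O M) := by
  have hle : RingHom.ker (algebraMap O O') • (⊤ : Submodule O M) ≤ LinearMap.ker g := by
    rw [Submodule.smul_le]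
    intro r hr m _
    rw [LinearMap.mem_ker, map_smul, ← algebraMap_smul O' r (g m), (RingHom.mem_ker).mp hr,
      zero_smul]
  have hsurj : Function.Surjective g := by
    intro n
    induction n using hg.inductionOn with
    | zero => exact ⟨0, map_zero _⟩
    | tmul m => exact ⟨m, rfl⟩
    | smul s n hn =>
      obtain ⟨m, rfl⟩ := hn
      obtain ⟨r, rfl⟩ := hs s
      exact ⟨r • m, by rw [map_smul, algebraMap_smul]⟩
    | add n₁ n₂ h₁ h₂ =>
      obtain ⟨m₁, rfl⟩ := h₁
      obtain ⟨m₂, rfl⟩ := h₂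
      exact ⟨m₁ + m₂, map_add _ _ _⟩
  refine ⟨hsurj, le_antisymm ?_ hle⟩
  intro m hm
  let K := RingHom.ker (algebraMap O O')
  let Q := M ⧸ (K • (⊤ : Submodule O M))
  let σ : (O ⧸ K) ≃+* O' := RingHom.quotientKerEquivOfSurjective hs
  letI : Module O' Q := Module.compHom Q σ.symm.toRingHom
  haveI : IsScalarTower O O' Q := IsScalarTower.of_algebraMap_smul fun r q => by
    obtain ⟨q, rfl⟩ := Submodule.Quotient.mk_surjective _ q
    have hσ : σ.symm (algebraMap O O' r) = Ideal.Quotient.mk K r := by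
      rw [RingEquiv.symm_apply_eq]
      rfl
    change σ.symm (algebraMap O O' r) • (Submodule.Quotient.mk q : Q) = r • Submodule.Quotient.mk q
    rw [hσ]
    rfl
  have h1 : hg.lift ((K • (⊤ : Submodule O M)).mkQ) (g m) =
    (K • (⊤ : Submodule O M)).mkQ m := hg.lift_eq _ m
  rw [(LinearMap.mem_ker).mp hm, map_zero] at h1
  exact (Submodule.Quotient.mk_eq_zero _).mp h1.symm

variable {X S : Scheme.{u}} (f : X ⟶ S)

theorem canAdd_surjective (F : X.Modules) (s : S) (z : f.fiber s) :
    Function.Surjective (canAdd (f.fiberι s) F z) := by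
  letI := stalkAlg (f.fiberι s) z
  letI := FlatMod.moduleStalkOver (f.fiberι s) ((Scheme.Modules.pullback (f.fiberι s)).obj F) z
  haveI := isScalarTower (f.fiberι s) ((Scheme.Modules.pullback (f.fiberι s)).obj F) z
  exact (surjective_and_ker (can (f.fiberι s) F z) (isBaseChange_can (f.fiberι s) F z)
    (stalkMap_fiberι_surjective f s z)).1

/-- The kernel of `F_{i z} → (i^*F)_z` for a fibre `i`. -/
theorem canAdd_eq_zero_iff (F : X.Modules) (s : S) (z : f.fiber s)
    (m : F.presheaf.stalk (f.fiberι s z)) :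
    canAdd (f.fiberι s) F z m = 0 ↔
      m ∈ (fibreIdeal f (f.fiberι s z) •
        (⊤ : Submodule (X.presheaf.stalk (f.fiberι s z)) (F.presheaf.stalk (f.fiberι s z)))) := by
  letI := stalkAlg (f.fiberι s) z
  letI := FlatMod.moduleStalkOver (f.fiberι s) ((Scheme.Modules.pullback (f.fiberι s)).obj F) z
  haveI := isScalarTower (f.fiberι s) ((Scheme.Modules.pullback (f.fiberι s)).obj F) z
  have h := (surjective_and_ker (can (f.fiberι s) F z) (isBaseChange_can (f.fiberι s) F z)
    (stalkMap_fiberι_surjective f s z)).2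
  rw [← ker_stalkMap_fiberι]
  exact (LinearMap.mem_ker (f := can (f.fiberι s) F z)).symm.trans (by rw [h]; rfl)

variable [IsLocallyNoetherian X] [IsLocallyNoetherian S]

/-- Freeness of rank one descends from the fibre for modules flat over the base. -/
theorem invertibleAt_of_fibre [Flat f] {F : X.Modules} (hF : Coh.IsCoh F) (s : S) (z : f.fiber s)
    (hflat : FlatMod.IsFlatOverAt f F (f.fiberι s z))
    (h : RelCanon.InvertibleAt ((Scheme.Modules.pullback (f.fiberι s)).obj F) z) :
    RelCanon.InvertibleAt F (f.fiberι s z) := by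
  set y := f.fiberι s z with hy
  obtain ⟨g⟩ := K970.InvAt.nonempty_stalk_equiv z h
  letI iA : Algebra (S.presheaf.stalk (f y)) (X.presheaf.stalk y) := (f.stalkMap y).hom.toAlgebra
  letI iF := FlatMod.moduleStalkOver f F y
  haveI : IsScalarTower (S.presheaf.stalk (f y)) (X.presheaf.stalk y) (F.presheaf.stalk y) :=
      IsScalarTower.of_algebraMap_smul fun r m => rfl
  haveI : Module.Finite (X.presheaf.stalk y) (F.presheaf.stalk y) := Divis.StalkMod.finite_stalk hF y
  haveI : IsLocalHom (algebraMap (S.presheaf.stalk (f y)) (X.presheaf.stalk y)) :=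
    inferInstanceAs (IsLocalHom (f.stalkMap y).hom)
  haveI : Module.Flat (S.presheaf.stalk (f y)) (X.presheaf.stalk y) := Flat.stalkMap f y
  haveI : Module.Flat (S.presheaf.stalk (f y)) (F.presheaf.stalk y) := hflat
  obtain ⟨m, hm⟩ := canAdd_surjective f F s z (g 1)
  let u : X.presheaf.stalk y →ₗ[X.presheaf.stalk y] F.presheaf.stalk y :=
    LinearMap.toSpanSingleton _ _ m
  have hu : ∀ b : X.presheaf.stalk y, canAdd (f.fiberι s) F z (u b) =
      g (((f.fiberι s).stalkMap z).hom b) := by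
    intro b
    change canAdd (f.fiberι s) F z (b • m) = _
    rw [canAdd_smul, hm, ← map_smul, smul_eq_mul, mul_one]
  have hmB : EGA4.mB (S.presheaf.stalk (f y)) (X.presheaf.stalk y) = fibreIdeal f y := rfl
  refine (K970.InvAt.invertibleAt_iff_stalk_equiv hF y).mpr ⟨LinearEquiv.ofBijective u ?_⟩
  refine K968.HomBC.bijective_of_fibre (A := S.presheaf.stalk (f y)) u (fun b hb => ?_) (fun x => ?_)
  · have h1 := (canAdd_eq_zero_iff f F s z (u b)).mpr hb
    rw [hu] at h1
    have h2 : ((f.fiberι s).stalkMap z).hom b = 0 := g.map_eq_zero_iff.mp h1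
    have h3 : b ∈ fibreIdeal f y := by
      rw [← ker_stalkMap_fiberι]
      exact h2
    rw [hmB]
    have h4 := Submodule.smul_mem_smul h3 (Submodule.mem_top (x := (1 : X.presheaf.stalk y)))
    have h5 : b • (1 : X.presheaf.stalk y) = b := by rw [smul_eq_mul, mul_one]
    rwa [h5] at h4
  · obtain ⟨b, hb⟩ := stalkMap_fiberι_surjective f s z (g.symm (canAdd (f.fiberι s) F z x))
    refine ⟨b, (canAdd_eq_zero_iff f F s z _).mp ?_⟩
    rw [map_sub, hu, hb, LinearEquiv.apply_symm_apply, sub_self]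

end Nak

section Three

variable {X S : Scheme.{u}} (f : X ⟶ S) [IsLocallyNoetherian X] [IsLocallyNoetherian S]

/-- Relative `(S₂)` at `i z` from depth three of `N = K^*` near `z` off `U`, where `(i^*G)|U ≅ N|U`. -/
theorem relSkAt_of_three (hS : RelCanon.IsSkMor f 2) (U : X.Opens) (s : S) (z : f.fiber s)
    (hcod : ∀ z' : X, z' ∉ U →
      (2 : WithBot ℕ∞) ≤ ringKrullDim ((f.fiber (f z')).presheaf.stalk (f.asFiber z')))
    (G : X.Modules) (L : X.Modules) (hL : Coh.IsCoh L) (hG : G = dual L)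
    (hGinv : ∀ z ∈ U, RelCanon.InvertibleAt G z)
    (K : (f.fiber s).Modules) (hK : Coh.IsCoh K)
    (h3 : ∀ w : f.fiber s, w ⤳ z → f.fiberι s w ∉ U →
      3 ≤ LocCoh.depth ((f.fiber s).presheaf.stalk w) ((dual K).presheaf.stalk w))
    (α : ((Scheme.Modules.pullback (f.fiberι s)).obj G).restrict ((f.fiberι s) ⁻¹ᵁ U).ι ≅
      (dual K).restrict ((f.fiberι s) ⁻¹ᵁ U).ι) :
    RelCanon.RelSkAt f 2 G (f.fiberι s z) := by
  haveI := hS.1
  haveI := hS.2.1
  haveI := K66.Fibre.isLocallyNoetherian_fiber f s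
  have hN : Coh.IsCoh (dual K) := K476.HomSh4.isCoh_dual hK
  set N : (f.fiber s).Modules := dual K with hNdef
  set i := f.fiberι s with hi
  set Us : (f.fiber s).Opens := i ⁻¹ᵁ U with hUs
  obtain ⟨β, hβU⟩ : ∃ β : (Scheme.Modules.pullback i).obj G ⟶ N,
      ∀ w : f.fiber s, i w ∈ U → Function.Bijective (stalkMapₗ β w) :=
    exists_map f hS U s (fun z' _ => hcod z') hK α
  have hGc : Coh.IsCoh G := by rw [hG]; exact K476.HomSh4.isCoh_dual hL
  have hiG : Coh.IsCoh ((Scheme.Modules.pullback i).obj G) := FormalA.PullbackQC.isCoh_pullback i G hGc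
  -- depth of the fibre off `Us`
  have hd2 : ∀ z' : f.fiber s, z' ∉ Us →
      2 ≤ LocCoh.depth ((f.fiber s).presheaf.stalk z') ((f.fiber s).presheaf.stalk z') :=
    fun z' hz' => two_le_depth f hS U s (fun z' _ => hcod z') z' hz'
  -- the stalks
  set y := i z with hy
  letI iA : Algebra (S.presheaf.stalk (f y)) (X.presheaf.stalk y) := (f.stalkMap y).hom.toAlgebra
  letI iG := FlatMod.moduleStalkOver f G y
  haveI : IsScalarTower (S.presheaf.stalk (f y)) (X.presheaf.stalk y) (G.presheaf.stalk y) :=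
      IsScalarTower.of_algebraMap_smul fun r m => rfl
  haveI : Module.Finite (X.presheaf.stalk y) (G.presheaf.stalk y) := Divis.StalkMod.finite_stalk hGc y
  haveI : IsLocalHom (algebraMap (S.presheaf.stalk (f y)) (X.presheaf.stalk y)) :=
    inferInstanceAs (IsLocalHom (f.stalkMap y).hom)
  haveI : Module.Flat (S.presheaf.stalk (f y)) (X.presheaf.stalk y) := Flat.stalkMap f y
  letI := stalkAlg i z
  letI := FlatMod.moduleStalkOver i ((Scheme.Modules.pullback i).obj G) z
  haveI := isScalarTower i ((Scheme.Modules.pullback i).obj G) z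
  letI iN := FlatMod.moduleStalkOver i N z
  obtain ⟨e, he⟩ := exists_quot_equiv (can i G z) (isBaseChange_can i G z)
    (stalkMap_fiberι_surjective f s z) (fibreIdeal f y) (ker_stalkMap_fiberι f s z)
  haveI : IsScalarTower (X.presheaf.stalk y) ((f.fiber s).presheaf.stalk z) (N.presheaf.stalk z) :=
    isScalarTower i N z
  set φ : X.presheaf.stalk y →+* (f.fiber s).presheaf.stalk z := (i.stalkMap z).hom with hφ
  have hφs : Function.Surjective φ := stalkMap_fiberι_surjective f s z
  haveI : Module.Finite ((f.fiber s).presheaf.stalk z) (N.presheaf.stalk z) :=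
    Divis.StalkMod.finite_stalk hN z
  haveI : Module.Finite ((f.fiber s).presheaf.stalk z) (((Scheme.Modules.pullback i).obj G).presheaf.stalk z) :=
    Divis.StalkMod.finite_stalk hiG z
  haveI : Module.Finite (X.presheaf.stalk y) ((f.fiber s).presheaf.stalk z) :=
    Module.Finite.of_surjective (Algebra.linearMap (X.presheaf.stalk y) ((f.fiber s).presheaf.stalk z)) hφs
  haveI : Module.Finite (X.presheaf.stalk y) (N.presheaf.stalk z) :=
    Module.Finite.trans ((f.fiber s).presheaf.stalk z) _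
  haveI : Module.IsReflexive (X.presheaf.stalk y) (G.presheaf.stalk y) := by
    have hX : ∀ z' : X, z' ∉ U → 2 ≤ LocCoh.depth (X.presheaf.stalk z') (X.presheaf.stalk z') :=
      fun z' hz' => K967.FibDepth.two_le_depth_stalk f hS z' (hcod z' hz')
    refine K66.S3Crit.isReflexive_stalk G hGc U y (fun w hw _ => hGinv w hw)
      (fun w _ hw => le_trans (by norm_num) (hX w hw)) (fun w _ hw => ?_)
    rw [hG]
    exact two_le_depth_dual hL w (hX w hw)
  set J := offIdeal U y with hJ
  have hJφ : ∀ (w : f.fiber s) (h : w ⤳ z), J.map φ ≤ (primeOf h).asIdeal ↔ i w ∉ U := by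
    intro w h
    rw [Ideal.map_le_iff_le_comap, hφ, comap_primeOf, hJ, offIdeal_le_primeOf_iff]
  let ψ₁ := stalkMapₗ β z
  have hloc : ∀ q : PrimeSpectrum ((f.fiber s).presheaf.stalk z), ¬ J.map φ ≤ q.asIdeal →
      Function.Bijective (LocalizedModule.map q.asIdeal.primeCompl ψ₁) := by
    intro q hq
    have hw : i (ptOf q) ∈ U := by
      by_contra hc
      apply hq
      have h5 := hJφ (ptOf q) (ptOf_specializes q)
      rw [primeOf_ptOf] at h5
      exact h5.mpr hc
    have h := bijective_localized hiG.1 hN.1 (ptOf_specializes q) ψ₁ (stalkMapₗ β (ptOf q))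
      (fun m => K476.RefPow1.stalkMapₗ_specializes β _ m) (hβU _ hw)
    rw [primeOf_ptOf] at h
    exact h
  let ψ : FibStalk f G y →ₗ[X.presheaf.stalk y] N.presheaf.stalk z :=
    { toFun := fun m => ψ₁ (e m)
      map_add' := fun a b => by rw [map_add, map_add]
      map_smul' := fun r m => by
        rw [he, map_smul]
        rfl }
  obtain ⟨hKt, hQt⟩ := K66.H2Crit.isPowerTorsion_semilinear J φ ψ₁ ψ e he (AddEquiv.refl _)
    (fun r m => rfl) (fun m => rfl) (K66.H2Crit.isPowerTorsion_ker (J.map φ) ψ₁ hloc)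
    (K66.H2Crit.isPowerTorsion_coker (J.map φ) ψ₁ hloc)
  have hN3 : 3 ≤ LocCoh.idealDepth J (N.presheaf.stalk z) := by
    rw [Ega4A.DepthBasic.idealDepth_congr_of_surjective φ hφs J (N.presheaf.stalk z)
      (N.presheaf.stalk z) (AddEquiv.refl _) (fun r m => rfl)]
    exact (le_idealDepth_iff N hN (J.map φ) 3).mpr fun w h hw => h3 w h ((hJφ w h).mp hw)
  have hB : 2 ≤ LocCoh.idealDepth J (X.presheaf.stalk y ⧸ fibreIdeal f y) := by
    let eR : (X.presheaf.stalk y ⧸ fibreIdeal f y) ≃+* (f.fiber s).presheaf.stalk z :=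
      (Ideal.quotEquivOfEq (ker_stalkMap_fiberι f s z).symm).trans
        (RingHom.quotientKerEquivOfSurjective (stalkMap_fiberι_surjective f s z))
    rw [Ega4A.DepthBasic.idealDepth_congr_of_surjective φ hφs J
      (X.presheaf.stalk y ⧸ fibreIdeal f y) ((f.fiber s).presheaf.stalk z) eR.toAddEquiv (by
        intro r m
        obtain ⟨m, rfl⟩ := Ideal.Quotient.mk_surjective m
        change eR (Ideal.Quotient.mk _ (r * m)) = φ r * eR (Ideal.Quotient.mk _ m)
        rw [map_mul, map_mul]
        rfl)]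
    exact (le_idealDepth_ring_iff' z (J.map φ) 2).mpr fun w h hw => hd2 w ((hJφ w h).mp hw)
  obtain ⟨hflat, hdep⟩ := K66.H2Crit.flat_of_map (A := S.presheaf.stalk (f y)) J (G.presheaf.stalk y)
    (fun q hq => K66.S3Crit.free_of_off G hGc.1 U y (fun w hw _ => hGinv w hw) q hq) hB
    (N.presheaf.stalk z) hN3 ψ hKt hQt
  have hb : Function.Bijective ψ₁ := by
    refine bijective_of_off hiG hN Us z β (fun w hw _ => hβU w hw) ?_ ?_
    · refine (le_idealDepth_offIdeal_iff _ hiG Us z 2).mpr ?_
      exact (le_idealDepth_fibStalk_iff f G U s z hiG 2).mp hdep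
    · exact (le_idealDepth_offIdeal_iff N hN Us z 1).mpr
        fun w hwz hw => le_trans (by norm_num) (h3 w hwz hw)
  rw [relSkAt_iff]
  refine ⟨hflat, (skAt_fiber_iff f 2 G s z).mp ?_⟩
  refine skAt_of_equiv 2 z (LinearEquiv.ofBijective ψ₁ hb).symm ?_
  exact skAt_two_dual hK z (K66.Fibre.hasSk_fiber f hS s z)

end Three

end K967.FibMap
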