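import Groth.Agent.QGor.K967.HomEv
import Groth.Agent.QGor.K968.EndOmega
import Groth.Agent.QGor.K969.BCIso
import Groth.Agent.Dual3.K477.Lowest

/-!
# The last step of the comparison along a fibre

For `f : Y → Spec A` a proper `S_2`-morphism of pure relative dimension `d`, `ω` its canonical sheaf and `L` a flat
coherent module whose restriction to `Y_t` is the canonical sheaf of `Y_t`: if `L_y ≅ ω_y` for every point `y` of `Y_t`
then `𝓗om(L, ω)` is invertible along `Y_t`, its restriction to `Y_t` is trivial, `ω` satisfies relative `S_2` along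
`Y_t`, its restriction is the canonical sheaf of `Y_t`, and `L ⊗ 𝓗om(L, ω) ≅ ω` near `Y_t`.
-/

set_option autoImplicit false
set_option linter.style.haveILetI false
universe u

open CategoryTheory CategoryTheory.Limits AlgebraicGeometry TopologicalSpace Opposite Function
attribute [local instance] HasDerivedCategory.standard

namespace K967.Fin28

open Groth.Agent K968.Compare2 RefHull K476.HomSh1

section Field

variable (k : Type u) [Field k] {X : Scheme.{u}} [X.Over (Spec (CommRingCat.of k))]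
  [IsProper (X ↘ Spec (CommRingCat.of k))] {d : ℕ}
  (hd : Cyc.HasRelDim (X ↘ Spec (CommRingCat.of k)) d)

include hd

/-- The canonical sheaf of a proper scheme over a field satisfies `S_2`. -/
theorem skAt_two {ω : X.Modules} (hω : RelCanon.IsDualizingSheaf k X d ω) (x : X) :
    RelCanon.SkAt 2 ω x := by
  have hN : IsNoetherianRing (CommRingCat.of k) := inferInstanceAs (IsNoetherianRing k)
  have hlN : IsLocallyNoetherian X :=
    LocallyOfFiniteType.isLocallyNoetherian (X ↘ Spec (CommRingCat.of k))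
  obtain ⟨R⟩ := exists_ra' (X ↘ Spec (CommRingCat.of k))
  obtain ⟨e⟩ := iso_dz k d (fibreDimLE hd) R hω
  have hr := R.hr
  have hK : Dual2.IsDualizingSch X R.dz :=
    S1810.result X _ (X ↘ Spec (CommRingCat.of k)) R.h R.a R.adj (oD _)
      (PerfA.FieldSch.isDualizingSch_field k _ ⟨Iso.refl _⟩)
  have hge := isGE_dz k d (fibreDimLE hd) R
  refine K970.RelSk1.skAt_of_iso 2 e.symm x ?_
  exact Groth.Agent.K477.Lowest.hasSk_two hK (-(d : ℤ)) (fun i hi => R.dz.isZero_of_isGE _ i hi) x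

/-- An invertible module `N` on a proper `S_2`-scheme over a field with `L ⊗ N ≅ L` outside codimension two, where `L` is
the canonical sheaf, is trivial. -/
theorem nonempty_unit_iso (hS : RelCanon.IsSkMor (X ↘ Spec (CommRingCat.of k)) 2)
    {L : X.Modules} (hL : RelCanon.IsDualizingSheaf k X d L) {N : X.Modules}
    (hN : PicF.IsInvertible N) (W : X.Opens)
    (hW : ∀ z : X, z ∉ W → (2 : WithBot ℕ∞) ≤ ringKrullDim
      (((X ↘ Spec (CommRingCat.of k)).fiber ((X ↘ Spec (CommRingCat.of k)) z)).presheaf.stalk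
        ((X ↘ Spec (CommRingCat.of k)).asFiber z)))
    (e : (CohB1.tensorMod L N).restrict W.ι ≅ L.restrict W.ι) :
    Nonempty (N ≅ Coh.structureModule X) := by
  have hflat := hS.1
  have hNk : IsNoetherianRing (CommRingCat.of k) := inferInstanceAs (IsNoetherianRing k)
  have hlN : IsLocallyNoetherian X :=
    LocallyOfFiniteType.isLocallyNoetherian (X ↘ Spec (CommRingCat.of k))
  have hEnd : IsIso (K968.EndOmega.scalar L) := K968.EndOmega.isIso_scalar k hd hL hS
  have hEndW : homSh (L.restrict W.ι) (L.restrict W.ι) ≅ Coh.structureModule (W : Scheme.{u}) :=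
    (K476.HomSh5.restrictHom W.ι L L).symm ≪≫
      (Scheme.Modules.restrictFunctor W.ι).mapIso (asIso (K968.EndOmega.scalar L)).symm ≪≫
      Scheme.Modules.restrictUnitIso W.ι
  obtain ⟨b⟩ := HomEv.nonempty_dual_iso ⟨hEndW⟩
    ((Ega3B.TensRestrict.restrictIso W.ι L N).symm ≪≫ e)
  have hO := K967.FibDepth.isIso_unit_structure (X ↘ Spec (CommRingCat.of k)) hS W hW
  obtain ⟨c⟩ := K969.RefU.nonempty_iso_of_unit W
    (K967.HomUnit.isIso_unit_homSh N (Coh.structureModule X) W hO) hO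
    (K476.HomSh5.restrictDual W.ι N ≪≫ b ≪≫ (Scheme.Modules.restrictUnitIso W.ι).symm)
  obtain ⟨a⟩ := K969.RefU.nonempty_ddual_iso hN
  exact ⟨a.symm ≪≫ dualIso c ≪≫ K462.HomMon.dualUnit X⟩

end Field

/-- An isomorphism near the image of a morphism induces an isomorphism of inverse images. -/
theorem nonempty_pullback_iso {X Z : Scheme.{u}} (i : Z ⟶ X) (V : X.Opens) (hV : ∀ z, i z ∈ V)
    {M G : X.Modules} (e : Nonempty (M.restrict V.ι ≅ G.restrict V.ι)) :
    Nonempty ((Scheme.Modules.pullback i).obj M ≅ (Scheme.Modules.pullback i).obj G) := by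
  obtain ⟨e⟩ := e
  let i' : Z ⟶ V := IsOpenImmersion.lift V.ι i (by
    rintro _ ⟨z, rfl⟩
    rw [Scheme.Opens.range_ι]
    exact hV z)
  have hi' : i' ≫ V.ι = i := IsOpenImmersion.lift_fac _ _ _
  have c : ∀ H : X.Modules, Nonempty ((Scheme.Modules.pullback i).obj H ≅
      (Scheme.Modules.pullback i').obj (H.restrict V.ι)) := fun H =>
    ⟨(Scheme.Modules.pullbackCongr hi'.symm).app H ≪≫
      ((Scheme.Modules.pullbackComp i' V.ι).app H).symm ≪≫
      (Scheme.Modules.pullback i').mapIso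
        ((Scheme.Modules.restrictFunctorIsoPullback V.ι).app H).symm⟩
  obtain ⟨c1⟩ := c M
  obtain ⟨c2⟩ := c G
  exact ⟨c1 ≪≫ (Scheme.Modules.pullback i').mapIso e ≪≫ c2.symm⟩

section Main

variable (A : Type u) [CommRing A] [IsNoetherianRing A] (Y : Scheme.{u})
  [Y.Over (Spec (CommRingCat.of A))] [IsProper (Y ↘ Spec (CommRingCat.of A))] (d : ℕ)
  (hS : RelCanon.IsSkMor (Y ↘ Spec (CommRingCat.of A)) 2)
  (hd : Cyc.HasRelDim (Y ↘ Spec (CommRingCat.of A)) d)
  (ω : Y.Modules) (hω : RelCanon.IsDualizingSheaf A Y d ω)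

include hS hd hω

/-- All endomorphisms of `ω_y` are scalars. -/
theorem bijective_smul (y : Y) : Bijective (fun b : Y.presheaf.stalk y => b • (LinearMap.id :
      ω.presheaf.stalk y →ₗ[Y.presheaf.stalk y] ω.presheaf.stalk y)) := by
  have hflat := hS.1
  have hN : IsNoetherianRing (CommRingCat.of A) := inferInstanceAs (IsNoetherianRing A)
  have hlN : IsLocallyNoetherian Y :=
    LocallyOfFiniteType.isLocallyNoetherian (Y ↘ Spec (CommRingCat.of A))
  have hEnd : IsIso (K968.EndOmega.scalar ω) := K968.EndOmega.isIso_scalar A hd hω hS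
  have hc := K967.OmegaBasic.isCoh A Y d ω hω (fibreDimLE hd)
  have h1 := K476.HomSh3.evalStalk_bijective_of_isCoh ω ω hc y
  have h2 : Bijective (stalkMapₗ (K968.EndOmega.scalar ω) y) :=
    K476.HomSh4.bijective_stalkMapₗ_of_isIso _ y
  have h3 := h1.comp (h2.comp (Fdesc.StructMod.stalkEquiv y).bijective)
  convert h3 using 1
  funext r
  exact (K968.EndOmega.evalStalk_scalar ω y r).symm

variable (L : Y.Modules) (hL : Coh.IsCoh L)
  (hLf : FlatMod.IsFlatOver (Y ↘ Spec (CommRingCat.of A)) L) (t : Spec (CommRingCat.of A))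
  (h2 : RelCanon.IsDualizingSheafFib (Y ↘ Spec (CommRingCat.of A)) d L t)
  (hG : ∀ y : Y, (Y ↘ Spec (CommRingCat.of A)) y = t →
    Nonempty (L.presheaf.stalk y ≃ₗ[Y.presheaf.stalk y] ω.presheaf.stalk y))

include hL hLf h2 hG

/-- **The comparison along a fibre.** -/
theorem main :
    (∀ y : Y, (Y ↘ Spec (CommRingCat.of A)) y = t →
      RelCanon.InvertibleAt (RefHull.homSh L ω) y ∧
        RelCanon.RelSkAt (Y ↘ Spec (CommRingCat.of A)) 2 ω y) ∧
    Nonempty ((Scheme.Modules.pullback ((Y ↘ Spec (CommRingCat.of A)).fiberι t)).obj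
      (RefHull.homSh L ω) ≅ Coh.structureModule ((Y ↘ Spec (CommRingCat.of A)).fiber t)) ∧
    RelCanon.IsDualizingSheafFib (Y ↘ Spec (CommRingCat.of A)) d ω t ∧
    (∃ V : Y.Opens, (∀ y : Y, (Y ↘ Spec (CommRingCat.of A)) y = t → y ∈ V) ∧
      Nonempty ((CohB1.tensorMod L (RefHull.homSh L ω)).restrict V.ι ≅ ω.restrict V.ι)) := by
  have hflat := hS.1
  have hN : IsNoetherianRing (CommRingCat.of A) := inferInstanceAs (IsNoetherianRing A)
  have hlN : IsLocallyNoetherian Y :=
    LocallyOfFiniteType.isLocallyNoetherian (Y ↘ Spec (CommRingCat.of A))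
  have hc := K967.OmegaBasic.isCoh A Y d ω hω (fibreDimLE hd)
  have hM : Coh.IsCoh (homSh L ω) := K476.HomSh3.isCoh_homSh hL hc
  have hinv : ∀ y : Y, (Y ↘ Spec (CommRingCat.of A)) y = t →
      RelCanon.InvertibleAt (homSh L ω) y := by
    intro y hy
    obtain ⟨e⟩ := hG y hy
    exact HomEv.invertibleAt_homSh hL y e (bijective_smul A Y d hS hd ω hω y) hc
  have H := K970.BCHyp.isPullback_fibre (Y ↘ Spec (CommRingCat.of A)) t
  let κ : Type u := (Spec (CommRingCat.of A)).residueField t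
  letI : ((Y ↘ Spec (CommRingCat.of A)).fiber t).Over (Spec (CommRingCat.of κ)) :=
    ⟨(Y ↘ Spec (CommRingCat.of A)).fiberToSpecResidueField t⟩
  have hp : IsPullback ((Y ↘ Spec (CommRingCat.of A)).fiberι t)
      (((Y ↘ Spec (CommRingCat.of A)).fiber t) ↘ Spec (CommRingCat.of κ))
      (Y ↘ Spec (CommRingCat.of A)) (Spec.map (K970.BCHyp.toRes t)) := H
  haveI hpr : IsProper (((Y ↘ Spec (CommRingCat.of A)).fiber t) ↘ Spec (CommRingCat.of κ)) :=
    MorphismProperty.of_isPullback hp inferInstance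
  have hd' : Cyc.HasRelDim (((Y ↘ Spec (CommRingCat.of A)).fiber t) ↘ Spec (CommRingCat.of κ)) d :=
    K970.BCHyp.hasRelDim_of_isPullback hp hd
  have hS' : RelCanon.IsSkMor (((Y ↘ Spec (CommRingCat.of A)).fiber t) ↘
      Spec (CommRingCat.of κ)) 2 := K970.BCHyp.isSkMor_cat (K970.BCHyp.toRes t) hp 2 hS
  have hLt : RelCanon.IsDualizingSheaf κ ((Y ↘ Spec (CommRingCat.of A)).fiber t) d
      ((Scheme.Modules.pullback ((Y ↘ Spec (CommRingCat.of A)).fiberι t)).obj L) := h2
  have hrel : ∀ y : Y, (Y ↘ Spec (CommRingCat.of A)) y = t →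
      RelCanon.RelSkAt (Y ↘ Spec (CommRingCat.of A)) 2 ω y := by
    intro y hy
    obtain ⟨e⟩ := hG y hy
    refine K970.RelSk1.relSkAt_of_equiv (Y ↘ Spec (CommRingCat.of A)) 2 y e ⟨hLf y, ?_⟩
    have h3 := fun z => skAt_two κ hd' hLt z
    subst hy
    exact h3 _
  -- the evaluation map
  obtain ⟨V, hV, hVe⟩ := HomEv.exists_open_iso (K939.Codim1.isCoh_tensor hL hM) hc
    (HomEv.ev L ω) {y : Y | (Y ↘ Spec (CommRingCat.of A)) y = t} (by
      intro y hy
      obtain ⟨e⟩ := hG y hy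
      exact HomEv.bijective_ev hL y e (bijective_smul A Y d hS hd ω hω y))
  have hfib : ∀ z : (Y ↘ Spec (CommRingCat.of A)).fiber t,
      (Y ↘ Spec (CommRingCat.of A)) ((Y ↘ Spec (CommRingCat.of A)).fiberι t z) = t := by
    intro z
    have h3 : (Y ↘ Spec (CommRingCat.of A)).fiberι t z ∈
      Set.range ((Y ↘ Spec (CommRingCat.of A)).fiberι t) := ⟨z, rfl⟩
    rw [Scheme.Hom.range_fiberι] at h3
    exact h3
  -- the restriction of `ω`
  obtain ⟨e1⟩ := nonempty_pullback_iso ((Y ↘ Spec (CommRingCat.of A)).fiberι t) V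
    (fun z => hV (hfib z)) hVe
  have e2 : CohB1.tensorMod
      ((Scheme.Modules.pullback ((Y ↘ Spec (CommRingCat.of A)).fiberι t)).obj L)
      ((Scheme.Modules.pullback ((Y ↘ Spec (CommRingCat.of A)).fiberι t)).obj (homSh L ω)) ≅
      (Scheme.Modules.pullback ((Y ↘ Spec (CommRingCat.of A)).fiberι t)).obj ω :=
    (K939.FlatDual.tensorIso ((Y ↘ Spec (CommRingCat.of A)).fiberι t) L (homSh L ω)).symm ≪≫ e1
  have hNinv : PicF.IsInvertible ((Scheme.Modules.pullback
      ((Y ↘ Spec (CommRingCat.of A)).fiberι t)).obj (homSh L ω)) := fun z =>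
    K970.InvAt.invertibleAt_pullback _ _ z (hinv _ (hfib z))
  let U : Y.Opens := ⟨{x : Y | MoreMor.IsCMAt (Y ↘ Spec (CommRingCat.of A)) x},
    S4961.result (Y ↘ Spec (CommRingCat.of A))⟩
  obtain ⟨e3⟩ := K969.BCIso.nonempty_fibre_iso A hd hω U (fun x hx => hx) t _ hLt
  obtain ⟨e4⟩ := nonempty_unit_iso κ hd' hS' hLt hNinv
    ((Y ↘ Spec (CommRingCat.of A)).fiberι t ⁻¹ᵁ U)
    (fun z hz => (K967.BCOmega.codim_cmLocus (Y ↘ Spec (CommRingCat.of A)) hS _ hz).trans
      (K970.BCHyp.ringKrullDim_fibre_le_cat (K970.BCHyp.toRes t) hp z))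
    ((Scheme.Modules.restrictFunctor _).mapIso e2 ≪≫ e3)
  refine ⟨fun y hy => ⟨hinv y hy, hrel y hy⟩, ⟨e4⟩, ?_, V, fun y hy => hV hy, hVe⟩
  have e5 : CohB1.tensorMod
      ((Scheme.Modules.pullback ((Y ↘ Spec (CommRingCat.of A)).fiberι t)).obj L)
      ((Scheme.Modules.pullback ((Y ↘ Spec (CommRingCat.of A)).fiberι t)).obj (homSh L ω)) ≅
      (Scheme.Modules.pullback ((Y ↘ Spec (CommRingCat.of A)).fiberι t)).obj L :=
    K462.HomMon.tensIso (Iso.refl _) e4 ≪≫ Ega2.Tens.runit _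
  exact K968.Compare1.isDualizingSheaf_of_iso hLt (e5.symm ≪≫ e2)

end Main

end K967.Fin28
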