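import Groth.Agent.Surf.K462.HomMon
import Groth.Agent.SDiv.K476.IsoLoc
import Groth.Agent.Dcoh.ClosedProj
import Groth.Agent.QGor.K66.Core
import Groth.Agent.QGor.K970.RefPow

/-!
# The evaluation map `F ⊗ 𝓗om(F, G) ⟶ G`

* `ev`, `stalkMapₗ_ev`;
* `nonempty_stalk_homSh`, `bijective_ev`: at a point where `F_x ≅ G_x` and all endomorphisms of `G_x` are scalars;
* `exists_open_iso`: the locus where a map of coherent modules is an isomorphism;
* `nonempty_dual_iso`: if `L ⊗ N ≅ L` and all endomorphisms of `L` are scalars then `N^* ≅ O`.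
-/

set_option autoImplicit false
universe u

open CategoryTheory CategoryTheory.Limits AlgebraicGeometry TopologicalSpace Opposite Function
  TensorProduct

namespace K967.HomEv

open Groth.Agent RefHull K476.HomSh1 Groth.Agent.Ega2.Tens Groth.Agent.Fdesc.AssFlat

variable {X : Scheme.{u}}

section Ev

variable (F G : X.Modules)

/-- The evaluation map `F ⊗ 𝓗om(F, G) ⟶ G`. -/
noncomputable def ev : CohB1.tensorMod F (homSh F G) ⟶ G :=
  Sga2.PnHomAdj.uncurry (K462.HomCmp.cmpHom F G)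

theorem ev_tmul {U : X.Opens} (m : Γ(F, U)) (g : Γ(homSh F G, U)) :
    (ev F G).app U (tmul m g) = secMap g le_rfl m := by
  rw [ev, Sga2.PnHomAdj.uncurry_tmul, K462.HomCmp.cmpHom_app, K462.HomCmp.comp_cmpSec]

theorem stalkMapₗ_ev (x : X) (m : F.presheaf.stalk x) (θ : (homSh F G).presheaf.stalk x) :
    stalkMapₗ (ev F G) x ((tensorModStalk F (homSh F G) x).symm (m ⊗ₜ θ)) =
      evalStalk F G x θ m := by
  obtain ⟨V, hV, m, rfl⟩ := F.presheaf.exists_germ_eq m
  obtain ⟨W, hW, g, rfl⟩ := (homSh F G).presheaf.exists_germ_eq θ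
  have hVW : x ∈ V ⊓ W := ⟨hV, hW⟩
  have hm := (TopCat.Presheaf.germ_res_apply F.presheaf (homOfLE (inf_le_left : V ⊓ W ≤ V)) x hVW
    m).symm
  have hg := (TopCat.Presheaf.germ_res_apply (homSh F G).presheaf
    (homOfLE (inf_le_right : V ⊓ W ≤ W)) x hVW g).symm
  rw [hm, hg, ← Dcoh.ClosedProj.tensorModStalk_germ, LinearEquiv.symm_apply_apply, stalkMapₗ_germ,
    ev_tmul, germ_secMap, evalStalk_germ]

end Ev

section Point

variable [IsLocallyNoetherian X] {F G : X.Modules} (hF : Coh.IsCoh F) (x : X)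
  (e : F.presheaf.stalk x ≃ₗ[X.presheaf.stalk x] G.presheaf.stalk x)
  (hs : Bijective (fun b : X.presheaf.stalk x => b • (LinearMap.id :
      G.presheaf.stalk x →ₗ[X.presheaf.stalk x] G.presheaf.stalk x)))

include hF e hs

/-- The stalk of `𝓗om(F, G)` is free of rank one, generated by `e`. -/
theorem exists_gen : ∃ θ : (homSh F G).presheaf.stalk x, evalStalk F G x θ = e.toLinearMap ∧
    Bijective (fun b : X.presheaf.stalk x => b • θ) := by
  have hb := K476.HomSh3.evalStalk_bijective_of_isCoh F G hF x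
  obtain ⟨θ, hθ⟩ := hb.2 e.toLinearMap
  refine ⟨θ, hθ, ?_⟩
  rw [← Bijective.of_comp_iff' hb]
  have h1 : Bijective (fun φ : G.presheaf.stalk x →ₗ[X.presheaf.stalk x] G.presheaf.stalk x =>
      φ.comp e.toLinearMap) := by
    refine ⟨fun φ ψ h => ?_, fun φ => ⟨φ.comp e.symm.toLinearMap, ?_⟩⟩
    · ext v
      have := LinearMap.congr_fun h (e.symm v)
      simpa using this
    · ext v
      simp
  have h2 : (evalStalk F G x ∘ fun b : X.presheaf.stalk x => b • θ) =
      (fun φ : G.presheaf.stalk x →ₗ[X.presheaf.stalk x] G.presheaf.stalk x =>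
        φ.comp e.toLinearMap) ∘ (fun b : X.presheaf.stalk x => b • (LinearMap.id :
          G.presheaf.stalk x →ₗ[X.presheaf.stalk x] G.presheaf.stalk x)) := by
    funext b
    change evalStalk F G x (b • θ) = (b • LinearMap.id).comp e.toLinearMap
    rw [map_smul, hθ]
    rfl
  rw [h2]
  exact h1.comp hs

theorem invertibleAt_homSh (hG : Coh.IsCoh G) : RelCanon.InvertibleAt (homSh F G) x := by
  obtain ⟨θ, -, hθ⟩ := exists_gen hF x e hs
  rw [K970.InvAt.invertibleAt_iff_stalk_equiv (K476.HomSh3.isCoh_homSh hF hG)]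
  exact ⟨LinearEquiv.ofBijective (LinearMap.toSpanSingleton _ _ θ) hθ⟩

/-- The evaluation map is an isomorphism at such a point. -/
theorem bijective_ev : Bijective (stalkMapₗ (ev F G) x) := by
  obtain ⟨θ, hθ, hb⟩ := exists_gen hF x e hs
  let E : X.presheaf.stalk x ≃ₗ[X.presheaf.stalk x] (homSh F G).presheaf.stalk x :=
    LinearEquiv.ofBijective (LinearMap.toSpanSingleton _ _ θ) hb
  let T : F.presheaf.stalk x ≃ₗ[X.presheaf.stalk x] (CohB1.tensorMod F (homSh F G)).presheaf.stalk x :=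
    (TensorProduct.rid _ _).symm ≪≫ₗ LinearEquiv.lTensor _ E ≪≫ₗ
      (tensorModStalk F (homSh F G) x).symm
  have h1 : ∀ m, stalkMapₗ (ev F G) x (T m) = e m := by
    intro m
    have h2 : T m = (tensorModStalk F (homSh F G) x).symm (m ⊗ₜ θ) := by
      change (tensorModStalk F (homSh F G) x).symm
        (LinearEquiv.lTensor _ E ((TensorProduct.rid _ _).symm m)) = _
      rw [TensorProduct.rid_symm_apply, LinearEquiv.lTensor_tmul]
      congr 2
      exact one_smul (X.presheaf.stalk x) θ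
    rw [h2, stalkMapₗ_ev, hθ]
    rfl
  have h3 : ⇑(stalkMapₗ (ev F G) x) ∘ ⇑T = ⇑e := funext h1
  rw [← Bijective.of_comp_iff _ T.bijective, h3]
  exact e.bijective

end Point

section Open

variable [IsLocallyNoetherian X] {M G : X.Modules}

/-- A map of coherent modules which is bijective on the stalks over a set is an isomorphism over an open subset. -/
theorem exists_open_iso (hM : Coh.IsCoh M) (hG : Coh.IsCoh G) (φ : M ⟶ G) (S : Set X)
    (h : ∀ x ∈ S, Bijective (stalkMapₗ φ x)) :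
    ∃ V : X.Opens, S ⊆ V ∧ Nonempty (M.restrict V.ι ≅ G.restrict V.ι) := by
  let V : X.Opens := ⟨{x : X | Bijective (stalkMapₗ φ x)},
    K476.IsoLoc.isOpen_setOf_bijective
      (K476.HomSh3.isFT_of_isFP (K476.HomSh3.isFP_of_isCoh hM)) (K476.HomSh3.isFP_of_isCoh hG) φ⟩
  refine ⟨V, h, ?_⟩
  have : IsIso ((Scheme.Modules.restrictFunctor V.ι).map φ) := by
    refine K476.HomSh4.isIso_of_stalk _ fun y => ?_
    rw [K66.Core.bijective_restrict_iff]
    exact y.2
  exact ⟨asIso ((Scheme.Modules.restrictFunctor V.ι).map φ)⟩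

end Open

/-- If `L ⊗ N ≅ L` and `𝓗om(L, L) ≅ O` then `N^* ≅ O`. -/
theorem nonempty_dual_iso {L N : X.Modules} (hL : Nonempty (homSh L L ≅ Coh.structureModule X))
    (e : CohB1.tensorMod L N ≅ L) : Nonempty (dual N ≅ Coh.structureModule X) := by
  obtain ⟨a⟩ := hL
  exact ⟨K462.HomCmp.cmpIso N (Coh.structureModule X) ≪≫
    K462.HomMon.isoRight N (a.symm ≪≫ K462.HomCmp.cmpIso L L) ≪≫
    (K462.HomMon.assocIso L N L).symm ≪≫ K462.HomMon.isoLeft e L ≪≫
    (K462.HomCmp.cmpIso L L).symm ≪≫ a⟩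

end K967.HomEv
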