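import Groth.Agent.QGor.K967.PowFun
import Groth.Agent.QGor.K967.FibIndex

/-!
# Divisibility of the index; the comparison of indices through powers

* `nonempty_refPowZ_sub`, `invertibleAt_refPowZ_sub`: the integers `m` with `ω^{[m]}` invertible at a point form a
  subgroup (`ω` invertible on `V`, depth at least two off `V`);
* `index_dvd`: the least positive one divides all;
* `nonempty_tensorPow_restrict`: `(ω^{[r]})^{⊗ k} ≅ ω^{[rk]}` on `U`;
* `invertibleAt_of_fibre_of_pow`: `ω^{[r]}` is invertible at `i z` if `ωs^{[r]}` is invertible at `z`,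
  `ω^{[rk]}` is invertible at `i z` and `k` is a unit at `i z`.
-/

set_option autoImplicit false
set_option linter.style.haveILetI false
universe u

open AlgebraicGeometry CategoryTheory Limits IsLocalRing TopologicalSpace RefHull

namespace K967.IndexPow

open Groth.Agent
open Groth.Agent.Grpsch.PicGrp (mk mk_congr mk_eq_iff inv_mk mk_tensorPow pull pull_mk one_def)
open Groth.Agent.Fdesc.LocGen

section Div

variable {X : Scheme.{u}}

theorem mk_eq_one_iff {L : X.Modules} (hL : PicF.IsInvertible L) :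
    mk L hL = 1 ↔ Nonempty (L ≅ Coh.structureModule X) := by
  rw [one_def, mk_eq_iff]

theorem nonempty_structure_restrict (V : X.Opens) :
    Nonempty ((Coh.structureModule X).restrict V.ι ≅ Coh.structureModule (V : Scheme.{u})) := by
  obtain ⟨e⟩ := Ega3B.PullTensor.nonempty_pullUnitIso V.ι
  exact ⟨(Scheme.Modules.restrictFunctorIsoPullback V.ι).app _ ≪≫ e⟩

/-- The class of `ω|V` is killed by `a` if `ω^{[a]}` is trivial. -/
theorem zpow_eq_one (V : X.Opens) (ω : X.Modules) (hL : PicF.IsInvertible (ω.restrict V.ι)) (a : ℤ)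
    (ea : RelCanon.refPowZ ω a ≅ Coh.structureModule X) : mk (ω.restrict V.ι) hL ^ a = 1 := by
  rw [← K66.RefZ.mk_refPowZ hL a, mk_eq_one_iff]
  obtain ⟨e1⟩ := K66.RefZ.nonempty_refPowZ_restrict V.ι ω a
  obtain ⟨e2⟩ := nonempty_structure_restrict V
  exact ⟨e1.symm ≪≫ (Scheme.Modules.restrictFunctor V.ι).mapIso ea ≪≫ e2⟩

variable [IsLocallyNoetherian X]

/-- Modules with depth at least two off `V` and isomorphic on `V` are isomorphic. -/
theorem nonempty_iso_of_depth {F G : X.Modules} (hF : Coh.IsCoh F) (hG : Coh.IsCoh G) (V : X.Opens)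
    (hdF : ∀ x : X, x ∉ V → 2 ≤ LocCoh.depth (X.presheaf.stalk x) (F.presheaf.stalk x))
    (hdG : ∀ x : X, x ∉ V → 2 ≤ LocCoh.depth (X.presheaf.stalk x) (G.presheaf.stalk x))
    (e : F.restrict V.ι ≅ G.restrict V.ι) : Nonempty (F ≅ G) := by
  haveI := Dual.H375.Hartogs.isIso_unit hF V hdF
  haveI := Dual.H375.Hartogs.isIso_unit hG V hdG
  exact ⟨asIso ((Scheme.Modules.restrictAdjunction V.ι).unit.app F) ≪≫
    (Scheme.Modules.pushforward V.ι).mapIso e ≪≫
    (asIso ((Scheme.Modules.restrictAdjunction V.ι).unit.app G)).symm⟩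

variable (V : X.Opens)
  (hX : ∀ x : X, x ∉ V → 2 ≤ LocCoh.depth (X.presheaf.stalk x) (X.presheaf.stalk x))
  (ω : X.Modules) (hω : Coh.IsCoh ω) (hV : ∀ z ∈ V, RelCanon.InvertibleAt ω z)

include hX hω hV in
theorem nonempty_refPowZ_sub (a b : ℤ)
    (ea : RelCanon.refPowZ ω a ≅ Coh.structureModule X)
    (eb : RelCanon.refPowZ ω b ≅ Coh.structureModule X) :
    Nonempty (RelCanon.refPowZ ω (a - b) ≅ Coh.structureModule X) := by
  have hL : PicF.IsInvertible (ω.restrict V.ι) :=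
    (K970.InvAt.isInvertible_restrict_iff V.ι ω).mpr fun z => hV _ z.2
  have h1 : mk (ω.restrict V.ι) hL ^ (a - b) = 1 := by
    rw [zpow_sub, zpow_eq_one V ω hL a ea, zpow_eq_one V ω hL b eb, inv_one, mul_one]
  rw [← K66.RefZ.mk_refPowZ hL, mk_eq_one_iff] at h1
  obtain ⟨e1⟩ := h1
  obtain ⟨e2⟩ := K66.RefZ.nonempty_refPowZ_restrict V.ι ω (a - b)
  obtain ⟨e3⟩ := nonempty_structure_restrict V
  obtain ⟨K, hK, hKe⟩ := K66.Fibre.exists_refPowZ_eq hω (a - b)
  refine nonempty_iso_of_depth (K66.Fibre.isCoh_refPowZ hω _) (Fdesc.StructMod.isCoh_structureModule X) V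
    (fun x hx => ?_) (fun x hx => ?_) (e2 ≪≫ e1 ≪≫ e3.symm)
  · rw [hKe]
    exact K66.Core.two_le_depth_dual hK x (hX x hx)
  · have h2 : LocCoh.depth (X.presheaf.stalk x) ((Coh.structureModule X).presheaf.stalk x) =
        LocCoh.depth (X.presheaf.stalk x) (X.presheaf.stalk x) :=
      Localalg.Depth.idealDepth_congr_equiv _ (Fdesc.StructMod.stalkEquiv x).symm
    rw [h2]
    exact hX x hx

include hX hω hV in
/-- The integers `m` with `ω^{[m]}` invertible at `x` are closed under subtraction. -/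
theorem invertibleAt_refPowZ_sub (x : X) (a b : ℤ)
    (ha : RelCanon.InvertibleAt (RelCanon.refPowZ ω a) x)
    (hb : RelCanon.InvertibleAt (RelCanon.refPowZ ω b) x) :
    RelCanon.InvertibleAt (RelCanon.refPowZ ω (a - b)) x := by
  obtain ⟨W₁, hx₁, ⟨e₁⟩⟩ := ha
  obtain ⟨W₂, hx₂, ⟨e₂⟩⟩ := hb
  -- triviality on smaller open subsets
  have key : ∀ (F : X.Modules) (W W' : X.Opens) (_ : W' ≤ W)
      (_ : F.restrict W.ι ≅ Coh.structureModule (W : Scheme.{u})),
      Nonempty (F.restrict W'.ι ≅ Coh.structureModule (W' : Scheme.{u})) := by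
    intro F W W' hWW' e
    have h1 : X.homOfLE hWW' ≫ W.ι = W'.ι := X.homOfLE_ι hWW'
    obtain ⟨u⟩ := Ega3B.PullTensor.nonempty_pullUnitIso (X.homOfLE hWW')
    exact ⟨(Scheme.Modules.restrictFunctorCongr h1.symm).app F ≪≫
      (Scheme.Modules.restrictFunctorComp (X.homOfLE hWW') W.ι).app F ≪≫
      (Scheme.Modules.restrictFunctor (X.homOfLE hWW')).mapIso e ≪≫
      (Scheme.Modules.restrictFunctorIsoPullback (X.homOfLE hWW')).app _ ≪≫ u⟩
  let W : X.Opens := W₁ ⊓ W₂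
  obtain ⟨ea⟩ := key _ W₁ W inf_le_left e₁
  obtain ⟨eb⟩ := key _ W₂ W inf_le_right e₂
  obtain ⟨ra⟩ := K66.RefZ.nonempty_refPowZ_restrict W.ι ω a
  obtain ⟨rb⟩ := K66.RefZ.nonempty_refPowZ_restrict W.ι ω b
  obtain ⟨rs⟩ := K66.RefZ.nonempty_refPowZ_restrict W.ι ω (a - b)
  obtain ⟨e⟩ := nonempty_refPowZ_sub (X := (W : Scheme.{u})) (W.ι ⁻¹ᵁ V) (fun w hw => by
      have h1 := K66.Core.depth_restrict W.ι (Coh.structureModule X) w
      have h2 : LocCoh.depth (X.presheaf.stalk (W.ι w))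
          ((Coh.structureModule X).presheaf.stalk (W.ι w)) =
          LocCoh.depth (X.presheaf.stalk (W.ι w)) (X.presheaf.stalk (W.ι w)) :=
        Localalg.Depth.idealDepth_congr_equiv _ (Fdesc.StructMod.stalkEquiv (W.ι w)).symm
      obtain ⟨u⟩ := nonempty_structure_restrict W
      have h3 : LocCoh.depth ((W : Scheme.{u}).presheaf.stalk w)
          (((Coh.structureModule X).restrict W.ι).presheaf.stalk w) =
          LocCoh.depth ((W : Scheme.{u}).presheaf.stalk w) ((W : Scheme.{u}).presheaf.stalk w) :=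
        Localalg.Depth.idealDepth_congr_equiv _
          ((Fdesc.Skyscraper.stalkIso u w).trans (Fdesc.StructMod.stalkEquiv w).symm)
      rw [← h3, h1, h2]
      exact hX _ hw)
    (ω.restrict W.ι) (PerfA.CohSerre.isCoh_restrict W.ι hω)
    (fun w hw => (K970.InvAt.invertibleAt_restrict_iff W.ι ω w).mpr (hV _ hw)) a b
    (ra.symm ≪≫ ea) (rb.symm ≪≫ eb)
  exact ⟨W, ⟨hx₁, hx₂⟩, ⟨rs ≪≫ e⟩⟩

include hX hω hV in
/-- Every positive integer `m` with `ω^{[m]}` invertible at `x` is a multiple of the index. -/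
theorem index_dvd (x : X) (m : ℕ) (hm : 0 < m)
    (h : RelCanon.InvertibleAt (RelCanon.refPowZ ω m) x) : RelCanon.gorIndexWithAt ω x ∣ m := by
  set r := RelCanon.gorIndexWithAt ω x with hr
  have hne : {r : ℕ | 0 < r ∧ RelCanon.InvertibleAt (RelCanon.refPowZ ω r) x}.Nonempty := ⟨m, hm, h⟩
  have hr2 : 0 < r ∧ RelCanon.InvertibleAt (RelCanon.refPowZ ω r) x := Nat.sInf_mem hne
  -- subtract multiples of `r`
  have h1 : ∀ q : ℕ, RelCanon.InvertibleAt (RelCanon.refPowZ ω ((m : ℤ) - q * r)) x := by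
    intro q
    induction q with
    | zero => simpa using h
    | succ q ih =>
      have := invertibleAt_refPowZ_sub V hX ω hω hV x _ _ ih hr2.2
      have e : (m : ℤ) - q * r - r = (m : ℤ) - ((q + 1 : ℕ) : ℤ) * r := by push_cast; ring
      rwa [e] at this
  have h2 := h1 (m / r)
  have e : (m : ℤ) - ((m / r : ℕ) : ℤ) * r = ((m % r : ℕ) : ℤ) := by
    have := Nat.div_add_mod m r
    have h3 : ((r * (m / r) + m % r : ℕ) : ℤ) = (m : ℤ) := by rw [this]
    push_cast at h3 ⊢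
    linarith
  rw [e] at h2
  by_contra hnd
  have h4 : 0 < m % r := Nat.pos_of_ne_zero fun h0 => hnd (Nat.dvd_of_mod_eq_zero h0)
  have h5 : r ≤ m % r := Nat.sInf_le ⟨h4, h2⟩
  exact absurd h5 (not_le.mpr (Nat.mod_lt m hr2.1))

end Div

section Pow

variable {X : Scheme.{u}}

/-- `(ω^{[r]})^{⊗ k} ≅ ω^{[rk]}` on an open subset on which `ω` is invertible. -/
theorem nonempty_tensorPow_restrict (U : X.Opens) (ω : X.Modules)
    (hU : ∀ z ∈ U, RelCanon.InvertibleAt ω z) (r : ℤ) (k : ℕ) :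
    Nonempty ((CohB1.tensorPow (RelCanon.refPowZ ω r) k).restrict U.ι ≅
      (RelCanon.refPowZ ω (r * k)).restrict U.ι) := by
  have hL : PicF.IsInvertible (ω.restrict U.ι) :=
    (K970.InvAt.isInvertible_restrict_iff U.ι ω).mpr fun z => hU _ z.2
  obtain ⟨e1⟩ := Ega3B.TensRestrict.restrictPowIso U.ι (RelCanon.refPowZ ω r) k
  obtain ⟨e2⟩ := K66.RefZ.nonempty_refPowZ_restrict U.ι ω r
  obtain ⟨e3⟩ := K66.RefZ.nonempty_tensorPow_congr e2 k
  obtain ⟨e4⟩ := K66.RefZ.nonempty_refPowZ_restrict U.ι ω (r * k)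
  have h1 := K66.RefZ.isInvertible_refPowZ hL r
  have h2 : mk (CohB1.tensorPow (RelCanon.refPowZ (ω.restrict U.ι) r) k) (isInvertible_tensorPow h1 k) =
      mk (RelCanon.refPowZ (ω.restrict U.ι) (r * k)) (K66.RefZ.isInvertible_refPowZ hL (r * k)) := by
    rw [mk_tensorPow h1, K66.RefZ.mk_refPowZ hL, K66.RefZ.mk_refPowZ hL, zpow_mul, zpow_natCast]
  obtain ⟨e5⟩ := (mk_eq_iff _ _).mp h2
  exact ⟨e1 ≪≫ e3 ≪≫ e5 ≪≫ e4.symm⟩

end Pow

/-- Invertibility over the preimage of `U`. -/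
theorem invertibleAt_of_iso_pullback {X Z : Scheme.{u}} (i : Z ⟶ X) (U : X.Opens) (ω : X.Modules)
    (hU : ∀ z ∈ U, RelCanon.InvertibleAt ω z) (ω' : Z.Modules)
    (e : ((Scheme.Modules.pullback i).obj ω).restrict (i ⁻¹ᵁ U).ι ≅ ω'.restrict (i ⁻¹ᵁ U).ι)
    (w : Z) (hw : i w ∈ U) : RelCanon.InvertibleAt ω' w := by
  have h2 : PicF.IsInvertible (((Scheme.Modules.pullback i).obj ω).restrict (i ⁻¹ᵁ U).ι) :=
    (K970.InvAt.isInvertible_restrict_iff _ _).mpr fun w =>
      K970.InvAt.invertibleAt_pullback i ω _ (hU _ w.2)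
  exact (K970.InvAt.isInvertible_restrict_iff _ _).mp (K476.HomSh6.isInvertible_of_iso e h2) ⟨w, hw⟩

section Gen

variable {X S : Scheme.{u}} (f : X ⟶ S) [IsLocallyNoetherian X] [IsLocallyNoetherian S]
  (hS : RelCanon.IsSkMor f 2) (U : X.Opens)
  (hcod : ∀ z : X, z ∉ U →
    (2 : WithBot ℕ∞) ≤ ringKrullDim ((f.fiber (f z)).presheaf.stalk (f.asFiber z)))
  (ω : X.Modules) (hω : Coh.IsCoh ω) (hU : ∀ z ∈ U, RelCanon.InvertibleAt ω z)
  (s : S) (ωs : (f.fiber s).Modules) (hωs : Coh.IsCoh ωs)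
  (e : ((Scheme.Modules.pullback (f.fiberι s)).obj ω).restrict ((f.fiberι s) ⁻¹ᵁ U).ι ≅
    ωs.restrict ((f.fiberι s) ⁻¹ᵁ U).ι)

include hS hcod hω hU hωs e in
/-- `ω^{[r]}` is invertible at `i z` if `ωs^{[r]}` is invertible at `z`, `ω^{[rk]}` is invertible at `i z` and `k` is
a unit at `i z`. -/
theorem invertibleAt_of_fibre_of_pow (r : ℤ) (k : ℕ) (z : f.fiber s)
    (h : RelCanon.InvertibleAt (RelCanon.refPowZ ωs r) z)
    (hG : RelCanon.InvertibleAt (RelCanon.refPowZ ω (r * k)) (f.fiberι s z))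
    (hk : IsUnit (k : X.presheaf.stalk (f.fiberι s z))) :
    RelCanon.InvertibleAt (RelCanon.refPowZ ω r) (f.fiberι s z) := by
  obtain ⟨α⟩ := K66.Main.nonempty_pullback_refPowZ (f.fiberι s) ω U hU ωs e r
  obtain ⟨γ⟩ := nonempty_tensorPow_restrict U ω hU r k
  haveI := hS.2.1
  haveI := K66.Fibre.isLocallyNoetherian_fiber f s
  obtain ⟨K, hK, hKe⟩ := K66.Fibre.exists_refPowZ_eq hωs r
  obtain ⟨L, hL, hLe⟩ := K66.Fibre.exists_refPowZ_eq hω r
  obtain ⟨L', hL', hLe'⟩ := K66.Fibre.exists_refPowZ_eq hω (r * k)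
  rw [hKe] at α h
  rw [hLe'] at γ hG
  exact PowFun.invertibleAt_of_pow f hS U s z hcod _ L hL hLe
    (K66.Main.invertibleAt_refPowZ ω U hU r) K hK α h k hk L' hL' γ hG

include hS hcod hω hU hωs e in
/-- The index of `ω` at `i z` is that of `ωs` at `z` if it is nonzero in the residue field of the base. -/
theorem gorIndexWithAt_eq (z : f.fiber s) (hN : RelCanon.IsQGorWithAt ω (f.fiberι s z))
    (hUs : ∀ w : f.fiber s, f.fiberι s w ∈ U → RelCanon.InvertibleAt ωs w)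
    (hm : IsUnit ((RelCanon.gorIndexWithAt ω (f.fiberι s z) : ℕ) : X.presheaf.stalk (f.fiberι s z))) :
    RelCanon.gorIndexWithAt ω (f.fiberι s z) = RelCanon.gorIndexWithAt ωs z := by
  haveI := hS.2.1
  haveI := K66.Fibre.isLocallyNoetherian_fiber f s
  set m := RelCanon.gorIndexWithAt ω (f.fiberι s z) with hmdef
  have hm2 : 0 < m ∧ RelCanon.InvertibleAt (RelCanon.refPowZ ω m) (f.fiberι s z) :=
    Nat.sInf_mem (s := {r : ℕ | 0 < r ∧ RelCanon.InvertibleAt (RelCanon.refPowZ ω r) (f.fiberι s z)}) hN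
  have h1 := FibIndex.invertibleAt_fibre f hS U hcod ω hω hU s ωs hωs e m z hm2.2
  have hdvd := index_dvd ((f.fiberι s) ⁻¹ᵁ U)
    (fun w hw => FibMap.two_le_depth f hS U s (fun z' _ => hcod z') w hw) ωs hωs hUs z m hm2.1 h1
  set r := RelCanon.gorIndexWithAt ωs z with hrdef
  have hr2 : 0 < r ∧ RelCanon.InvertibleAt (RelCanon.refPowZ ωs r) z :=
    Nat.sInf_mem (s := {r : ℕ | 0 < r ∧ RelCanon.InvertibleAt (RelCanon.refPowZ ωs r) z}) ⟨m, hm2.1, h1⟩
  obtain ⟨k, hk⟩ := hdvd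
  have hku : IsUnit ((k : ℕ) : X.presheaf.stalk (f.fiberι s z)) := by
    rw [hk, Nat.cast_mul] at hm
    exact isUnit_of_mul_isUnit_right hm
  have h2 := invertibleAt_of_fibre_of_pow f hS U hcod ω hω hU s ωs hωs e r k z hr2.2 (by
    have h3 := hm2.2
    rw [hk, Nat.cast_mul] at h3
    exact h3) hku
  refine le_antisymm (Nat.sInf_le ⟨hr2.1, h2⟩) (Nat.le_of_dvd hm2.1 ⟨k, hk⟩)

end Gen

end K967.IndexPow
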