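import Groth.Agent.QGor.K967.FibTor
import Groth.Agent.QGor.K967.BCOff
import Groth.Agent.Localalg.LCIface
import Groth.Agent.Localalg.DepthLC

/-!
# Vanishing of local cohomology through four-term sequences reduced modulo `m`
-/

set_option autoImplicit false
universe u

open TensorProduct

namespace K967.LCSeq

open Groth.Agent.Localalg Groth.Agent.Localalg.DepthLC K967.FibTor
open Groth.Agent.Dix.TopLC (hmap)

section LC

variable {R : Type u} [CommRing R] (J : Ideal R) {M' M M'' : Type u} [AddCommGroup M']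
  [Module R M'] [AddCommGroup M] [Module R M] [AddCommGroup M''] [Module R M'']
  (f : M' →ₗ[R] M) (g : M →ₗ[R] M'')

/-- `H^i(M) = 0` and `H^{i+1}(M') = 0` give `H^i(M'') = 0`. -/
theorem subsingleton_right (hf : Function.Injective f) (hg : Function.Surjective g)
    (h : Function.Exact f g) (i : ℕ) (h1 : Subsingleton (LocCoh.H J i M))
    (h2 : Subsingleton (LocCoh.H J (i + 1) M')) : Subsingleton (LocCoh.H J i M'') := by
  obtain ⟨δ, -, h3, -⟩ := LCIface.les J M' M M'' f g hf hg h i
  refine ⟨fun x y => ?_⟩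
  have key : ∀ x : LocCoh.H J i M'', x = 0 := by
    intro x
    obtain ⟨y, rfl⟩ := (h3 x).mp (h2.elim _ _)
    rw [h1.elim y 0, map_zero]
  rw [key x, key y]

variable [IsNoetherianRing R]

theorem isPowerTorsion_of_support (K : Type u) [AddCommGroup K] [Module R K] [Module.Finite R K]
    (hK : Module.support R K ⊆ PrimeSpectrum.zeroLocus (J : Set R)) : LocCoh.IsPowerTorsion J K := by
  rw [Module.support_eq_zeroLocus, PrimeSpectrum.zeroLocus_subset_zeroLocus_iff] at hK
  obtain ⟨n, hn⟩ := Ideal.exists_pow_le_of_le_radical_of_fg hK (IsNoetherian.noetherian J)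
  exact fun x => ⟨n, fun a ha => Module.mem_annihilator.mp (hn ha) x⟩

/-- Quotient by a torsion submodule does not change `H^i = 0`. -/
theorem subsingleton_of_torsion_ker [Module.Finite R M'] (hg : Function.Surjective f)
    (hK : Module.support R (LinearMap.ker f) ⊆ PrimeSpectrum.zeroLocus (J : Set R)) (i : ℕ)
    (h1 : Subsingleton (LocCoh.H J i M')) : Subsingleton (LocCoh.H J i M) := by
  refine subsingleton_right J (LinearMap.ker f).subtype f (Submodule.injective_subtype _) hg
    (LinearMap.exact_subtype_ker_map f) i h1 ?_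
  exact LCIface.subsingleton_H_of_torsion J _ (isPowerTorsion_of_support J _ hK) (i + 1)
    (Nat.succ_pos i)

theorem one_le_of_subsingleton [Module.Finite R M] (h : Subsingleton (LocCoh.H J 0 M)) :
    1 ≤ LocCoh.idealDepth J M := by
  rw [Order.one_le_iff_ne_zero]
  intro h0
  have := nontrivial_H_idealDepth J M 0 (by rw [h0]; rfl)
  exact not_subsingleton _ h

end LC

section Main

variable {A B : Type u} [CommRing A] [CommRing B] [Algebra A B] [IsNoetherianRing B]
  {F E0 E1 G : Type u} [AddCommGroup F] [Module B F] [Module.Finite B F]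
  [Module A F] [IsScalarTower A B F]
  [AddCommGroup E0] [Module B E0] [Module A E0] [IsScalarTower A B E0] [Module.Finite B E0]
  [AddCommGroup E1] [Module B E1] [Module A E1] [IsScalarTower A B E1] [Module.Finite B E1]
  [AddCommGroup G] [Module B G] [Module A G] [IsScalarTower A B G] [Module.Finite B G]
  (f : F →ₗ[B] E0) (u : E0 →ₗ[B] E1) (v : E1 →ₗ[B] G)
  (hf : Function.Injective f) (hfu : Function.Exact f u) (huv : Function.Exact u v)
  (hv : Function.Surjective v) (m : Ideal A) (J : Ideal B)
  (hE1U : ∀ q : PrimeSpectrum B, ¬ J ≤ q.asIdeal → FlatCA.FlatAt A q.asIdeal E1)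
  (hGU : ∀ q : PrimeSpectrum B, ¬ J ≤ q.asIdeal → FlatCA.FlatAt A q.asIdeal G)

include hf hfu huv hv hE1U hGU

theorem one_le_depth_coker
    (h0 : 2 ≤ LocCoh.idealDepth J (Q (m.map (algebraMap A B)) E0))
    (h1 : 1 ≤ LocCoh.idealDepth J (Q (m.map (algebraMap A B)) E1))
    (hH2 : Subsingleton (LocCoh.H J 2 (Q (m.map (algebraMap A B)) F))) :
    1 ≤ LocCoh.idealDepth J (Q (m.map (algebraMap A B)) G) := by
  set 𝔪 := m.map (algebraMap A B) with h𝔪
  -- the image `K` of `u`
  let K : Submodule B E1 := LinearMap.ker v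
  let u' : E0 →ₗ[B] K := u.codRestrict K (fun x => huv.apply_apply_eq_zero x)
  have hu' : Function.Surjective u' := by
    rintro ⟨y, hy⟩
    obtain ⟨x, rfl⟩ := (huv y).mp hy
    exact ⟨x, rfl⟩
  have hfu' : Function.Exact f u' := by
    intro x
    rw [← hfu x]
    exact ⟨fun h => congrArg Subtype.val h, fun h => Subtype.ext h⟩
  have hKv : Function.Exact K.subtype v := LinearMap.exact_subtype_ker_map v
  have hKi : Function.Injective K.subtype := Submodule.injective_subtype _
  have hKU : ∀ q : PrimeSpectrum B, ¬ J ≤ q.asIdeal → FlatCA.FlatAt A q.asIdeal K :=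
    fun q hq => flatAt_left K.subtype v hKi hKv hv q.asIdeal (hE1U q hq) (hGU q hq)
  have hs1 := support_ker_qmap f u' hf hfu' hu' m J hKU
  have hs2 := support_ker_qmap K.subtype v hKi hKv hv m J hGU
  -- (a) `H²(P₀) = 0` for `P₀ = im (F/m → E⁰/m)`
  let P₀ := LinearMap.range (qmap 𝔪 f)
  have ha : Subsingleton (LocCoh.H J 2 P₀) := by
    refine subsingleton_of_torsion_ker J (qmap 𝔪 f).rangeRestrict
      (LinearMap.surjective_rangeRestrict _) ?_ 2 hH2
    rw [LinearMap.ker_rangeRestrict]
    exact hs1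
  -- (b) `H¹(K/m) = 0`
  have hb : Subsingleton (LocCoh.H J 1 (Q 𝔪 K)) := by
    refine subsingleton_right J P₀.subtype (qmap 𝔪 u') (Submodule.injective_subtype _)
      (qmap_surjective 𝔪 u' hu') ?_ 1 ?_ ha
    · have h3 := qmap_exact 𝔪 f u' hfu' hu'
      rw [LinearMap.exact_iff] at h3 ⊢
      rw [h3, Submodule.range_subtype]
    · refine subsingleton_H_of_lt_idealDepth J _ 1 (lt_of_lt_of_le (by norm_num) h0)
  -- (c) `H¹(I') = 0` for `I' = im (K/m → E¹/m)`
  let I' := LinearMap.range (qmap 𝔪 K.subtype)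
  have hc : Subsingleton (LocCoh.H J 1 I') := by
    refine subsingleton_of_torsion_ker J (qmap 𝔪 K.subtype).rangeRestrict
      (LinearMap.surjective_rangeRestrict _) ?_ 1 hb
    rw [LinearMap.ker_rangeRestrict]
    exact hs2
  -- (d)
  have hd : Subsingleton (LocCoh.H J 0 (Q 𝔪 G)) := by
    refine subsingleton_right J I'.subtype (qmap 𝔪 v) (Submodule.injective_subtype _)
      (qmap_surjective 𝔪 v hv) ?_ 0 ?_ hc
    · have h3 := qmap_exact 𝔪 K.subtype v hKv hv
      rw [LinearMap.exact_iff] at h3 ⊢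
      rw [h3, Submodule.range_subtype]
    · refine subsingleton_H_of_lt_idealDepth J _ 0 (lt_of_lt_of_le (by norm_num) h1)
  exact one_le_of_subsingleton J hd

end Main

end K967.LCSeq
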