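import Groth.Agent.QGor.K967.FibTor
import Groth.Agent.QGor.K967.FibKit
import Groth.Agent.QGor.K967.DepthKit
import Groth.Agent.Ega4B.LocTransfer
import Groth.Agent.Flat2B.FlatCrit
import Mathlib.RingTheory.Localization.AtPrime.Basic

/-!
# Localizing a flat family at a prime `n` of the source: `A_p → B_n`
-/

set_option autoImplicit false
universe u

open TensorProduct IsLocalRing

namespace K967.LocN

open K967.DepthKit K967.FibTor

section General

variable {R : Type u} [CommRing R]

/-- `(M/IM)_n = M_n/IM_n`. -/
theorem localized_smul_top (S : Submonoid R) (I : Ideal R) (M : Type u) [AddCommGroup M]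
    [Module R M] : (I • (⊤ : Submodule R M)).localized S =
      (I.map (algebraMap R (Localization S))) • (⊤ : Submodule (Localization S) (LocalizedModule S M)) := by
  unfold Submodule.localized
  rw [Submodule.localized'_smul, Ideal.localized'_eq_map, Submodule.localized'_top]

noncomputable def locQuotEquiv (n : Ideal R) [n.IsPrime] (I : Ideal R) (M : Type u) [AddCommGroup M]
    [Module R M] : (LocalizedModule n.primeCompl M ⧸ (I.map (algebraMap R (Localization.AtPrime n)) •
      (⊤ : Submodule (Localization.AtPrime n) (LocalizedModule n.primeCompl M))))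
      ≃ₗ[Localization.AtPrime n] LocalizedModule n.primeCompl (Q I M) :=
  (Submodule.quotEquivOfEq _ _ (localized_smul_top n.primeCompl I M).symm).trans
    (localizedQuotientEquiv n.primeCompl (I • (⊤ : Submodule R M)))

variable [IsNoetherianRing R]

/-- `depth_{J_n} N_n ≥ k` from the depths of the `N_q`, `J ≤ q ≤ n`. -/
theorem le_idealDepth_localized (N : Type u) [AddCommGroup N] [Module R N] [Module.Finite R N]
    (n : Ideal R) [n.IsPrime] (J : Ideal R) (k : ℕ)
    (h : ∀ (q : Ideal R) [q.IsPrime], q ≤ n → J ≤ q →
      (k : ℕ∞) ≤ LocCoh.depth (Localization.AtPrime q) (LocalizedModule q.primeCompl N)) :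
    (k : ℕ∞) ≤ LocCoh.idealDepth (J.map (algebraMap R (Localization.AtPrime n)))
      (LocalizedModule n.primeCompl N) := by
  have : IsNoetherianRing (Localization.AtPrime n) :=
    IsLocalization.isNoetherianRing n.primeCompl _ inferInstance
  rw [natCast_le_idealDepth_iff_forall]
  intro P _ hP
  rw [Groth.Agent.Ega4B.LocTransfer.depth_eq_of_isLocalization n.primeCompl
    (LocalizedModule.mkLinearMap n.primeCompl N) P]
  refine h (P.comap (algebraMap R (Localization.AtPrime n))) ?_ (Ideal.map_le_iff_le_comap.mp hP)
  intro x hx
  by_contra hxn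
  have h1 : IsUnit (algebraMap R (Localization.AtPrime n) x) :=
    IsLocalization.map_units (Localization.AtPrime n) (⟨x, hxn⟩ : n.primeCompl)
  exact (inferInstance : P.IsPrime).ne_top (Ideal.eq_top_of_isUnit_mem P hx h1)

end General

section AB

variable (A B : Type u) [CommRing A] [CommRing B] [Algebra A B] (n : Ideal B) [n.IsPrime]

/-- `A_p → B_n`. -/
noncomputable abbrev algApBn : Algebra (Localization.AtPrime (n.comap (algebraMap A B)))
    (Localization.AtPrime n) :=
  (Localization.localRingHom (n.comap (algebraMap A B)) n (algebraMap A B) rfl).toAlgebra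

theorem tower : letI := algApBn A B n
    IsScalarTower A (Localization.AtPrime (n.comap (algebraMap A B))) (Localization.AtPrime n) := by
  letI := algApBn A B n
  refine IsScalarTower.of_algebraMap_eq (R := A) (S := Localization.AtPrime (n.comap (algebraMap A B)))
      (A := Localization.AtPrime n) fun a => ?_
  refine Eq.trans ?_ (Localization.localRingHom_to_map _ n (algebraMap A B) rfl a).symm
  exact IsScalarTower.algebraMap_apply A B (Localization.AtPrime n) a

theorem isLocalHom : letI := algApBn A B n
    IsLocalHom (algebraMap (Localization.AtPrime (n.comap (algebraMap A B)))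
      (Localization.AtPrime n)) :=
  Localization.isLocalHom_localRingHom _ n (algebraMap A B) rfl

theorem mB_eq : letI := algApBn A B n
    EGA4.mB (Localization.AtPrime (n.comap (algebraMap A B))) (Localization.AtPrime n) =
      (n.comap (algebraMap A B)).map (algebraMap A (Localization.AtPrime n)) := by
  letI := algApBn A B n
  have := tower A B n
  unfold EGA4.mB
  rw [← Localization.AtPrime.map_eq_maximalIdeal, Ideal.map_map, ← IsScalarTower.algebraMap_eq]

variable (M : Type u) [AddCommGroup M] [Module B M]

/-- The fibre stalk as a localization of `M/pM`. -/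
noncomputable def fibLocEquiv (q : Ideal B) [q.IsPrime] (p : Ideal A)
    (hp : q.comap (algebraMap A B) = p) :
    EGA4.FibLocMod A B q M ≃ₗ[Localization.AtPrime q]
      LocalizedModule q.primeCompl (Q (p.map (algebraMap A B)) M) :=
  (Submodule.quotEquivOfEq _ _ (by
    subst hp
    rw [Ideal.map_map, ← IsScalarTower.algebraMap_eq])).trans
    (locQuotEquiv q (p.map (algebraMap A B)) M)

noncomputable def fibModEquiv : letI := algApBn A B n
    EGA4.FibMod (Localization.AtPrime (n.comap (algebraMap A B))) (Localization.AtPrime n)
      (LocalizedModule n.primeCompl M) ≃ₗ[Localization.AtPrime n]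
      LocalizedModule n.primeCompl (Q ((n.comap (algebraMap A B)).map (algebraMap A B)) M) :=
  letI := algApBn A B n
  (Submodule.quotEquivOfEq _ _ (by
    rw [mB_eq, Ideal.map_map, ← IsScalarTower.algebraMap_eq])).trans
    (locQuotEquiv n ((n.comap (algebraMap A B)).map (algebraMap A B)) M)

variable [IsNoetherianRing B]

theorem le_idealDepth_fibMod [Module.Finite B M] (J : Ideal B) (k : ℕ)
    (h : ∀ (q : PrimeSpectrum B), q.asIdeal ≤ n → J ≤ q.asIdeal →
      (k : ℕ∞) ≤ LocCoh.idealDepth (q.asIdeal.map (algebraMap B (EGA4.FibLocRing A B q.asIdeal)))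
        (EGA4.FibLocMod A B q.asIdeal M)) :
    letI := algApBn A B n
    (k : ℕ∞) ≤ LocCoh.idealDepth (J.map (algebraMap B (Localization.AtPrime n)))
      (EGA4.FibMod (Localization.AtPrime (n.comap (algebraMap A B))) (Localization.AtPrime n)
      (LocalizedModule n.primeCompl M)) := by
  letI := algApBn A B n
  rw [Groth.Agent.Localalg.Depth.idealDepth_congr_equiv _ (fibModEquiv A B n M)]
  refine le_idealDepth_localized _ n J k fun q _ hqn hJq => ?_
  by_cases hq : q.comap (algebraMap A B) = n.comap (algebraMap A B)
  · have h1 := h ⟨q, inferInstance⟩ hqn hJq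
    rw [FibKit.fib_depth_eq] at h1
    have h2 : LocCoh.depth (Localization.AtPrime q) (EGA4.FibLocMod A B q M) =
        LocCoh.depth (Localization.AtPrime q) (LocalizedModule q.primeCompl
          (Q ((n.comap (algebraMap A B)).map (algebraMap A B)) M)) :=
      Groth.Agent.Localalg.Depth.idealDepth_congr_equiv _ (fibLocEquiv A B M q _ hq)
    rw [← h2]
    exact h1
  · have h3 : ¬ (n.comap (algebraMap A B)) ≤ q.comap (algebraMap A B) := fun h4 =>
      hq (le_antisymm (Ideal.comap_mono hqn) h4)
    obtain ⟨a, han, haq⟩ := Set.not_subset.mp h3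
    rw [depth_localized_eq_top]
    · exact le_top
    · rw [Module.notMem_support_iff']
      intro m
      obtain ⟨m, rfl⟩ := Submodule.Quotient.mk_surjective _ m
      refine ⟨algebraMap A B a, haq, ?_⟩
      rw [← Submodule.Quotient.mk_smul, Submodule.Quotient.mk_eq_zero]
      exact Submodule.smul_mem_smul (Ideal.mem_map_of_mem _ han) Submodule.mem_top

end AB

end K967.LocN
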