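import Groth.Agent.QGor.K967.LocN
import Groth.Agent.S18708
import Groth.Agent.QGor.K966.SerreBasic

/-!
# Localizing a flat family at a prime `n` of the source: the criterion S18708 at `n`
-/

set_option autoImplicit false
set_option linter.style.haveILetI false
universe u

open TensorProduct IsLocalRing

namespace K967.LocN2

open K967.DepthKit K967.FibTor K967.LocN

section Flat

variable {A B R S : Type u} [CommRing A] [CommRing B] [CommRing R] [CommRing S] [Algebra A B]
  [Algebra A R] [Algebra B S] [Algebra R S] [Algebra A S] [IsScalarTower A B S]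
  [IsScalarTower A R S]

theorem flatAt_transfer (T : Submonoid A) [IsLocalization T R] (U : Submonoid B)
    [IsLocalization U S]
    (G : Type u) [AddCommGroup G] [Module B G] [Module A G] [IsScalarTower A B G]
    (G' : Type u) [AddCommGroup G'] [Module S G'] [Module R G'] [Module A G'] [Module B G']
    [IsScalarTower R S G'] [IsScalarTower B S G'] [IsScalarTower A R G'] [IsScalarTower A B G']
    [IsScalarTower A S G']
    (g : G →ₗ[B] G') [IsLocalizedModule U g] (Q : Ideal S) [Q.IsPrime] :
    FlatCA.FlatAt R Q G' ↔ FlatCA.FlatAt A (Q.comap (algebraMap B S)) G := by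
  have hl := Groth.Agent.Ega4B.LocTransfer.isLocalizedModule_comp g Q
    (Groth.Agent.Ega4B.LocTransfer.H0_of_isLocalization U Q) (fun m' ↦ by
      obtain ⟨⟨m, s⟩, h⟩ := IsLocalizedModule.surj U g m'
      exact ⟨s, Groth.Agent.Ega4B.LocTransfer.notMem_of_mem U Q s, m, h.symm⟩) (fun m hm ↦ by
      obtain ⟨c, hc⟩ := (IsLocalizedModule.eq_zero_iff U g).mp hm
      exact ⟨c, Groth.Agent.Ega4B.LocTransfer.notMem_of_mem U Q c, hc⟩)
      (LocalizedModule.mkLinearMap Q.primeCompl G')
  have e := IsLocalizedModule.iso (Q.comap (algebraMap B S)).primeCompl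
    (((LocalizedModule.mkLinearMap Q.primeCompl G').restrictScalars B).comp g)
  have htow : IsScalarTower A B (LocalizedModule Q.primeCompl G') := inferInstance
  have htow2 : IsScalarTower A R (LocalizedModule Q.primeCompl G') := inferInstance
  unfold FlatCA.FlatAt
  rw [Module.flat_iff_of_isLocalization R T]
  exact ⟨fun h => Module.Flat.of_linearEquiv (e.restrictScalars A),
    fun h => Module.Flat.of_linearEquiv (e.symm.restrictScalars A)⟩

end Flat

section Key

variable (A B : Type u) [CommRing A] [CommRing B]
    [IsNoetherianRing A] [IsNoetherianRing B] [Algebra A B] (J : Ideal B)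
    (F E0 E1 G : Type u) [AddCommGroup F] [Module B F] [Module A F] [IsScalarTower A B F]
    [Module.Finite B F]
    [AddCommGroup E0] [Module B E0] [Module A E0] [IsScalarTower A B E0] [Module.Finite B E0]
    [AddCommGroup E1] [Module B E1] [Module A E1] [IsScalarTower A B E1] [Module.Finite B E1]
    [AddCommGroup G] [Module B G] [Module A G] [IsScalarTower A B G] [Module.Finite B G]
    (f : F →ₗ[B] E0) (u : E0 →ₗ[B] E1) (v : E1 →ₗ[B] G)
    (hf : Function.Injective f) (hfu : Function.Exact f u) (huv : Function.Exact u v)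
    (hv : Function.Surjective v)

include hf hfu huv hv

theorem key (n : Ideal B) [n.IsPrime]
    (hE0 : FlatCA.FlatAt A n E0) (hE1 : FlatCA.FlatAt A n E1)
    (hGU : ∀ q : PrimeSpectrum B, q.asIdeal ≤ n → ¬ J ≤ q.asIdeal → FlatCA.FlatAt A q.asIdeal G)
    (h0 : ∀ q : PrimeSpectrum B, q.asIdeal ≤ n → J ≤ q.asIdeal →
      2 ≤ LocCoh.idealDepth (q.asIdeal.map (algebraMap B (EGA4.FibLocRing A B q.asIdeal)))
        (EGA4.FibLocMod A B q.asIdeal E0))
    (h1 : ∀ q : PrimeSpectrum B, q.asIdeal ≤ n → J ≤ q.asIdeal →
      1 ≤ LocCoh.idealDepth (q.asIdeal.map (algebraMap B (EGA4.FibLocRing A B q.asIdeal)))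
        (EGA4.FibLocMod A B q.asIdeal E1)) :
    ((∀ q : PrimeSpectrum B, q.asIdeal ≤ n → J ≤ q.asIdeal →
      2 ≤ LocCoh.idealDepth (q.asIdeal.map (algebraMap B (EGA4.FibLocRing A B q.asIdeal)))
        (EGA4.FibLocMod A B q.asIdeal F)) → FlatCA.FlatAt A n G) ∧
    (FlatCA.FlatAt A n G → FlatCA.FlatAt A n F ∧ (J ≤ n →
      2 ≤ LocCoh.idealDepth (n.map (algebraMap B (EGA4.FibLocRing A B n)))
        (EGA4.FibLocMod A B n F))) := by
  letI := algApBn A B n
  have htow := tower A B n
  have hloc := isLocalHom A B n
  set Ap := Localization.AtPrime (n.comap (algebraMap A B))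
  set Bn := Localization.AtPrime n
  have : IsNoetherianRing Ap :=
    IsLocalization.isNoetherianRing (n.comap (algebraMap A B)).primeCompl _ inferInstance
  have : IsNoetherianRing Bn :=
    IsLocalization.isNoetherianRing n.primeCompl _ inferInstance
  letI mF : Module Ap (LocalizedModule n.primeCompl F) := Module.compHom _ (algebraMap Ap Bn)
  letI mE0 : Module Ap (LocalizedModule n.primeCompl E0) := Module.compHom _ (algebraMap Ap Bn)
  letI mE1 : Module Ap (LocalizedModule n.primeCompl E1) := Module.compHom _ (algebraMap Ap Bn)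
  letI mG : Module Ap (LocalizedModule n.primeCompl G) := Module.compHom _ (algebraMap Ap Bn)
  have tF : IsScalarTower Ap Bn (LocalizedModule n.primeCompl F) :=
    IsScalarTower.of_algebraMap_smul fun r x => rfl
  have tE0 : IsScalarTower Ap Bn (LocalizedModule n.primeCompl E0) :=
    IsScalarTower.of_algebraMap_smul fun r x => rfl
  have tE1 : IsScalarTower Ap Bn (LocalizedModule n.primeCompl E1) :=
    IsScalarTower.of_algebraMap_smul fun r x => rfl
  have tG : IsScalarTower Ap Bn (LocalizedModule n.primeCompl G) :=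
    IsScalarTower.of_algebraMap_smul fun r x => rfl
  have sF : IsScalarTower A Ap (LocalizedModule n.primeCompl F) :=
    IsScalarTower.to₁₂₄ A Ap Bn _
  have sE0 : IsScalarTower A Ap (LocalizedModule n.primeCompl E0) :=
    IsScalarTower.to₁₂₄ A Ap Bn _
  have sE1 : IsScalarTower A Ap (LocalizedModule n.primeCompl E1) :=
    IsScalarTower.to₁₂₄ A Ap Bn _
  have sG : IsScalarTower A Ap (LocalizedModule n.primeCompl G) :=
    IsScalarTower.to₁₂₄ A Ap Bn _
  have fE0 : Module.Flat Ap (LocalizedModule n.primeCompl E0) :=
    (Module.flat_iff_of_isLocalization Ap (n.comap (algebraMap A B)).primeCompl _).mpr hE0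
  have fE1 : Module.Flat Ap (LocalizedModule n.primeCompl E1) :=
    (Module.flat_iff_of_isLocalization Ap (n.comap (algebraMap A B)).primeCompl _).mpr hE1
  refine (fun key => ?_) (Groth.Agent.S18708.result Ap Bn (J.map (algebraMap B Bn))
    (LocalizedModule n.primeCompl F) (LocalizedModule n.primeCompl E0)
    (LocalizedModule n.primeCompl E1) (LocalizedModule n.primeCompl G)
    (LocalizedModule.map n.primeCompl f) (LocalizedModule.map n.primeCompl u)
    (LocalizedModule.map n.primeCompl v)
    (LocalizedModule.map_injective n.primeCompl f hf)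
    (K966.SerreBasic.exact_localized n.primeCompl f u hfu)
    (K966.SerreBasic.exact_localized n.primeCompl u v huv)
    (LocalizedModule.map_surjective n.primeCompl v hv)
    (fun Q hQ => ?_) ?_ ?_)
  · obtain ⟨h3, -, h4⟩ := key
    refine ⟨fun h => ?_, fun h => ?_⟩
    · have h5 := h3.mp (by
        have := le_idealDepth_fibMod A B n F J 2 (by exact_mod_cast h)
        exact_mod_cast this)
      exact (Module.flat_iff_of_isLocalization Ap (n.comap (algebraMap A B)).primeCompl _).mp h5
    · have hG : Module.Flat Ap (LocalizedModule n.primeCompl G) :=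
        (Module.flat_iff_of_isLocalization Ap (n.comap (algebraMap A B)).primeCompl _).mpr h
      refine ⟨(Module.flat_iff_of_isLocalization Ap (n.comap (algebraMap A B)).primeCompl _).mp
        (h4 hG), fun hJn => ?_⟩
      have h5 := h3.mpr hG
      rw [Groth.Agent.Localalg.Depth.idealDepth_congr_equiv _ (fibModEquiv A B n F),
        ← Groth.Agent.Localalg.Depth.idealDepth_congr_equiv _ (fibLocEquiv A B F n _ rfl)] at h5
      rw [FibKit.fib_depth_eq]
      refine h5.trans ?_
      refine Groth.Agent.Localalg.Depth.idealDepth_mono ?_ _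
      rw [← Localization.AtPrime.map_eq_maximalIdeal]
      exact Ideal.map_mono hJn
  · have hle : Q.asIdeal.comap (algebraMap B Bn) ≤ n := by
      intro x hx
      by_contra hxn
      have h1 : IsUnit (algebraMap B Bn x) :=
        IsLocalization.map_units Bn (⟨x, hxn⟩ : n.primeCompl)
      exact Q.2.ne_top (Ideal.eq_top_of_isUnit_mem _ hx h1)
    rw [flatAt_transfer (A := A) (B := B) (n.comap (algebraMap A B)).primeCompl n.primeCompl G
      (LocalizedModule n.primeCompl G) (LocalizedModule.mkLinearMap n.primeCompl G) Q.asIdeal]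
    exact hGU ⟨Q.asIdeal.comap (algebraMap B Bn), inferInstance⟩ hle
      (fun h => hQ (Ideal.map_le_iff_le_comap.mpr h))
  · have := le_idealDepth_fibMod A B n E0 J 2 (by exact_mod_cast h0)
    exact_mod_cast this
  · have := le_idealDepth_fibMod A B n E1 J 1 (by exact_mod_cast h1)
    exact_mod_cast this

end Key

end K967.LocN2
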