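import Groth.Agent.QGor.K967.OmegaBasic
import Groth.Agent.QGor.K968.Compare4
import Groth.Agent.QGor.K970.BCHyp
import Groth.Agent.Localalg.TopNonvan
import Groth.Agent.Localalg.LichtAsm
import Groth.Agent.Fga.IntegralSub
import Groth.Agent.Ega1.SuppTensorMod
import Groth.Agent.FormalB.PullCoh
import Groth.Agent.CInt.K139.FibDepth

/-!
# The support of the relative dualizing sheaf

For `f : Y → Spec A` proper and flat of pure relative dimension `d` with `A` Noetherian, the support of
the `d`-dualizing sheaf is `Y`.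
-/

set_option autoImplicit false
universe u
open CategoryTheory CategoryTheory.Limits AlgebraicGeometry TopologicalSpace

namespace K967.OmegaSupp

open Groth.Agent

/-- A proper specialization inside a fibre. -/
theorem one_le_dim {X S : Scheme.{u}} (f : X ⟶ S) {x ξ : X} (h : ξ ⤳ x) (hne : ξ ≠ x)
    (hf : f ξ = f x) :
    (1 : WithBot ℕ∞) ≤ ringKrullDim ((f.fiber (f x)).presheaf.stalk (f.asFiber x)) := by
  let z : f.fiber (f x) := (f.fiberHomeo (f x)).symm ⟨ξ, hf⟩
  have hz : f.fiberι (f x) z = ξ := f.fiberι_fiberHomeo_symm (f x) _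
  have h1 : z ⤳ f.asFiber x := by
    rw [← (f.fiberι (f x)).isEmbedding.isInducing.specializes_iff, hz, f.fiberι_asFiber]
    exact h
  have h2 : f.asFiber x < z := by
    refine lt_of_le_not_ge h1 fun h3 => hne ?_
    have h4 : z = f.asFiber x := (h1.antisymm h3).eq
    rw [← hz, h4, f.fiberι_asFiber]
  rw [ringKrullDim_stalk_eq_coheight]
  have h3 := Order.coheight_add_one_le h2
  have h4 : (1 : ℕ∞) ≤ Order.coheight (f.asFiber x) := le_trans (by simp) h3
  exact_mod_cast h4

section Field

variable {k : Type u} [Field k] (X : Scheme.{u}) [X.Over (Spec (CommRingCat.of k))]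
  [IsProper (X ↘ Spec (CommRingCat.of k))] (d : ℕ)
  (hd : ∀ s : Spec (CommRingCat.of k),
    topologicalKrullDim ↥((X ↘ Spec (CommRingCat.of k)).fiber s) ≤ d)
  (ω : X.Modules) (hω : RelCanon.IsDualizingSheaf k X d ω)

include hd hω

/-- Over a field `ω` is nonzero at the generic points of the components of dimension `d`. -/
theorem nontrivial_stalk_field (ξ : X) (hξ : topologicalKrullDim ↥(closure ({ξ} : Set X)) = d) :
    Nontrivial (ω.presheaf.stalk ξ) := by
  let f := X ↘ Spec (CommRingCat.of k)
  have hlN : IsLocallyNoetherian X := LocallyOfFiniteType.isLocallyNoetherian f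
  have hcX : CompactSpace X := QuasiCompact.compactSpace_of_compactSpace f
  have hN : IsNoetherian X := {}
  obtain ⟨Z, i, _, _, hgen, hrange⟩ := Fga.IntegralSub.exists_integral_closed ξ
  have hdimZ : topologicalKrullDim Z = d := by
    rw [← hξ, ← hrange]
    exact i.isClosedEmbedding.isEmbedding.toHomeomorph.isHomeomorph.topologicalKrullDim_eq _
  obtain ⟨F, hF, hnt⟩ := Localalg.TopNonvan.exists_nontrivial d k Z (i ≫ f) hdimZ
  let G := (Coh.push i).obj F
  have hG : Coh.IsCoh G :=
    ⟨CohqA.AffPush.isQCoh_push i F hF.1, CohqA.AffPush.isFT_push i F hF.1 hF.2⟩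
  obtain ⟨e⟩ := Localalg.LichtAsm.nonempty_HH_push i F d
  have hntG : Nontrivial (Coh.HH X G d) := e.toEquiv.nontrivial_congr.2 hnt
  clear e
  have hc := OmegaBasic.isCoh k X d ω hω hd
  obtain ⟨tr, hq, hω⟩ := hω
  by_contra hsub
  rw [not_nontrivial_iff_subsingleton] at hsub
  have key : ∀ φ : G ⟶ ω, φ = 0 := by
    intro φ
    let N := Abelian.image φ
    have hN : Coh.IsCoh N := Sga67.CohBasic.isCoh_image φ hG hq
    have hs : ∀ x ∈ CohB1.support N, ξ ⤳ x ∧ ξ ≠ x := by
      intro x hx
      refine ⟨?_, ?_⟩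
      · have h1 : x ∈ CohB1.support G :=
          CohqB.DevSupport.support_subset_of_epi (Abelian.factorThruImage φ) hx
        have h2 := FormalA.ClosedImm.support_pushforward_subset i F h1
        rw [hrange] at h2
        exact specializes_iff_mem_closure.2 h2
      · rintro rfl
        exact CohqB.DevSupport.support_subset_of_mono (Abelian.image.ι φ) hx hsub
    have h0 : Abelian.image.ι φ = 0 := by
      apply (hω N hN.1).1
      apply LinearMap.ext
      intro x
      have hsubN : Subsingleton (Coh.HH X N d) := by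
        rcases d with _ | e
        ·
          have h1 : CohB1.support N = ∅ := by
            by_contra hne
            obtain ⟨x, hx⟩ := Set.nonempty_iff_ne_empty.2 hne
            obtain ⟨h1, h2⟩ := hs x hx
            have h3 := (one_le_dim f h1 h2 (Subsingleton.elim _ _)).trans
              ((CurvesB.DimPts.ringKrullDim_stalk_le _).trans (hd (f x)))
            exact absurd h3 (by norm_num)
          exact Sheaf.subsingleton_H_of_isZero
            (Functor.map_isZero (CohqB.DevSupport.toAbF X)
              (CohqB.DevSupport.isZero_of_support_eq_empty h1)) 0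
        · refine SuppVan.subsingleton_HH f e 1 hd N hN.1 (fun x hx => ?_) (e + 1) (by omega)
          obtain ⟨h1, h2⟩ := hs x hx
          exact_mod_cast one_le_dim f h1 h2 (Subsingleton.elim _ _)
      rw [Subsingleton.elim x 0, map_zero, map_zero]
    rw [← Abelian.image.fac φ, h0, comp_zero]
  obtain ⟨v, hv⟩ := exists_ne (0 : Coh.HH X G d)
  apply hv
  rw [← Module.forall_dual_apply_eq_zero_iff k v]
  intro ℓ
  obtain ⟨φ, hφ⟩ := (hω G hG.1).2 ℓ
  rw [← hφ, key φ]
  change tr (Groth.Agent.FormalB.HHLin.hm (0 : G ⟶ ω) d v) = 0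
  rw [Groth.Agent.FormalB.HHLin.hm_zero, map_zero]

end Field

/-- A flat morphism is Cohen–Macaulay at the generic points of its fibres. -/
theorem isCMAt_of_dim_zero {X Y : Scheme.{u}} (f : X ⟶ Y) [Flat f] [LocallyOfFiniteType f] (x : X)
    (h : ringKrullDim ((f.fiber (f x)).presheaf.stalk (f.asFiber x)) ≤ 0) : MoreMor.IsCMAt f x := by
  have hft' : LocallyOfFiniteType (f.fiberToSpecResidueField (f x)) :=
    MorphismProperty.pullback_snd _ _ inferInstance
  have hN : IsLocallyNoetherian (f.fiber (f x)) :=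
    LocallyOfFiniteType.isLocallyNoetherian (f.fiberToSpecResidueField (f x))
  refine ⟨AlgebraicGeometry.Flat.stalkMap f x, ?_⟩
  let R0 := (f.fiber (f x)).presheaf.stalk (f.asFiber x)
  have hR0 : IsNoetherianRing R0 := inferInstance
  have h1 : ((LocCoh.depth R0 R0 : ℕ∞) : WithBot ℕ∞) ≤ 0 := (K139.FibDepth.depth_le_dim R0).trans h
  have h2 : LocCoh.depth R0 R0 = 0 := by
    have h3 : LocCoh.depth R0 R0 ≤ 0 := by exact_mod_cast h1
    exact le_antisymm h3 bot_le
  exact { supportDim_eq_depth := by
            rw [Module.supportDim_self_eq_ringKrullDim, h2]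
            exact le_antisymm h ringKrullDim_nonneg_of_nontrivial }

section Main

variable (A : Type u) [CommRing A] [IsNoetherianRing A] (Y : Scheme.{u})
  [Y.Over (Spec (CommRingCat.of A))] [IsProper (Y ↘ Spec (CommRingCat.of A))] (d : ℕ)
  [Flat (Y ↘ Spec (CommRingCat.of A))]
  (hd : Cyc.HasRelDim (Y ↘ Spec (CommRingCat.of A)) d)
  (ω : Y.Modules) (hω : RelCanon.IsDualizingSheaf A Y d ω)

include hd hω

/-- The dualizing sheaf has full support. -/
theorem nontrivial_stalk (x : Y) : Nontrivial (ω.presheaf.stalk x) := by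
  have hNA : IsNoetherianRing (CommRingCat.of A) := inferInstanceAs (IsNoetherianRing A)
  have hlN : IsLocallyNoetherian Y :=
    LocallyOfFiniteType.isLocallyNoetherian (Y ↘ Spec (CommRingCat.of A))
  have hc := OmegaBasic.isCoh A Y d ω hω (ReflUnit.dim_fiber_le hd)
  let f := Y ↘ Spec (CommRingCat.of A)
  let t := f x
  let κ : Type u := (Spec (CommRingCat.of A)).residueField t
  let _ : (f.fiber t).Over (Spec (CommRingCat.of κ)) := ⟨f.fiberToSpecResidueField t⟩
  have hp : IsPullback (f.fiberι t) ((f.fiber t) ↘ Spec (CommRingCat.of κ)) f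
      ((Spec (CommRingCat.of A)).fromSpecResidueField t) := IsPullback.of_hasPullback _ _
  have hpr : IsProper ((f.fiber t) ↘ Spec (CommRingCat.of κ)) :=
    MorphismProperty.of_isPullback hp inferInstance
  have hd' := K970.BCHyp.hasRelDim_of_isPullback hp hd
  obtain ⟨ω', hω'⟩ := OmegaBasic.exists_isDualizingSheaf κ (f.fiber t) d (ReflUnit.dim_fiber_le hd')
  -- a generic point of the fibre
  let T : Set (f.fiber t) := irreducibleComponent (f.asFiber x)
  have hT : T ∈ irreducibleComponents (f.fiber t) := irreducibleComponent_mem_irreducibleComponents _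
  obtain ⟨ζ, hζ⟩ := QuasiSober.sober (isIrreducible_irreducibleComponent (x := f.asFiber x))
    isClosed_irreducibleComponent
  have hζx : ζ ⤳ f.asFiber x := specializes_iff_mem_closure.2 (by
    rw [hζ.def]; exact mem_irreducibleComponent)
  have h1 : Nontrivial (ω'.presheaf.stalk ζ) :=
    nontrivial_stalk_field (f.fiber t) d (ReflUnit.dim_fiber_le hd') ω' hω' ζ (by
      rw [hζ.def]; exact hd t T hT)
  let ξ := f.fiberι t ζ
  have hξt : f ξ = t := (f.fiberHomeo t ζ).2
  have hdim : ringKrullDim ((f.fiber (f ξ)).presheaf.stalk (f.asFiber ξ)) ≤ 0 := by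
    rw [← SuppVan.ringKrullDim_eq f t ξ hξt ζ rfl, ringKrullDim_stalk_eq_coheight]
    have hmax : IsMax ζ := by
      intro y hy
      have hy' : y ⤳ ζ := hy
      have hcl : closure ({ζ} : Set (f.fiber t)) = T := hζ.def
      have hle : T ⊆ closure ({y} : Set (f.fiber t)) := hcl ▸ hy'.closure_subset
      have h2 : closure ({y} : Set (f.fiber t)) ⊆ T := hT.2 isIrreducible_singleton.closure hle
      have h3 : ζ ⤳ y := specializes_iff_mem_closure.2 (by
        rw [hcl]; exact h2 (subset_closure rfl))
      exact h3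
    rw [Order.coheight_eq_zero.2 hmax]
    rfl
  have hCM : MoreMor.IsCMAt f ξ := isCMAt_of_dim_zero f ξ hdim
  let V : Y.Opens := ⟨{x : Y | MoreMor.IsCMAt f x}, S4961.result f⟩
  obtain ⟨e⟩ := K968.Compare4.nonempty_restrict_iso A hd hω κ hp hω' (j := V.ι)
    (j' := ((f.fiberι t) ⁻¹ᵁ V).ι) (pV := (f.fiberι t) ∣_ V) (isPullback_morphismRestrict _ V)
    (fun x => x.2)
  let e' := e ≪≫ (FormalB.PullCoh.restrictPullbackIso (f.fiberι t) V).app ω
  let ζ' : ((f.fiberι t) ⁻¹ᵁ V : (f.fiber t).Opens) := ⟨ζ, hCM⟩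
  have h2 := (Dual.H375.OneDeg.nontrivial_stalk_restrict ((f.fiberι t) ⁻¹ᵁ V).ι ω' ζ').2 h1
  rw [Dual.H375.OneDeg.nontrivial_stalk_congr e' ζ'] at h2
  have h3 := (Dual.H375.OneDeg.nontrivial_stalk_restrict ((f.fiberι t) ⁻¹ᵁ V).ι
    ((Scheme.Modules.pullback (f.fiberι t)).obj ω) ζ').1 h2
  have h4 : ξ ∈ CohB1.support ω :=
    (Ega1.SuppTensorMod.mem_support_pullback (f.fiberι t) ω hc.2 ζ).1
      (not_subsingleton_iff_nontrivial.2 h3)
  have h5 : ξ ⤳ x := by
    have := hζx.map (f.fiberι t).continuous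
    rwa [f.fiberι_asFiber] at this
  have h6 : x ∈ CohB1.support ω :=
    (FormalA.Support.isClosed_support ω hc.2).closure_subset_iff.2 (Set.singleton_subset_iff.2 h4)
      (specializes_iff_mem_closure.1 h5)
  exact not_subsingleton_iff_nontrivial.1 h6

end Main

end K967.OmegaSupp
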