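import Groth.Agent.QGor.K967.FibMap
import Groth.Agent.QGor.K968.LocKey3
import Groth.Agent.Dcoh.ClosedProj

/-!
# The `k`-th power on stalks and the local key lemma on a scheme

* `exists_spec_eq`, `exists_smul_eq`, `exists_gen_spec`: stalks at a generization as localizations;
* `pw`: the `k`-th power `F_x → (F^{⊗ k})_x`;
* `exists_pow_fun`: the function `q : F_y → O_y` induced by `F^{⊗ k}|U ≅ G|U` and `G_y ≅ O_y`;
* `exists_theta`: the map `θ : F_{i z} → O_{i z} / m` induced by `(i^*F)|U ≅ G|U` and `G_z ≅ O_z`;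
* `nonempty_equiv_of_pow`.
-/

set_option autoImplicit false
set_option linter.style.haveILetI false
universe u

open AlgebraicGeometry CategoryTheory Limits IsLocalRing TopologicalSpace RefHull TensorProduct

namespace K967.PowFun

open Groth.Agent Groth.Agent.CycB.LocQuot K66.StalkOff K66.FlatOff K66.Core K66.SkFull K970.RelSk1
  Groth.Agent.Flat2D.FiberStalk Groth.Agent.Fdesc.PullbackStalk Groth.Agent.Fdesc.AssFlat
  Groth.Agent.Fdesc.LocGen

section Spec

variable {X : Scheme.{u}} {x ξ : X} (h : ξ ⤳ x)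

theorem isUnit_spec_iff (r : X.presheaf.stalk x) :
    IsUnit ((X.presheaf.stalkSpecializes h).hom r) ↔ r ∉ (primeOf h).asIdeal := by
  obtain ⟨σ, -, hσ, -⟩ := exists_loc_equiv (Coh.structureModule X)
    (Fdesc.StructMod.isCoh_structureModule X).1 h
  rw [← hσ, MulEquiv.isUnit_map, IsLocalization.AtPrime.isUnit_to_map_iff
    (Localization.AtPrime (primeOf h).asIdeal) (primeOf h).asIdeal]
  rfl

theorem exists_spec_mul_eq (c : X.presheaf.stalk ξ) :
    ∃ b s : X.presheaf.stalk x, s ∉ (primeOf h).asIdeal ∧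
      (X.presheaf.stalkSpecializes h).hom s * c = (X.presheaf.stalkSpecializes h).hom b := by
  obtain ⟨σ, -, hσ, -⟩ := exists_loc_equiv (Coh.structureModule X)
    (Fdesc.StructMod.isCoh_structureModule X).1 h
  obtain ⟨⟨b, s⟩, hb⟩ := IsLocalization.surj (primeOf h).asIdeal.primeCompl (σ.symm c)
  refine ⟨b, s, s.2, ?_⟩
  have h1 := congrArg σ hb
  rw [map_mul, σ.apply_symm_apply, hσ, hσ] at h1
  rw [mul_comm]
  exact h1

variable {F : X.Modules} (hF : Coh.IsQCoh F)

theorem spec_smul (r : X.presheaf.stalk x) (m : F.presheaf.stalk x) :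
    F.presheaf.stalkSpecializes h (r • m) =
      (X.presheaf.stalkSpecializes h).hom r • F.presheaf.stalkSpecializes h m := by
  letI := CycB.StalkLoc.specMod F h
  exact (CycB.StalkLoc.specLin F h).map_smul r m

include hF in
theorem exists_spec_eq (v : F.presheaf.stalk ξ) :
    ∃ (m : F.presheaf.stalk x) (s : X.presheaf.stalk x), s ∉ (primeOf h).asIdeal ∧
      F.presheaf.stalkSpecializes h m = (X.presheaf.stalkSpecializes h).hom s • v := by
  obtain ⟨σ, e, hσ, he, hs⟩ := exists_loc_equiv F hF h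
  obtain ⟨⟨m, s⟩, hm⟩ := IsLocalizedModule.surj (primeOf h).asIdeal.primeCompl
    (LocalizedModule.mkLinearMap (primeOf h).asIdeal.primeCompl (F.presheaf.stalk x)) (e.symm v)
  refine ⟨m, s, s.2, ?_⟩
  have hm' : algebraMap (X.presheaf.stalk x) (Localization.AtPrime (primeOf h).asIdeal)
      (s : X.presheaf.stalk x) • e.symm v =
      LocalizedModule.mkLinearMap (primeOf h).asIdeal.primeCompl (F.presheaf.stalk x) m := by
    rw [algebraMap_smul]; exact hm
  rw [← he, ← hm', hs, hσ, e.apply_symm_apply]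

include hF in
theorem exists_smul_eq {m m' : F.presheaf.stalk x}
    (hm : F.presheaf.stalkSpecializes h m = F.presheaf.stalkSpecializes h m') :
    ∃ t : X.presheaf.stalk x, t ∉ (primeOf h).asIdeal ∧ t • m = t • m' := by
  obtain ⟨σ, e, hσ, he, hs⟩ := exists_loc_equiv F hF h
  rw [← he, ← he] at hm
  obtain ⟨t, ht⟩ := (IsLocalizedModule.eq_iff_exists (primeOf h).asIdeal.primeCompl
    (LocalizedModule.mkLinearMap (primeOf h).asIdeal.primeCompl (F.presheaf.stalk x))).mp
      (e.injective hm)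
  exact ⟨t, t.2, ht⟩

end Spec

section Gen

/-- `m` is a free generator of `M`. -/
def Gen {R M : Type*} [CommRing R] [AddCommGroup M] [Module R M] (m : M) : Prop :=
  Function.Bijective fun b : R => b • m

theorem gen_smul {R M : Type*} [CommRing R] [AddCommGroup M] [Module R M] {m : M}
    (hm : Gen (R := R) m) {c : R} (hc : IsUnit c) : Gen (R := R) (c • m) := by
  have h1 : (fun b : R => b • c • m) = (fun b : R => b • m) ∘ (fun b => b * c) := by
    funext b
    simp [mul_smul]
  have h2 : Function.Bijective (fun b : R => b * c) := by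
    obtain ⟨u, rfl⟩ := hc
    exact Units.mulRight_bijective u
  unfold Gen
  rw [h1]
  exact Function.Bijective.comp hm h2

theorem gen_map {R M N : Type*} [CommRing R] [AddCommGroup M] [Module R M] [AddCommGroup N]
    [Module R N] {m : M} (hm : Gen (R := R) m) (φ : M →ₗ[R] N) (hφ : Function.Bijective φ) :
    Gen (R := R) (φ m) := by
  have h1 : (fun b : R => b • φ m) = φ ∘ (fun b : R => b • m) := by
    funext b
    simp
  unfold Gen
  rw [h1]
  exact hφ.comp hm

theorem gen_one {R : Type*} [CommRing R] : Gen (R := R) (1 : R) := by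
  have h1 : (fun b : R => b • (1 : R)) = id := by funext b; simp
  unfold Gen
  rw [h1]
  exact Function.bijective_id

theorem gen_tmul {R M N : Type*} [CommRing R] [AddCommGroup M] [Module R M] [AddCommGroup N]
    [Module R N] {m : M} {n : N} (hm : Gen (R := R) m) (hn : Gen (R := R) n) :
    Gen (R := R) (m ⊗ₜ[R] n) := by
  let e1 : R ≃ₗ[R] M := LinearEquiv.ofBijective (LinearMap.toSpanSingleton R M m) hm
  let e2 : R ≃ₗ[R] N := LinearEquiv.ofBijective (LinearMap.toSpanSingleton R N n) hn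
  let e : R ≃ₗ[R] M ⊗[R] N := (TensorProduct.lid R R).symm ≪≫ₗ TensorProduct.congr e1 e2
  have h1 : e 1 = m ⊗ₜ n := by
    change TensorProduct.congr e1 e2 ((1 : R) ⊗ₜ (1 : R)) = _
    rw [TensorProduct.congr_tmul]
    change ((1 : R) • m) ⊗ₜ ((1 : R) • n) = _
    rw [one_smul, one_smul]
  rw [← h1]
  exact gen_map gen_one e.toLinearMap e.bijective

/-- A free generator is not a multiple of another element by a non-unit. -/
theorem isUnit_of_gen {R M : Type*} [CommRing R] [AddCommGroup M] [Module R M] {m v : M} {c : R}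
    (hm : Gen (R := R) m) (h : m = c • v) : IsUnit c := by
  obtain ⟨b, hb⟩ := hm.2 v
  have h1 : (c * b) • m = (1 : R) • m := by
    rw [mul_smul, one_smul]
    change c • (fun b : R => b • m) b = m
    rw [hb, ← h]
  exact IsUnit.of_mul_eq_one b (hm.1 h1)

end Gen

section Pow

variable {X : Scheme.{u}}

/-- Pure tensors and specialization. -/
theorem spec_tmul (M N : X.Modules) {x ξ : X} (h : ξ ⤳ x) (m : M.presheaf.stalk x)
    (n : N.presheaf.stalk x) :
    (CohB1.tensorMod M N).presheaf.stalkSpecializes h ((tensorModStalk M N x).symm (m ⊗ₜ n)) =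
      (tensorModStalk M N ξ).symm
        (M.presheaf.stalkSpecializes h m ⊗ₜ N.presheaf.stalkSpecializes h n) := by
  obtain ⟨V, hV, m, rfl⟩ := TopCat.Presheaf.exists_germ_eq M.presheaf m
  obtain ⟨W, hW, n, rfl⟩ := TopCat.Presheaf.exists_germ_eq N.presheaf n
  have hVW : x ∈ V ⊓ W := ⟨hV, hW⟩
  have hm := (TopCat.Presheaf.germ_res_apply M.presheaf (homOfLE (inf_le_left : V ⊓ W ≤ V)) x hVW m).symm
  have hn := (TopCat.Presheaf.germ_res_apply N.presheaf (homOfLE (inf_le_right : V ⊓ W ≤ W)) x hVW n).symm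
  rw [hm, hn, ← Dcoh.ClosedProj.tensorModStalk_germ, LinearEquiv.symm_apply_apply,
    CycB.StalkLoc.germ_stalkSpecializes, CycB.StalkLoc.germ_stalkSpecializes,
    CycB.StalkLoc.germ_stalkSpecializes, ← Dcoh.ClosedProj.tensorModStalk_germ,
    LinearEquiv.symm_apply_apply]

/-- The `k`-th power on stalks. -/
noncomputable def pw (F : X.Modules) (x : X) :
    (k : ℕ) → F.presheaf.stalk x → (CohB1.tensorPow F k).presheaf.stalk x
  | 0, _ => Fdesc.StructMod.stalkEquiv x 1
  | k + 1, m => (tensorModStalk (CohB1.tensorPow F k) F x).symm (pw F x k m ⊗ₜ m)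

theorem pw_smul (F : X.Modules) (x : X) (k : ℕ) (b : X.presheaf.stalk x) (m : F.presheaf.stalk x) :
    pw F x k (b • m) = b ^ k • pw F x k m := by
  induction k with
  | zero => rw [pow_zero, one_smul]; rfl
  | succ k ih =>
    change (tensorModStalk (CohB1.tensorPow F k) F x).symm (pw F x k (b • m) ⊗ₜ (b • m)) =
      b ^ (k + 1) • (tensorModStalk (CohB1.tensorPow F k) F x).symm (pw F x k m ⊗ₜ m)
    rw [ih, TensorProduct.smul_tmul_smul, map_smul, pow_succ]

theorem pw_spec (F : X.Modules) {x ξ : X} (h : ξ ⤳ x) (k : ℕ) (m : F.presheaf.stalk x) :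
    (CohB1.tensorPow F k).presheaf.stalkSpecializes h (pw F x k m) =
      pw F ξ k (F.presheaf.stalkSpecializes h m) := by
  induction k with
  | zero =>
    change (Coh.structureModule X).presheaf.stalkSpecializes h (Fdesc.StructMod.stalkEquiv x 1) =
      Fdesc.StructMod.stalkEquiv ξ 1
    have h1 : (1 : X.presheaf.stalk x) = X.presheaf.germ ⊤ x trivial 1 := (map_one _).symm
    have h2 : (1 : X.presheaf.stalk ξ) = X.presheaf.germ ⊤ ξ trivial 1 := (map_one _).symm
    rw [h1, h2, Fdesc.StructMod.stalkEquiv_germ, Fdesc.StructMod.stalkEquiv_germ]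
    exact CycB.StalkLoc.germ_stalkSpecializes _ h ⊤ trivial _
  | succ k ih =>
    change (CohB1.tensorMod (CohB1.tensorPow F k) F).presheaf.stalkSpecializes h
      ((tensorModStalk (CohB1.tensorPow F k) F x).symm (pw F x k m ⊗ₜ m)) = _
    rw [spec_tmul, ih]
    rfl

theorem gen_pw (F : X.Modules) (x : X) (k : ℕ) {m : F.presheaf.stalk x}
    (hm : Gen (R := X.presheaf.stalk x) m) : Gen (R := X.presheaf.stalk x) (pw F x k m) := by
  induction k with
  | zero =>
    exact gen_map gen_one (Fdesc.StructMod.stalkEquiv x).toLinearMap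
      (Fdesc.StructMod.stalkEquiv x).bijective
  | succ k ih =>
    exact gen_map (gen_tmul ih hm) (tensorModStalk (CohB1.tensorPow F k) F x).symm.toLinearMap
      (tensorModStalk (CohB1.tensorPow F k) F x).symm.bijective

/-- A generator at a generization coming from the stalk. -/
theorem exists_gen_spec {F : X.Modules} (hF : Coh.IsQCoh F) {x ξ : X} (h : ξ ⤳ x)
    (hξ : RelCanon.InvertibleAt F ξ) :
    ∃ m : F.presheaf.stalk x, Gen (R := X.presheaf.stalk ξ) (F.presheaf.stalkSpecializes h m) := by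
  obtain ⟨g⟩ := K970.InvAt.nonempty_stalk_equiv ξ hξ
  obtain ⟨m, s, hs, hm⟩ := exists_spec_eq h hF (g 1)
  refine ⟨m, ?_⟩
  rw [hm]
  exact gen_smul (gen_map gen_one g.toLinearMap g.bijective) ((isUnit_spec_iff h s).mpr hs)

/-- Local cyclicity. -/
theorem exists_cyc {F : X.Modules} (hF : Coh.IsQCoh F) {x ξ : X} (h : ξ ⤳ x)
    (hξ : RelCanon.InvertibleAt F ξ) :
    ∃ y : F.presheaf.stalk x, ∀ m : F.presheaf.stalk x, ∃ t, t ∉ (primeOf h).asIdeal ∧
      ∃ b : X.presheaf.stalk x, t • m = b • y := by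
  obtain ⟨y, hy⟩ := exists_gen_spec hF h hξ
  refine ⟨y, fun m => ?_⟩
  obtain ⟨c, hc⟩ := hy.2 (F.presheaf.stalkSpecializes h m)
  obtain ⟨b, s, hs, hbs⟩ := exists_spec_mul_eq h c
  obtain ⟨t, ht, hte⟩ := exists_smul_eq h hF (m := s • m) (m' := b • y) (by
    rw [spec_smul, spec_smul, ← hc, ← hbs, mul_smul])
  refine ⟨t * s, ?_, t * b, by rw [mul_smul, mul_smul, hte]⟩
  intro hts
  rcases (primeOf h).2.mem_or_mem hts with h1 | h1
  · exact ht h1
  · exact hs h1

/-- **The power function.** -/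
theorem exists_pow_fun {F G : X.Modules} (hF : Coh.IsQCoh F) (k : ℕ) (y : X)
    (U : X.Opens) (hFinv : ∀ z ∈ U, RelCanon.InvertibleAt F z)
    (γ : CohB1.tensorPow F k ⟶ G) (hγ : ∀ z ∈ U, Function.Bijective (stalkMapₗ γ z))
    (g : X.presheaf.stalk y ≃ₗ[X.presheaf.stalk y] G.presheaf.stalk y) :
    ∃ q : F.presheaf.stalk y → X.presheaf.stalk y, (∀ b m, q (b • m) = b ^ k * q m) ∧
      ∀ (w : X) (h : w ⤳ y), w ∈ U → ∃ m, q m ∉ (primeOf h).asIdeal := by
  refine ⟨fun m => g.symm (stalkMapₗ γ y (pw F y k m)), fun b m => ?_, fun w h hw => ?_⟩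
  · change g.symm (stalkMapₗ γ y (pw F y k (b • m))) = b ^ k * g.symm (stalkMapₗ γ y (pw F y k m))
    rw [pw_smul, map_smul, map_smul, smul_eq_mul]
  · obtain ⟨m, hm⟩ := exists_gen_spec hF h (hFinv w hw)
    refine ⟨m, ?_⟩
    rw [← isUnit_spec_iff]
    have h1 := gen_map (gen_pw F w k hm) (stalkMapₗ γ w) (hγ w hw)
    refine isUnit_of_gen (v := G.presheaf.stalkSpecializes h (g 1)) h1 ?_
    rw [← pw_spec, K476.RefPow1.stalkMapₗ_specializes, ← spec_smul, ← map_smul, smul_eq_mul, mul_one,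
      g.apply_symm_apply]

end Pow

section Theta

variable {X S : Scheme.{u}} (f : X ⟶ S)

/-- Primes containing `m_s O_{X, i z}` are generizations in the fibre. -/
theorem exists_fibre_prime (s : S) (z : f.fiber s) (p : Ideal (X.presheaf.stalk (f.fiberι s z)))
    [hp : p.IsPrime] (h : fibreIdeal f (f.fiberι s z) ≤ p) :
    ∃ (w : f.fiber s) (hw : w ⤳ z), p = (primeOf (hw.map (f.fiberι s).continuous)).asIdeal := by
  set φ := ((f.fiberι s).stalkMap z).hom with hφ
  have hφs : Function.Surjective φ := stalkMap_fiberι_surjective f s z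
  have hker : RingHom.ker φ ≤ p := (ker_stalkMap_fiberι f s z).le.trans h
  have hp' : (p.map φ).IsPrime := Ideal.map_isPrime_of_surjective hφs hker
  let P : PrimeSpectrum ((f.fiber s).presheaf.stalk z) := ⟨p.map φ, hp'⟩
  refine ⟨ptOf P, ptOf_specializes P, ?_⟩
  rw [← comap_primeOf (f.fiberι s) (ptOf_specializes P), primeOf_ptOf]
  change p = (p.map φ).comap φ
  rw [Ideal.comap_map_of_surjective φ hφs, ← RingHom.ker_eq_comap_bot, sup_eq_left.mpr hker]

/-- **The map `θ`.** -/
theorem exists_theta {F : X.Modules} {s : S} {G : (f.fiber s).Modules} (hG : Coh.IsQCoh G)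
    (hF : Coh.IsQCoh ((Scheme.Modules.pullback (f.fiberι s)).obj F)) (U : X.Opens)
    (β : (Scheme.Modules.pullback (f.fiberι s)).obj F ⟶ G)
    (hβ : ∀ w : f.fiber s, f.fiberι s w ∈ U → Function.Bijective (stalkMapₗ β w)) (z : f.fiber s)
    (g : (f.fiber s).presheaf.stalk z ≃ₗ[(f.fiber s).presheaf.stalk z] G.presheaf.stalk z) :
    ∃ θ : F.presheaf.stalk (f.fiberι s z) →ₗ[X.presheaf.stalk (f.fiberι s z)]
        (X.presheaf.stalk (f.fiberι s z) ⧸ fibreIdeal f (f.fiberι s z)),
      ∀ (w : f.fiber s) (h : w ⤳ z), f.fiberι s w ∈ U →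
        ∃ (m : F.presheaf.stalk (f.fiberι s z)) (b : X.presheaf.stalk (f.fiberι s z)),
          θ m = Ideal.Quotient.mk _ b ∧
            b ∉ (primeOf (h.map (f.fiberι s).continuous)).asIdeal := by
  let ε := fiberStalkEquiv f s z
  have hε : ∀ a, ε.symm (((f.fiberι s).stalkMap z).hom a) = Ideal.Quotient.mk _ a := by
    intro a
    rw [RingEquiv.symm_apply_eq]
    exact (fiberStalkEquiv_mk f s z a).symm
  let θ : F.presheaf.stalk (f.fiberι s z) →ₗ[X.presheaf.stalk (f.fiberι s z)]
        (X.presheaf.stalk (f.fiberι s z) ⧸ fibreIdeal f (f.fiberι s z)) :=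
    { toFun := fun m => ε.symm (g.symm (stalkMapₗ β z (canAdd (f.fiberι s) F z m)))
      map_add' := fun a b => by simp only [map_add]
      map_smul' := fun r m => by
        have h1 : canAdd (f.fiberι s) F z (r • m) =
            (((f.fiberι s).stalkMap z).hom r) • canAdd (f.fiberι s) F z m := canAdd_smul _ _ _ r m
        rw [h1, map_smul, map_smul, smul_eq_mul, map_mul, hε]
        rfl }
  refine ⟨θ, fun w h hw => ?_⟩
  obtain ⟨v, hv⟩ := (hβ w hw).2 (G.presheaf.stalkSpecializes h (g 1))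
  obtain ⟨m, c, hc, hm⟩ := exists_spec_eq h hF v
  obtain ⟨t, ht, hte⟩ := exists_smul_eq h hG (m := stalkMapₗ β z m) (m' := c • g 1) (by
    rw [spec_smul, ← hv, ← map_smul, ← hm, K476.RefPow1.stalkMapₗ_specializes])
  obtain ⟨y, hy⟩ := FibMap.canAdd_surjective f F s z (t • m)
  obtain ⟨b, hb⟩ := stalkMap_fiberι_surjective f s z (t * c)
  refine ⟨y, b, ?_, ?_⟩
  · change ε.symm (g.symm (stalkMapₗ β z (canAdd (f.fiberι s) F z y))) = _
    rw [hy, map_smul, hte, smul_smul, map_smul, g.symm_apply_apply, smul_eq_mul, mul_one, ← hb, hε]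
  · rw [← comap_primeOf (f.fiberι s) h, Ideal.mem_comap, hb]
    intro htc
    rcases (primeOf h).2.mem_or_mem htc with h1 | h1
    · exact ht h1
    · exact hc h1

end Theta

section Main

variable {X S : Scheme.{u}} (f : X ⟶ S) [IsLocallyNoetherian X] [IsLocallyNoetherian S]

/-- **The local key lemma (b) on a scheme.** -/
theorem invertibleAt_of_pow (hS : RelCanon.IsSkMor f 2) (U : X.Opens) (s : S) (z : f.fiber s)
    (hcod : ∀ z' : X, z' ∉ U →
      (2 : WithBot ℕ∞) ≤ ringKrullDim ((f.fiber (f z')).presheaf.stalk (f.asFiber z')))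
    (F : X.Modules) (L : X.Modules) (hL : Coh.IsCoh L) (hF : F = dual L)
    (hFinv : ∀ z ∈ U, RelCanon.InvertibleAt F z)
    (K : (f.fiber s).Modules) (hK : Coh.IsCoh K)
    (α : ((Scheme.Modules.pullback (f.fiberι s)).obj F).restrict ((f.fiberι s) ⁻¹ᵁ U).ι ≅
      (dual K).restrict ((f.fiberι s) ⁻¹ᵁ U).ι)
    (hKz : RelCanon.InvertibleAt (dual K) z)
    (k : ℕ) (hk : IsUnit (k : X.presheaf.stalk (f.fiberι s z)))
    (L' : X.Modules) (hL' : Coh.IsCoh L')
    (γ₀ : (CohB1.tensorPow F k).restrict U.ι ≅ (dual L').restrict U.ι)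
    (hGz : RelCanon.InvertibleAt (dual L') (f.fiberι s z)) :
    RelCanon.InvertibleAt F (f.fiberι s z) := by
  haveI := hS.1
  haveI := hS.2.1
  haveI := K66.Fibre.isLocallyNoetherian_fiber f s
  set y := f.fiberι s z with hy
  obtain ⟨g⟩ := K970.InvAt.nonempty_stalk_equiv _ hGz
  obtain ⟨g'⟩ := K970.InvAt.nonempty_stalk_equiv _ hKz
  have hX : ∀ z' : X, z' ∉ U → 2 ≤ LocCoh.depth (X.presheaf.stalk z') (X.presheaf.stalk z') :=
    fun z' hz' => K967.FibDepth.two_le_depth_stalk f hS z' (hcod z' hz')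
  have hFc : Coh.IsCoh F := by rw [hF]; exact K476.HomSh4.isCoh_dual hL
  have hFd : ∀ z' : X, z' ∉ U → 2 ≤ LocCoh.depth (X.presheaf.stalk z') (F.presheaf.stalk z') := by
    intro z' hz'
    rw [hF]
    exact two_le_depth_dual hL z' (hX z' hz')
  have hG : Coh.IsCoh (dual L') := K476.HomSh4.isCoh_dual hL'
  obtain ⟨γ, hγ0⟩ := Dual.H375.Hartogs.exists_extend hG U
    (fun w hw => two_le_depth_dual hL' w (hX w hw)) γ₀.hom
  have hγ : ∀ w ∈ U, Function.Bijective (stalkMapₗ γ w) := by
    intro w hw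
    have h1 := bijective_restrict_iff U.ι γ ⟨w, hw⟩
    rw [hγ0] at h1
    exact h1.mp (K476.HomSh4.bijective_stalkMapₗ_of_isIso _ _)
  obtain ⟨q, hq, hq'⟩ := exists_pow_fun hFc.1 k y U hFinv γ hγ g
  obtain ⟨β, hβ⟩ := FibMap.exists_map f hS U s (fun z' _ => hcod z') hK α
  obtain ⟨θ, hθ⟩ : ∃ θ : F.presheaf.stalk y →ₗ[X.presheaf.stalk y]
        (X.presheaf.stalk y ⧸ fibreIdeal f y),
      ∀ (w : f.fiber s) (h : w ⤳ z), f.fiberι s w ∈ U →
        ∃ (m : F.presheaf.stalk y) (b : X.presheaf.stalk y),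
          θ m = Ideal.Quotient.mk _ b ∧
            b ∉ (primeOf (h.map (f.fiberι s).continuous)).asIdeal :=
    exists_theta f (K476.HomSh4.isCoh_dual hK).1
      (FormalA.PullbackQC.isCoh_pullback (f.fiberι s) F hFc).1 U β hβ z g'
  letI iA : Algebra (S.presheaf.stalk (f y)) (X.presheaf.stalk y) := (f.stalkMap y).hom.toAlgebra
  haveI : Module.Finite (X.presheaf.stalk y) (F.presheaf.stalk y) := Divis.StalkMod.finite_stalk hFc y
  haveI : IsLocalHom (algebraMap (S.presheaf.stalk (f y)) (X.presheaf.stalk y)) :=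
    inferInstanceAs (IsLocalHom (f.stalkMap y).hom)
  haveI : Module.Flat (S.presheaf.stalk (f y)) (X.presheaf.stalk y) := Flat.stalkMap f y
  haveI : Module.IsReflexive (X.presheaf.stalk y) (F.presheaf.stalk y) :=
    K66.S3Crit.isReflexive_stalk F hFc U y (fun w hw _ => hFinv w hw)
      (fun w _ hw => le_trans (by norm_num) (hX w hw)) (fun w _ hw => hFd w hw)
  set φ : X.presheaf.stalk y →+* (f.fiber s).presheaf.stalk z := ((f.fiberι s).stalkMap z).hom with hφ
  have hφs : Function.Surjective φ := stalkMap_fiberι_surjective f s z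
  set J := offIdeal U y with hJ
  have hJφ : ∀ (w : f.fiber s) (h : w ⤳ z), J.map φ ≤ (primeOf h).asIdeal ↔ f.fiberι s w ∉ U := by
    intro w h
    rw [Ideal.map_le_iff_le_comap, hφ, comap_primeOf, hJ, offIdeal_le_primeOf_iff]
  have hB : 2 ≤ LocCoh.idealDepth J (X.presheaf.stalk y ⧸
      EGA4.mB (S.presheaf.stalk (f y)) (X.presheaf.stalk y)) := by
    change 2 ≤ LocCoh.idealDepth J (X.presheaf.stalk y ⧸ fibreIdeal f y)
    let eR : (X.presheaf.stalk y ⧸ fibreIdeal f y) ≃+* (f.fiber s).presheaf.stalk z :=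
      (Ideal.quotEquivOfEq (ker_stalkMap_fiberι f s z).symm).trans
        (RingHom.quotientKerEquivOfSurjective (stalkMap_fiberι_surjective f s z))
    rw [Ega4A.DepthBasic.idealDepth_congr_of_surjective φ hφs J
      (X.presheaf.stalk y ⧸ fibreIdeal f y) ((f.fiber s).presheaf.stalk z) eR.toAddEquiv (by
        intro r m
        obtain ⟨m, rfl⟩ := Ideal.Quotient.mk_surjective m
        change eR (Ideal.Quotient.mk _ (r * m)) = φ r * eR (Ideal.Quotient.mk _ m)
        rw [map_mul, map_mul]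
        rfl)]
    exact (le_idealDepth_ring_iff' z (J.map φ) 2).mpr fun w h hw =>
      FibMap.two_le_depth f hS U s (fun z' _ => hcod z') w ((hJφ w h).mp hw)
  have hpt : ∀ (p : Ideal (X.presheaf.stalk y)) [p.IsPrime], ¬ J ≤ p →
      EGA4.mB (S.presheaf.stalk (f y)) (X.presheaf.stalk y) ≤ p →
      ∃ (w : f.fiber s) (hw : w ⤳ z), f.fiberι s w ∈ U ∧
        p = (primeOf (hw.map (f.fiberι s).continuous)).asIdeal := by
    intro p _ hJp hp
    obtain ⟨w, hw, hpw⟩ := exists_fibre_prime f s z p hp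
    refine ⟨w, hw, ?_, hpw⟩
    by_contra hwU
    apply hJp
    rw [hpw]
    exact (offIdeal_le_primeOf_iff U _).mpr hwU
  refine (K970.InvAt.invertibleAt_iff_stalk_equiv hFc y).mpr ?_
  obtain ⟨e⟩ := K968.LocKey.iso_of_pow (A := S.presheaf.stalk (f y)) (B := X.presheaf.stalk y) hB
    (F.presheaf.stalk y)
    (fun Q hQ => K66.S3Crit.free_of_off F hFc.1 U y (fun w hw _ => hFinv w hw) Q hQ)
    (fun p _ hJp hp => by
      obtain ⟨w, hw, hwU, hpw⟩ := hpt p hJp hp
      rw [hpw]
      exact exists_cyc hFc.1 (hw.map (f.fiberι s).continuous) (hFinv _ hwU))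
    θ
    (fun p _ hJp hp => by
      obtain ⟨w, hw, hwU, hpw⟩ := hpt p hJp hp
      rw [hpw]
      exact hθ w hw hwU)
    k hk q hq
    (fun p _ hJp hp => by
      obtain ⟨w, hw, hwU, hpw⟩ := hpt p hJp hp
      rw [hpw]
      exact hq' _ (hw.map (f.fiberι s).continuous) hwU)
  exact ⟨e.symm⟩

end Main

end K967.PowFun
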