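import Groth.Agent.QGor.K967.BCOmega
import Groth.Agent.QGor.K967.OmegaSupp
import Groth.Agent.QGor.K970.RefPow
import Groth.Agent.KSix.K239.UnitFlat

/-!
# Invertible relative dualizing sheaves

* `relSkAt_of_invertibleAt`: an invertible module satisfies relative `S_k` for an `S_k`-morphism;
* `isDualizingSheaf_fibre`: a relatively `S_2` dualizing sheaf restricts to the dualizing sheaf of the
  fibres.
-/

set_option autoImplicit false
universe u
open CategoryTheory CategoryTheory.Limits AlgebraicGeometry TopologicalSpace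

namespace K967.QGorInv

open Groth.Agent K970.RelSk1

theorem relSkAt_structureModule {X S : Scheme.{u}} (f : X ⟶ S) (k : ℕ) (hS : RelCanon.IsSkMor f k)
    (x : X) : RelCanon.RelSkAt f k (Coh.structureModule X) x :=
  have := hS.1
  ⟨(K239.UnitFlat.isFlatOverAt_unit_iff f x).2 (AlgebraicGeometry.Flat.stalkMap f x),
    skAt_of_iso k (FormalA.PullbackQC.pullbackUnitIso (f.fiberι (f x))).symm _ (hS.2.2 x)⟩

theorem relSkAt_of_invertibleAt {X S : Scheme.{u}} (f : X ⟶ S) (k : ℕ) (hS : RelCanon.IsSkMor f k)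
    {F : X.Modules} (x : X) (h : RelCanon.InvertibleAt F x) : RelCanon.RelSkAt f k F x := by
  obtain ⟨e⟩ := K970.InvAt.nonempty_stalk_equiv x h
  exact relSkAt_of_equiv f k x ((Fdesc.StructMod.stalkEquiv x).symm.trans e)
    (relSkAt_structureModule f k hS x)

section Main

variable (A : Type u) [CommRing A] [IsNoetherianRing A] (Y : Scheme.{u})
  [Y.Over (Spec (CommRingCat.of A))] [IsProper (Y ↘ Spec (CommRingCat.of A))] (d : ℕ)
  (hS : RelCanon.IsSkMor (Y ↘ Spec (CommRingCat.of A)) 2)
  (hd : Cyc.HasRelDim (Y ↘ Spec (CommRingCat.of A)) d)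
  (ω : Y.Modules) (hω : RelCanon.IsDualizingSheaf A Y d ω)
  (h2 : RelCanon.RelSk (Y ↘ Spec (CommRingCat.of A)) 2 ω)

include hS hd hω h2

/-- The restriction to a fibre is dualizing. -/
theorem isDualizingSheaf_fibre (t : Spec (CommRingCat.of A)) :
    RelCanon.IsDualizingSheafFib (Y ↘ Spec (CommRingCat.of A)) d ω t := by
  have hflat := hS.1
  let _ : ((Y ↘ Spec (CommRingCat.of A)).fiber t).Over
      (Spec (CommRingCat.of ((Spec (CommRingCat.of A)).residueField t))) :=
    ⟨(Y ↘ Spec (CommRingCat.of A)).fiberToSpecResidueField t⟩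
  exact BCOmega.isDualizingSheaf_pullback A Y d hS hd ω hω h2
    (OmegaSupp.nontrivial_stalk A Y d hd ω hω) _ (K970.BCHyp.toRes t).hom _
    ((Y ↘ Spec (CommRingCat.of A)).fiberι t)
    (K970.BCHyp.isPullback_fibre (Y ↘ Spec (CommRingCat.of A)) t)

end Main

end K967.QGorInv
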