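import Groth.Agent.QGor.K968.TPow
import Groth.Agent.SDiv.K476.HomSh4
import Groth.Agent.Fdesc.AssFlat
import Groth.Agent.QGor.K970.RefPow

/-!
# Stalks of reflexive powers

The stalk of `F^{[r]}` (for a coherent `F`) is the double dual of the `r`-th tensor power of the stalk of `F`.
-/

set_option autoImplicit false
universe u

open AlgebraicGeometry CategoryTheory Limits TensorProduct

namespace K967.RefStalk

open Groth.Agent Groth.Agent.Fdesc.AssFlat

variable {X : Scheme.{u}}

/-- The stalk of the tensor power is the tensor power of the stalk. -/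
noncomputable def tpEquiv (F : X.Modules) (x : X) : ∀ n : ℕ,
    (CohB1.tensorPow F n).presheaf.stalk x ≃ₗ[X.presheaf.stalk x]
      K968.TPow.TP (X.presheaf.stalk x) (F.presheaf.stalk x) n
  | 0 => (Fdesc.StructMod.stalkEquiv x).symm
  | n + 1 => (tensorModStalk (CohB1.tensorPow F n) F x).trans
      (TensorProduct.congr (tpEquiv F x n) (LinearEquiv.refl _ _))

/-- The stalk of `F^{[r]}`. -/
theorem nonempty_equiv [IsLocallyNoetherian X] {F : X.Modules} (hF : Coh.IsCoh F) (r : ℕ) (x : X) :
    Nonempty ((RelCanon.refPowZ F (r : ℤ)).presheaf.stalk x ≃ₗ[X.presheaf.stalk x]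
      K968.TPow.R (X.presheaf.stalk x) (F.presheaf.stalk x) r) := by
  have h1 : Coh.IsCoh (CohB1.tensorPow F r) := K970.RefPow.isCoh_tensorPow hF r
  have e := K476.HomSh4.ddualStalkEquiv (CohB1.tensorPow F r) (K476.HomSh3.isFP_of_isCoh h1)
    (K476.HomSh3.isFP_of_isCoh (K476.HomSh4.isCoh_dual h1)) x
  exact ⟨e.trans (LinearEquiv.congrLeft (X.presheaf.stalk x) (X.presheaf.stalk x)
    (LinearEquiv.congrLeft (X.presheaf.stalk x) (X.presheaf.stalk x) (tpEquiv F x r)))⟩

end K967.RefStalk
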